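import Mathlib.Data.Fintype.Card
import Mathlib.Algebra.Order.BigOperators.Group.Finset
import Mathlib.Algebra.Order.Chebyshev
import Cfsg.Agent.Blocks.Dihedral.Comb

/-!
# The arithmetic of blocks with quaternion or semidihedral defect group

The integer matrices of the contributions of the identity and of the involution, together with the
integer coefficients of the rotation columns, determine the number and heights of the characters.
-/

set_option autoImplicit false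

namespace Cfsg.Agent.Blocks.Tame2

open Finset Cfsg.Agent.Blocks.Dihedral

variable {ι κ κ' : Type*} [Fintype ι] [Fintype κ] [Fintype κ'] [DecidableEq ι]

/-- The norm form of the rotation columns; `N` is a quarter of the order of the defect group. -/
def rotForm (N : ℤ) (w : ι → ℤ) (v : κ → ι → ℤ) (o : κ' → ι → ℤ) (χ ψ : ι) : ℤ :=
  2 * N * (w χ * w ψ + 2 * ∑ k, v k χ * v k ψ + 2 * ∑ k, o k χ * o k ψ) -
    2 * ((w χ + 2 * ∑ k, v k χ) * (w ψ + 2 * ∑ k, v k ψ) + 4 * ((∑ k, o k χ) * ∑ k, o k ψ))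

/-- An idempotent up to `4N` with the divisibility given by the heights. -/
structure IsSection (N : ℤ) (ht : ι → ℕ) (R : ι → ι → ℤ) : Prop where
  symm : ∀ χ ψ, R χ ψ = R ψ χ
  sq : ∀ χ ψ, ∑ φ, R χ φ * R φ ψ = 4 * N * R χ ψ
  spec : ∀ χ ψ, ∃ k : ℤ, R χ ψ = 2 ^ ht χ * k ∧ (Even k ↔ ht ψ ≠ 0)

/-- The data attached to a block. -/
structure Data (ι κ κ' : Type*) [Fintype ι] [Fintype κ] [Fintype κ'] [DecidableEq ι]
    [DecidableEq κ] [DecidableEq κ'] where
  a : ℕ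
  N : ℤ
  w : ι → ℤ
  v : κ → ι → ℤ
  o : κ' → ι → ℤ
  ht : ι → ℕ
  R : ι → ι → ℤ
  S : ι → ι → ℤ
  T : ι → ι → ℤ
  r : ℕ
  l : ℕ
  lz : ℕ
  hN : N = 2 ^ (a + 1)
  hκ : Fintype.card κ + 1 = 2 ^ a
  hκ' : Fintype.card κ' + 1 = 2 ^ a
  hww : ∑ χ, w χ * w χ = 4
  hwv : ∀ k, ∑ χ, w χ * v k χ = 2
  hvv : ∀ k j, ∑ χ, v k χ * v j χ = if k = j then 3 else 2
  hoo : ∀ k j, ∑ χ, o k χ * o j χ = if k = j then 2 else 1
  hwo : ∀ k, ∑ χ, w χ * o k χ = 0
  hodd : ∀ χ, ht χ = 0 ↔ Odd (w χ)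
  h0 : ∃ χ, ht χ = 0
  hR : IsSection N ht R
  hS : IsSection N ht S
  hT : ∀ χ ψ, T χ ψ = (if χ = ψ then 4 * N else 0) - R χ ψ - S χ ψ - rotForm N w v o χ ψ
  hT0 : ∀ χ, 0 ≤ T χ χ
  hTrow : ∀ χ, T χ χ = 0 → ∀ ψ, T χ ψ = 0
  htrR : ∑ χ, R χ χ = 4 * N * l
  htrS : ∑ χ, S χ χ = 4 * N * lz
  hl : 1 ≤ l
  hlz : 1 ≤ lz
  hr : r ≤ 2
  hr1 : a = 0 → r ≠ 1
  hzero : r = 0 → ∀ χ, T χ χ = 0
  hpos : r ≠ 0 → ∀ χ, ht χ = 0 → 0 < T χ χ
  hone : r = 1 → ∀ χ, ht χ = 0 → 2 * N ∣ T χ χ - N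
  htwo : r = 2 → ∀ χ, ht χ = 0 → 2 * N ∣ T χ χ
  hdvd : a ≠ 0 → ∀ χ, w χ = 0 → (∀ k, v k χ = 0) → (∀ k, o k χ = 0) → ∀ ψ, N ∣ R χ ψ

namespace IsSection

variable {N : ℤ} {ht : ι → ℕ} {R : ι → ι → ℤ} (h : IsSection N ht R)
include h

omit [DecidableEq ι] in
theorem row_sq (χ : ι) : ∑ φ, R χ φ * R χ φ = 4 * N * R χ χ := by
  rw [← h.sq χ χ]
  exact sum_congr rfl fun φ _ => by rw [h.symm φ χ]

omit [DecidableEq ι] in
theorem sq_le (χ ψ : ι) : R χ ψ * R χ ψ ≤ 4 * N * R χ χ := by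
  rw [← h.row_sq χ]
  exact single_le_sum (f := fun φ => R χ φ * R χ φ) (fun _ _ => mul_self_nonneg _) (mem_univ ψ)

theorem sq_add_sq_le {χ ψ φ : ι} (hne : ψ ≠ φ) :
    R χ ψ * R χ ψ + R χ φ * R χ φ ≤ 4 * N * R χ χ := by
  rw [← h.row_sq χ]
  refine (sum_pair (f := fun x => R χ x * R χ x) hne).symm.trans_le ?_
  exact sum_le_sum_of_subset_of_nonneg (subset_univ _) fun _ _ _ => mul_self_nonneg _

omit [DecidableEq ι] in
theorem ne_zero (χ : ι) {a : ι} (ha : ht a = 0) : R χ a ≠ 0 := by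
  obtain ⟨k, hk, hiff⟩ := h.spec χ a
  rw [hk]
  refine mul_ne_zero (pow_ne_zero _ two_ne_zero) fun h0 => ?_
  exact hiff.1 (h0 ▸ Even.zero) ha

omit [DecidableEq ι] in
theorem diag_pos (hN : 0 < N) (hex : ∃ a, ht a = 0) (χ : ι) : 0 < R χ χ := by
  obtain ⟨a, ha⟩ := hex
  have h1 := h.sq_le χ a
  have h2 := mul_self_pos.2 (h.ne_zero χ ha)
  exact pos_of_mul_pos_right (lt_of_lt_of_le h2 h1) (by linarith)

omit [DecidableEq ι] in
theorem dvd_of_ne (χ : ι) {ψ : ι} (hψ : ht ψ ≠ 0) : (2 : ℤ) ^ (ht χ + 1) ∣ R χ ψ := by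
  obtain ⟨k, hk, hiff⟩ := h.spec χ ψ
  obtain ⟨c, hc⟩ := hiff.2 hψ
  exact ⟨c, by rw [hk, hc]; ring⟩

omit [DecidableEq ι] in
theorem four_le_diag (hN : 0 < N) (hex : ∃ a, ht a = 0) {χ : ι} (hχ : ht χ ≠ 0) : 4 ≤ R χ χ := by
  refine Int.le_of_dvd (h.diag_pos hN hex χ) (Dvd.dvd.trans ?_ (h.dvd_of_ne χ hχ))
  exact (pow_dvd_pow 2 (show 2 ≤ ht χ + 1 by omega) : (2 : ℤ) ^ 2 ∣ _)

omit [DecidableEq ι] in
theorem height_le (hN : 0 < N) (hex : ∃ a, ht a = 0) {χ : ι} (hχ : ht χ ≠ 0) {n : ℕ}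
    (hle : R χ χ ≤ 2 ^ n) : ht χ + 1 ≤ n := by
  by_contra hlt
  have h1 := Int.le_of_dvd (h.diag_pos hN hex χ) (h.dvd_of_ne χ hχ)
  have h2 : (2 : ℤ) ^ n < 2 ^ (ht χ + 1) := pow_lt_pow_right₀ (by norm_num) (by omega)
  linarith

/-- A pairwise orthogonal set of rows is not larger than the trace. -/
theorem card_le_trace (hN : 0 < N) (hex : ∃ a, ht a = 0) (A : Finset ι)
    (hA : ∀ χ ∈ A, ∀ ψ ∈ A, χ ≠ ψ → R χ ψ = 0) : 4 * N * A.card ≤ ∑ φ, R φ φ := by
  have hd : ∀ χ, (0 : ℚ) < (R χ χ : ℚ) := fun χ => by exact_mod_cast h.diag_pos hN hex χ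
  have hN' : (0 : ℚ) < (N : ℚ) := by exact_mod_cast hN
  have hsq : ∀ χ ψ, ∑ φ, (R χ φ : ℚ) * (R φ ψ : ℚ) = 4 * (N : ℚ) * (R χ ψ : ℚ) := fun χ ψ => by
    exact_mod_cast h.sq χ ψ
  have hsymm : ∀ χ ψ, (R χ ψ : ℚ) = (R ψ χ : ℚ) := fun χ ψ => by rw [h.symm]
  have hbes : ∀ φ, ∑ χ ∈ A, (R χ φ : ℚ) * (R χ φ : ℚ) / (R χ χ : ℚ) ≤ (R φ φ : ℚ) := by
    intro φ
    set c : ι → ℚ := fun χ => (R χ φ : ℚ) / (R χ χ : ℚ) with hc
    have h0 : (0 : ℚ) ≤ ∑ ψ, ((R φ ψ : ℚ) - ∑ χ ∈ A, c χ * (R χ ψ : ℚ)) ^ 2 :=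
      sum_nonneg fun _ _ => sq_nonneg _
    have e1 : ∑ ψ, (R φ ψ : ℚ) * (R φ ψ : ℚ) = 4 * (N : ℚ) * (R φ φ : ℚ) := by
      rw [← hsq φ φ]; exact sum_congr rfl fun ψ _ => by rw [hsymm ψ φ]
    have e2 : ∑ ψ, (R φ ψ : ℚ) * ∑ χ ∈ A, c χ * (R χ ψ : ℚ) =
        4 * (N : ℚ) * ∑ χ ∈ A, (R χ φ : ℚ) * (R χ φ : ℚ) / (R χ χ : ℚ) := by
      simp only [mul_sum]
      rw [sum_comm]
      refine sum_congr rfl fun χ _ => ?_
      rw [sum_congr rfl (g := fun ψ => c χ * ((R φ ψ : ℚ) * (R ψ χ : ℚ))) fun ψ _ => by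
        rw [hsymm ψ χ]; ring, ← mul_sum, hsq, hc, hsymm φ χ]
      ring
    have e3 : ∑ ψ, (∑ χ ∈ A, c χ * (R χ ψ : ℚ)) * (∑ χ ∈ A, c χ * (R χ ψ : ℚ)) =
        4 * (N : ℚ) * ∑ χ ∈ A, (R χ φ : ℚ) * (R χ φ : ℚ) / (R χ χ : ℚ) := by
      simp only [sum_mul_sum]
      rw [sum_comm, mul_sum]
      refine sum_congr rfl fun χ hχ => ?_
      rw [sum_comm, sum_eq_single χ]
      · rw [sum_congr rfl (g := fun ψ => c χ * c χ * ((R χ ψ : ℚ) * (R ψ χ : ℚ))) fun ψ _ => by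
          rw [hsymm ψ χ]; ring, ← mul_sum, hsq, hc]
        have := (hd χ).ne'
        field_simp
      · intro χ' hχ' hne
        rw [sum_congr rfl (g := fun ψ => c χ * c χ' * ((R χ ψ : ℚ) * (R ψ χ' : ℚ))) fun ψ _ => by
          rw [hsymm ψ χ']; ring, ← mul_sum, hsq, hA χ hχ χ' hχ' (Ne.symm hne)]
        simp
      · exact fun hn => absurd hχ hn
    rw [sum_congr rfl (g := fun ψ => (R φ ψ : ℚ) * (R φ ψ : ℚ) -
        2 * ((R φ ψ : ℚ) * ∑ χ ∈ A, c χ * (R χ ψ : ℚ)) +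
          (∑ χ ∈ A, c χ * (R χ ψ : ℚ)) * (∑ χ ∈ A, c χ * (R χ ψ : ℚ))) fun ψ _ => by ring,
      sum_add_distrib, sum_sub_distrib, ← mul_sum, e1, e2, e3] at h0
    nlinarith
  have hsum : ((4 * N * A.card : ℤ) : ℚ) ≤ ((∑ φ, R φ φ : ℤ) : ℚ) := by
    push_cast
    calc 4 * (N : ℚ) * (A.card : ℚ) = ∑ χ ∈ A, 4 * (N : ℚ) := by
          rw [sum_const, nsmul_eq_mul]; ring
      _ = ∑ φ, ∑ χ ∈ A, (R χ φ : ℚ) * (R χ φ : ℚ) / (R χ χ : ℚ) := by
          rw [sum_comm]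
          refine sum_congr rfl fun χ _ => ?_
          rw [← sum_div, sum_congr rfl (g := fun φ => (R χ φ : ℚ) * (R φ χ : ℚ)) fun φ _ => by
            rw [hsymm φ χ], hsq, mul_div_cancel_right₀ _ (hd χ).ne']
      _ ≤ _ := sum_le_sum fun φ _ => hbes φ
  exact_mod_cast hsum

end IsSection

namespace Data

variable [DecidableEq κ] [DecidableEq κ']

/-- The number of rotation vectors in each family. -/
abbrev m (_d : Data ι κ κ') : ℤ := (Fintype.card κ : ℤ)

variable (d : Data ι κ κ')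

/-- The diagonal of the norm form. -/
abbrev rot (χ : ι) : ℤ := rotForm d.N d.w d.v d.o χ χ

/-- No coefficient of a rotation column is nonzero. -/
def Flat (χ : ι) : Prop := d.w χ = 0 ∧ (∀ k, d.v k χ = 0) ∧ ∀ k, d.o k χ = 0

/-- The exceptional configuration. -/
def Bad : Prop := ∃ χ, d.ht χ = 0 ∧ 4 * d.N - 2 ≤ d.rot χ

theorem card_κ' : (Fintype.card κ' : ℤ) = d.m := by
  have h1 := d.hκ
  have h2 := d.hκ'
  exact_mod_cast (show Fintype.card κ' = Fintype.card κ by omega)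

theorem N_eq : d.N = 2 * (d.m + 1) := by
  rw [d.hN, pow_succ', Data.m]
  congr 1
  exact_mod_cast d.hκ.symm

theorem N_pos : 0 < d.N := by rw [d.hN]; positivity

theorem m_eq_zero_iff : d.m = 0 ↔ d.a = 0 := by
  have h := d.hκ
  simp only [Data.m, Int.natCast_eq_zero]
  refine ⟨fun h0 => ?_, fun h0 => ?_⟩
  · rw [h0, zero_add] at h
    exact (Nat.pow_eq_one.1 h.symm).resolve_left (by norm_num)
  · rw [h0, pow_zero] at h; omega

theorem m_cases : d.m = 0 ∨ d.m = 1 ∨ (3 ≤ d.m ∧ 2 ≤ d.a) := by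
  have h := d.hκ
  simp only [Data.m]
  rcases Nat.eq_zero_or_pos d.a with ha | ha
  · rw [ha, pow_zero] at h; exact Or.inl (by omega)
  rcases Nat.lt_or_ge d.a 2 with ha2 | ha2
  · rw [show d.a = 1 by omega, pow_one] at h; exact Or.inr (Or.inl (by omega))
  · have : 2 ^ 2 ≤ 2 ^ d.a := Nat.pow_le_pow_right two_pos ha2
    exact Or.inr (Or.inr ⟨by omega, ha2⟩)

theorem w_small (χ : ι) : d.w χ = -1 ∨ d.w χ = 0 ∨ d.w χ = 1 := by
  refine abs_le_one_of_sq_lt_four (lt_of_le_of_ne ?_ fun he => ?_)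
  · rw [← d.hww]
    exact single_le_sum (f := fun φ => d.w φ * d.w φ) (fun _ _ => mul_self_nonneg _) (mem_univ χ)
  · obtain ⟨a, ha⟩ := d.h0
    have hodd := (d.hodd a).1 ha
    rcases eq_or_ne a χ with rfl | hne
    · obtain ⟨c, hc⟩ := hodd.mul hodd
      omega
    · have h1 : d.w a * d.w a + d.w χ * d.w χ ≤ 4 := by
        rw [← d.hww]
        refine (sum_pair (f := fun x => d.w x * d.w x) hne).symm.trans_le ?_
        exact sum_le_sum_of_subset_of_nonneg (subset_univ _) fun _ _ _ => mul_self_nonneg _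
      have h2 : d.w a ≠ 0 := fun h => by simp [h] at hodd
      have := mul_self_pos.2 h2
      omega

theorem ht_zero_iff (χ : ι) : d.ht χ = 0 ↔ d.w χ ≠ 0 := by
  rw [d.hodd χ]
  rcases d.w_small χ with h | h | h <;> simp [h, parity_simps]

theorem w_sq {χ : ι} (h : d.w χ ≠ 0) : d.w χ * d.w χ = 1 := by
  rcases d.w_small χ with h' | h' | h' <;> simp_all

theorem card_zero : (univ.filter fun χ => d.w χ ≠ 0).card = 4 := by
  have : ((univ.filter fun χ => d.w χ ≠ 0).card : ℤ) = 4 := by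
    rw [← d.hww, card_filter]
    push_cast
    refine sum_congr rfl fun χ _ => ?_
    split_ifs with h
    · exact (d.w_sq h).symm
    · rw [not_not.1 h, mul_zero]
  exact_mod_cast this

theorem v_split (k : κ) : ∃ (P : Finset ι) (e : ι), P.card = 2 ∧ d.w e = 0 ∧
    (d.v k e = 1 ∨ d.v k e = -1) ∧ (∀ χ ∈ P, d.w χ ≠ 0 ∧ d.v k χ = d.w χ) ∧
    ∀ χ, d.v k χ ≠ 0 → χ ∈ P ∨ χ = e :=
  exists_split d.w (d.v k) d.w_small (by rw [d.hvv, if_pos rfl]) (d.hwv k)

theorem v_on_zero (k : κ) {χ : ι} (h : d.w χ ≠ 0) : d.v k χ = 0 ∨ d.v k χ = d.w χ := by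
  obtain ⟨P, e, -, he, -, hP, hsupp⟩ := d.v_split k
  by_cases h0 : d.v k χ = 0
  · exact Or.inl h0
  · rcases hsupp χ h0 with h' | h'
    · exact Or.inr (hP χ h').2
    · exact absurd (h' ▸ he) h

theorem v_small (k : κ) (χ : ι) : d.v k χ = -1 ∨ d.v k χ = 0 ∨ d.v k χ = 1 :=
  abs_le_one_of_sq_lt_four (by
    have := single_le_sum (f := fun φ => d.v k φ * d.v k φ) (fun _ _ => mul_self_nonneg _)
      (mem_univ χ)
    simp only [d.hvv, if_true] at this
    omega)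

theorem o_small (k : κ') (χ : ι) : d.o k χ = -1 ∨ d.o k χ = 0 ∨ d.o k χ = 1 :=
  abs_le_one_of_sq_lt_four (by
    have := single_le_sum (f := fun φ => d.o k φ * d.o k φ) (fun _ _ => mul_self_nonneg _)
      (mem_univ χ)
    simp only [d.hoo, if_true] at this
    omega)

/-- The point outside the height zero ones in the support of a rotation vector. -/
noncomputable def ept (k : κ) : ι := (d.v_split k).choose_spec.choose

theorem ept_spec (k : κ) : d.w (d.ept k) = 0 ∧ d.v k (d.ept k) * d.v k (d.ept k) = 1 ∧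
    ∀ χ, d.w χ = 0 → d.v k χ ≠ 0 → χ = d.ept k := by
  obtain ⟨-, he, hv, hP, hsupp⟩ := (d.v_split k).choose_spec.choose_spec
  refine ⟨he, ?_, fun χ hw hχ => ?_⟩
  · rcases hv with h | h
    · rw [show d.v k (d.ept k) = 1 from h]; norm_num
    · rw [show d.v k (d.ept k) = -1 from h]; norm_num
  rcases hsupp χ hχ with h | h
  · exact absurd hw (hP χ h).1
  · exact h

theorem ept_eq {k : κ} {χ : ι} (h : d.v k χ ≠ 0) (hw : d.w χ = 0) : d.ept k = χ :=
  ((d.ept_spec k).2.2 χ hw h).symm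

theorem ept_ne_zero (k : κ) : d.v k (d.ept k) ≠ 0 := fun h => by
  have := (d.ept_spec k).2.1
  rw [h] at this
  simp at this

/-- The number of nonzero rotation coefficients at a point. -/
abbrev nv (χ : ι) : ℤ := ∑ k, d.v k χ * d.v k χ

/-- The number of nonzero odd coefficients at a point. -/
abbrev no (χ : ι) : ℤ := ∑ k, d.o k χ * d.o k χ

theorem nv_nonneg (χ : ι) : 0 ≤ d.nv χ := sum_nonneg fun _ _ => mul_self_nonneg _

theorem no_nonneg (χ : ι) : 0 ≤ d.no χ := sum_nonneg fun _ _ => mul_self_nonneg _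

theorem nv_le (χ : ι) : d.nv χ ≤ d.m :=
  (sum_le_sum fun k _ => show d.v k χ * d.v k χ ≤ 1 by
    rcases d.v_small k χ with h | h | h <;> simp [h]).trans_eq (by simp [Data.m])

theorem no_le (χ : ι) : d.no χ ≤ d.m :=
  (sum_le_sum fun k _ => show d.o k χ * d.o k χ ≤ 1 by
    rcases d.o_small k χ with h | h | h <;> simp [h]).trans_eq (by
      simp only [sum_const, card_univ, nsmul_eq_mul, mul_one]; exact d.card_κ')

theorem one_le_nv {k : κ} {χ : ι} (h : d.v k χ ≠ 0) : 1 ≤ d.nv χ :=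
  (show 1 ≤ d.v k χ * d.v k χ by rcases d.v_small k χ with h' | h' | h' <;> simp_all).trans
    (single_le_sum (f := fun j => d.v j χ * d.v j χ) (fun _ _ => mul_self_nonneg _) (mem_univ k))

theorem one_le_no {k : κ'} {χ : ι} (h : d.o k χ ≠ 0) : 1 ≤ d.no χ :=
  (show 1 ≤ d.o k χ * d.o k χ by rcases d.o_small k χ with h' | h' | h' <;> simp_all).trans
    (single_le_sum (f := fun j => d.o j χ * d.o j χ) (fun _ _ => mul_self_nonneg _) (mem_univ k))

theorem nv_eq_zero_iff (χ : ι) : d.nv χ = 0 ↔ ∀ k, d.v k χ = 0 :=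
  ⟨fun h k => by_contra fun hk => by have := d.one_le_nv hk; omega, fun h => by simp [nv, h]⟩

theorem no_eq_zero_iff (χ : ι) : d.no χ = 0 ↔ ∀ k, d.o k χ = 0 :=
  ⟨fun h k => by_contra fun hk => by have := d.one_le_no hk; omega, fun h => by simp [no, h]⟩

theorem sq_sum_v_le (χ : ι) : (∑ k, d.v k χ) * (∑ k, d.v k χ) ≤ d.nv χ * d.nv χ := by
  have h1 : ∑ k, d.v k χ ≤ d.nv χ := sum_le_sum fun k _ => by
    rcases d.v_small k χ with h | h | h <;> simp [h]
  have h2 : -(∑ k, d.v k χ) ≤ d.nv χ := by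
    rw [← sum_neg_distrib]
    exact sum_le_sum fun k _ => by rcases d.v_small k χ with h | h | h <;> simp [h]
  nlinarith

theorem sq_sum_o_le (χ : ι) : (∑ k, d.o k χ) * (∑ k, d.o k χ) ≤ d.no χ * d.no χ := by
  have h1 : ∑ k, d.o k χ ≤ d.no χ := sum_le_sum fun k _ => by
    rcases d.o_small k χ with h | h | h <;> simp [h]
  have h2 : -(∑ k, d.o k χ) ≤ d.no χ := by
    rw [← sum_neg_distrib]
    exact sum_le_sum fun k _ => by rcases d.o_small k χ with h | h | h <;> simp [h]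
  nlinarith

theorem rot_of_out {χ : ι} (hw : d.w χ = 0) : d.rot χ = 4 * d.N * (d.nv χ + d.no χ) -
    8 * ((∑ k, d.v k χ) * (∑ k, d.v k χ) + (∑ k, d.o k χ) * (∑ k, d.o k χ)) := by
  simp only [rot, rotForm, hw]
  ring

theorem rot_of_zero {χ : ι} (hw : d.w χ ≠ 0) : d.rot χ =
    2 * d.N - 2 + 8 * (d.nv χ * (d.m - d.nv χ)) +
      (4 * d.N * d.no χ - 8 * ((∑ k, d.o k χ) * (∑ k, d.o k χ))) := by
  have hS : ∑ k, d.v k χ = d.w χ * d.nv χ := by
    rw [mul_sum]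
    refine sum_congr rfl fun k _ => ?_
    rcases d.v_on_zero k hw with h | h
    · simp [h]
    · rw [h, d.w_sq hw, mul_one]
  simp only [rot, rotForm, hS, d.N_eq]
  linear_combination (2 * (2 * (d.m + 1)) - 2 * (1 + 2 * d.nv χ) ^ 2) * d.w_sq hw

theorem diag_eq (χ : ι) : d.T χ χ + d.R χ χ + d.S χ χ + d.rot χ = 4 * d.N := by
  rw [d.hT, if_pos rfl]
  ring

/-- The coefficients at a point of positive height. -/
theorem pure {χ : ι} (hw : d.w χ = 0) (hne : d.nv χ ≠ 0 ∨ d.no χ ≠ 0) :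
    d.rot χ = 4 * d.N - 8 ∧ d.R χ χ = 4 ∧ d.S χ χ = 4 ∧ d.T χ χ = 0 ∧ d.ht χ = 1 ∧
    ((d.no χ = 0 ∧ (d.nv χ - 1) * (d.m - d.nv χ) = 0) ∨
      (d.nv χ = 0 ∧ (d.no χ - 1) * (d.m - d.no χ) = 0 ∧
        (∑ k, d.o k χ) * (∑ k, d.o k χ) = d.no χ * d.no χ)) := by
  have hht : d.ht χ ≠ 0 := fun h => (d.ht_zero_iff χ).1 h hw
  have hR := d.hR.four_le_diag d.N_pos d.h0 hht
  have hS := d.hS.four_le_diag d.N_pos d.h0 hht
  have hT := d.hT0 χ
  have hd := d.diag_eq χ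
  have hr := d.rot_of_out hw
  have hN := d.N_eq
  have hsv := d.sq_sum_v_le χ
  have hso := d.sq_sum_o_le χ
  have hx0 := d.nv_nonneg χ
  have hc0 := d.no_nonneg χ
  have hxm := d.nv_le χ
  have hcm := d.no_le χ
  have hfx : d.nv χ = 0 ∨ 0 ≤ (d.nv χ - 1) * (d.m - d.nv χ) := by
    rcases eq_or_ne (d.nv χ) 0 with h | h
    · exact Or.inl h
    · exact Or.inr (mul_nonneg (by omega) (by omega))
  have hfc : d.no χ = 0 ∨ 0 ≤ (d.no χ - 1) * (d.m - d.no χ) := by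
    rcases eq_or_ne (d.no χ) 0 with h | h
    · exact Or.inl h
    · exact Or.inr (mul_nonneg (by omega) (by omega))
  have hkey : d.rot χ = 4 * d.N - 8 ∧ ((d.no χ = 0 ∧ (d.nv χ - 1) * (d.m - d.nv χ) = 0) ∨
      (d.nv χ = 0 ∧ (d.no χ - 1) * (d.m - d.no χ) = 0 ∧
        (∑ k, d.o k χ) * (∑ k, d.o k χ) = d.no χ * d.no χ)) := by
    rcases eq_or_ne (d.no χ) 0 with hc | hc
    · have hx := hfx.resolve_left (hne.resolve_right (not_not.2 hc))
      rw [hc] at hr hso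
      exact ⟨by nlinarith, Or.inl ⟨hc, by nlinarith⟩⟩
    rcases eq_or_ne (d.nv χ) 0 with hx | hx
    · have hc' := hfc.resolve_left hc
      rw [hx] at hr hsv
      exact ⟨by nlinarith, Or.inr ⟨hx, by nlinarith, by nlinarith⟩⟩
    exfalso
    have hx' := hfx.resolve_left hx
    have hc' := hfc.resolve_left hc
    have : 1 ≤ d.m := by omega
    nlinarith
  refine ⟨hkey.1, by linarith [hkey.1], by linarith [hkey.1], by linarith [hkey.1], ?_, hkey.2⟩
  have h4 : d.R χ χ ≤ 2 ^ 2 := by norm_num; linarith [hkey.1]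
  have := d.hR.height_le d.N_pos d.h0 hht h4
  omega

/-- The characters with trivial rotation columns. -/
theorem flat_spec {χ : ι} (h : d.Flat χ) :
    d.rot χ = 0 ∧ d.R χ χ = 2 * d.N ∧ d.S χ χ = 2 * d.N ∧ d.T χ χ = 0 ∧ d.ht χ = d.a + 1 := by
  obtain ⟨hw, hv, ho⟩ := h
  have hht : d.ht χ ≠ 0 := fun h' => (d.ht_zero_iff χ).1 h' hw
  have hrot : d.rot χ = 0 := by simp [rot, rotForm, hw, hv, ho]
  have hT := d.hT0 χ
  have hd := d.diag_eq χ
  have hge : d.a + 1 ≤ d.ht χ := by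
    rcases eq_or_ne d.a 0 with ha | ha
    · omega
    obtain ⟨χ₀, h₀⟩ := d.h0
    obtain ⟨k, hk, hiff⟩ := d.hR.spec χ χ₀
    have hdvd := d.hdvd ha χ hw hv ho χ₀
    rw [d.hN, hk] at hdvd
    by_contra hlt
    obtain ⟨c, hc⟩ := hdvd
    refine hiff.1 ?_ h₀
    refine ⟨2 ^ (d.a + 1 - d.ht χ - 1) * c, mul_left_cancel₀ (pow_ne_zero (d.ht χ) two_ne_zero)
      (hc.trans ?_)⟩
    rw [show d.a + 1 = d.ht χ + (d.a + 1 - d.ht χ - 1) + 1 by omega, pow_succ, pow_add]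
    rw [show d.ht χ + (d.a + 1 - d.ht χ - 1) + 1 - d.ht χ - 1 = d.a + 1 - d.ht χ - 1 by omega]
    ring
  have hbig : ∀ X, IsSection d.N d.ht X → 2 * d.N ≤ X χ χ := fun X hX => by
    refine Int.le_of_dvd (hX.diag_pos d.N_pos d.h0 χ) (Dvd.dvd.trans ?_ (hX.dvd_of_ne χ hht))
    rw [d.hN, ← pow_succ']
    exact pow_dvd_pow 2 (by omega)
  have hR := hbig _ d.hR
  have hS := hbig _ d.hS
  refine ⟨hrot, by linarith, by linarith, by linarith, ?_⟩
  have h4 : d.R χ χ ≤ 2 ^ (d.a + 2) := by rw [pow_succ', ← d.hN]; linarith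
  have := d.hR.height_le d.N_pos d.h0 hht h4
  omega

theorem T_eq_zero {χ : ι} (hw : d.w χ = 0) : d.T χ χ = 0 := by
  by_cases h : d.nv χ = 0 ∧ d.no χ = 0
  · exact (d.flat_spec ⟨hw, (d.nv_eq_zero_iff χ).1 h.1, (d.no_eq_zero_iff χ).1 h.2⟩).2.2.2.1
  · exact (d.pure hw (not_and_or.1 h)).2.2.2.1

theorem flat_dvd {χ ψ : ι} (h : d.Flat χ) (hψ : d.ht ψ ≠ 0) : 2 * d.N ∣ d.R χ ψ := by
  rw [d.hN, ← pow_succ']
  have := d.hR.dvd_of_ne χ hψ
  rwa [(d.flat_spec h).2.2.2.2] at this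

theorem flat_add {χ ψ : ι} (h : d.Flat χ) (hne : χ ≠ ψ) : d.R χ ψ + d.S χ ψ = 0 := by
  have h1 := d.hTrow χ (d.flat_spec h).2.2.2.1 ψ
  rw [d.hT, if_neg hne] at h1
  have h2 : rotForm d.N d.w d.v d.o χ ψ = 0 := by simp [rotForm, h.1, h.2.1, h.2.2]
  linarith

/-- Rows of characters with trivial rotation columns are orthogonal to each other and to the
characters of height one with rotation coefficients. -/
theorem flat_orth {χ ψ : ι} (h : d.Flat χ) (hw : d.w ψ = 0) (hne : χ ≠ ψ)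
    (hψ : d.a ≠ 0 ∨ d.Flat ψ) : d.R χ ψ = 0 ∧ d.S χ ψ = 0 := by
  suffices hR : d.R χ ψ = 0 by exact ⟨hR, by have := d.flat_add h hne; omega⟩
  have hht : d.ht ψ ≠ 0 := fun h' => (d.ht_zero_iff ψ).1 h' hw
  by_contra hR
  obtain ⟨χ₀, h₀⟩ := d.h0
  obtain ⟨c, hc⟩ := d.flat_dvd h hht
  have hc0 : c ≠ 0 := fun h' => hR (by rw [hc, h', mul_zero])
  have hc1 : 1 ≤ c * c := mul_self_pos.2 hc0
  have hbig : 4 * d.N * d.N ≤ d.R ψ χ * d.R ψ χ := by
    rw [d.hR.symm ψ χ, hc]; nlinarith [mul_self_nonneg d.N]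
  by_cases hf : d.Flat ψ
  · have hne0 : χ ≠ χ₀ := fun he => (d.ht_zero_iff χ₀).1 h₀ (he ▸ h.1)
    have h1 := d.hR.sq_add_sq_le (χ := ψ) hne
    have h2 : d.R ψ ψ = 2 * d.N := (d.flat_spec hf).2.1
    have hne1 : ψ ≠ χ₀ := fun he => (d.ht_zero_iff χ₀).1 h₀ (he ▸ hw)
    have h3 : d.R ψ χ * d.R ψ χ + d.R ψ ψ * d.R ψ ψ + d.R ψ χ₀ * d.R ψ χ₀ ≤
        4 * d.N * d.R ψ ψ := by
      rw [← d.hR.row_sq ψ]
      refine Eq.trans_le ?_ (sum_le_sum_of_subset_of_nonneg (subset_univ {χ, ψ, χ₀})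
        fun _ _ _ => mul_self_nonneg _)
      simp [sum_insert, hne, hne0, hne1]
      ring
    have := mul_self_pos.2 (d.hR.ne_zero ψ h₀)
    rw [h2] at h3
    nlinarith
  · have ha := hψ.resolve_right hf
    have hn : d.nv ψ ≠ 0 ∨ d.no ψ ≠ 0 := not_and_or.1 fun h' =>
      hf ⟨hw, (d.nv_eq_zero_iff ψ).1 h'.1, (d.no_eq_zero_iff ψ).1 h'.2⟩
    have h4 : d.R ψ ψ = 4 := (d.pure hw hn).2.1
    have h1 := d.hR.sq_add_sq_le (χ := ψ) hne
    rw [h4] at h1
    have hN4 : 4 ≤ d.N := by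
      have := mt d.m_eq_zero_iff.1 ha
      have : 0 ≤ d.m := Int.natCast_nonneg _
      have := d.N_eq
      omega
    nlinarith

theorem sum_rot : ∑ χ, d.rot χ = 4 * d.N * (d.N - 1) := by
  have h1 : ∑ χ, (d.w χ + 2 * ∑ k, d.v k χ) * (d.w χ + 2 * ∑ k, d.v k χ) =
      8 * d.m * d.m + 12 * d.m + 4 := by
    have e1 : ∑ χ, d.w χ * ∑ k, d.v k χ = 2 * d.m := by
      simp only [mul_sum]
      rw [sum_comm]
      simp [d.hwv, Data.m, mul_comm]
    have e2 : ∑ χ, (∑ k, d.v k χ) * (∑ k, d.v k χ) = 2 * d.m * d.m + d.m := by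
      simp only [sum_mul_sum]
      rw [sum_comm]
      simp only [sum_comm (s := (univ : Finset ι)), d.hvv]
      simp only [show ∀ k j : κ, (if k = j then (3 : ℤ) else 2) = 2 + if k = j then 1 else 0 from
        fun k j => by split_ifs <;> norm_num, sum_add_distrib, sum_ite_eq, mem_univ, if_true,
        sum_const, card_univ, nsmul_eq_mul, Data.m]
      ring
    rw [sum_congr rfl (g := fun χ => d.w χ * d.w χ + (4 * (d.w χ * ∑ k, d.v k χ) +
      4 * ((∑ k, d.v k χ) * (∑ k, d.v k χ)))) fun χ _ => by ring, sum_add_distrib, sum_add_distrib,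
      ← mul_sum, ← mul_sum, d.hww, e1, e2]
    ring
  have h2 : ∑ χ, (∑ k, d.o k χ) * (∑ k, d.o k χ) = d.m * d.m + d.m := by
    simp only [sum_mul_sum]
    rw [sum_comm]
    simp only [sum_comm (s := (univ : Finset ι)), d.hoo]
    simp only [show ∀ k j : κ', (if k = j then (2 : ℤ) else 1) = 1 + if k = j then 1 else 0 from
      fun k j => by split_ifs <;> norm_num, sum_add_distrib, sum_ite_eq, mem_univ, if_true,
      sum_const, card_univ, nsmul_eq_mul, d.card_κ']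
    ring
  have h3 : ∑ χ, ∑ k, d.v k χ * d.v k χ = 3 * d.m := by
    rw [sum_comm]; simp [d.hvv, Data.m, mul_comm]
  have h4 : ∑ χ, ∑ k, d.o k χ * d.o k χ = 2 * d.m := by
    rw [sum_comm]; simp [d.hoo, d.card_κ', mul_comm]
  simp only [rot, rotForm]
  rw [sum_sub_distrib, ← mul_sum, ← mul_sum, sum_add_distrib, sum_add_distrib, sum_add_distrib,
    ← mul_sum, ← mul_sum, ← mul_sum, d.hww, h1, h2, h3, h4, d.N_eq]
  ring

theorem count_eq : 4 * d.N * (Fintype.card ι : ℤ) =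
    ∑ χ, d.T χ χ + 4 * d.N * (d.l + d.lz) + 4 * d.N * (d.N - 1) := by
  rw [mul_add (4 * d.N), ← d.htrR, ← d.htrS, ← d.sum_rot, ← sum_add_distrib, ← sum_add_distrib,
    ← sum_add_distrib]
  rw [sum_congr rfl (g := fun _ => 4 * d.N) fun χ _ => ?_]
  · simp [mul_comm]
  · have := d.diag_eq χ; linarith

theorem bad_spec {χ : ι} (h0 : d.ht χ = 0) (h : 4 * d.N - 2 ≤ d.rot χ) :
    d.R χ χ = 1 ∧ d.S χ χ = 1 ∧ d.T χ χ = 0 ∧ d.rot χ = 4 * d.N - 2 := by
  have hd := d.diag_eq χ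
  have hT := d.hT0 χ
  have hR := d.hR.diag_pos d.N_pos d.h0 χ
  have hS := d.hS.diag_pos d.N_pos d.h0 χ
  refine ⟨?_, ?_, ?_, ?_⟩ <;> omega

theorem rot_zero_le {χ : ι} (h0 : d.ht χ = 0) : d.rot χ ≤ 4 * d.N - 2 := by
  have hd := d.diag_eq χ
  have hT := d.hT0 χ
  have hR := d.hR.diag_pos d.N_pos d.h0 χ
  have hS := d.hS.diag_pos d.N_pos d.h0 χ
  omega

theorem no_zero {χ : ι} (hw : d.w χ ≠ 0) (hc : d.no χ ≠ 0) :
    d.m = 1 ∧ 4 * d.N - 2 ≤ d.rot χ := by
  have h1 := d.rot_of_zero hw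
  have h2 := d.rot_zero_le ((d.ht_zero_iff χ).2 hw)
  have h3 := d.sq_sum_o_le χ
  have hc0 := d.no_nonneg χ
  have hcm := d.no_le χ
  have h4 : 0 ≤ d.nv χ * (d.m - d.nv χ) :=
    mul_nonneg (d.nv_nonneg χ) (by linarith [d.nv_le χ])
  have h5 : 0 ≤ (d.no χ - 1) * (d.m - d.no χ) := mul_nonneg (by omega) (by omega)
  have hN := d.N_eq
  have h6 : 8 * d.m ≤ 4 * d.N * d.no χ - 8 * ((∑ k, d.o k χ) * (∑ k, d.o k χ)) := by
    rw [hN]; nlinarith
  have hm1 : d.m = 1 := by omega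
  refine ⟨hm1, ?_⟩
  nlinarith

theorem nv_zero (hB : ¬ d.Bad) {χ : ι} (hw : d.w χ ≠ 0) :
    d.no χ = 0 ∧ (d.nv χ = 0 ∨ d.nv χ = d.m) ∧ d.rot χ = 2 * d.N - 2 := by
  have h0 := (d.ht_zero_iff χ).2 hw
  have hlt : d.rot χ < 4 * d.N - 2 := not_le.1 fun h => hB ⟨χ, h0, h⟩
  have hc : d.no χ = 0 := by_contra fun hc => not_le.2 hlt (d.no_zero hw hc).2
  have h1 := d.rot_of_zero hw
  have h3 := d.sq_sum_o_le χ
  rw [hc] at h1 h3
  have hO : (∑ k, d.o k χ) * (∑ k, d.o k χ) = 0 :=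
    le_antisymm (by linarith) (mul_self_nonneg _)
  rw [hO] at h1
  have hx0 := d.nv_nonneg χ
  have hxm := d.nv_le χ
  have hx : d.nv χ = 0 ∨ d.nv χ = d.m := by
    by_contra! hx
    have h4 : 0 ≤ (d.nv χ - 1) * (d.m - d.nv χ - 1) := mul_nonneg (by omega) (by omega)
    have hN := d.N_eq
    rcases d.m_cases with hm | hm | ⟨hm, -⟩
    · omega
    · omega
    · nlinarith
  refine ⟨hc, hx, ?_⟩
  rcases hx with hx | hx <;> rw [h1, hx] <;> ring

/-- The number of points of positive height with odd coefficients. -/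
theorem card_o (hm : d.m ≠ 0) (h : ∀ χ, d.w χ ≠ 0 → d.no χ = 0) :
    ((univ.filter fun χ => d.w χ = 0 ∧ d.no χ ≠ 0).card : ℤ) = d.m + 1 := by
  refine mul_left_cancel₀ hm ?_
  have h4 : ∑ χ, d.no χ = 2 * d.m := by
    rw [sum_comm]; simp [d.hoo, d.card_κ', mul_comm]
  have h2 : ∑ χ, (∑ k, d.o k χ) * (∑ k, d.o k χ) = d.m * d.m + d.m := by
    simp only [sum_mul_sum]
    rw [sum_comm]
    simp only [sum_comm (s := (univ : Finset ι)), d.hoo]
    simp only [show ∀ k j : κ', (if k = j then (2 : ℤ) else 1) = 1 + if k = j then 1 else 0 from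
      fun k j => by split_ifs <;> norm_num, sum_add_distrib, sum_ite_eq, mem_univ, if_true,
      sum_const, card_univ, nsmul_eq_mul, d.card_κ']
    ring
  have key : ∀ χ, (∑ k, d.o k χ) * (∑ k, d.o k χ) =
      (d.m + 1) * d.no χ - d.m * if d.w χ = 0 ∧ d.no χ ≠ 0 then 1 else 0 := by
    intro χ
    by_cases hc : d.no χ = 0
    · have hz := (d.no_eq_zero_iff χ).1 hc
      rw [if_neg (fun h' => h'.2 hc), hc]
      simp [hz]
    have hw : d.w χ = 0 := by_contra fun hw => hc (h χ hw)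
    rw [if_pos ⟨hw, hc⟩]
    rcases (d.pure hw (Or.inr hc)).2.2.2.2.2 with ⟨h', -⟩ | ⟨-, h', h''⟩
    · exact absurd h' hc
    · linear_combination h'' - h'
  rw [sum_congr rfl fun χ _ => key χ, sum_sub_distrib, ← mul_sum, ← mul_sum, h4,
    sum_boole] at h2
  push_cast at h2
  linarith

theorem v_eq_of_normal (hB : ¬ d.Bad) {k j : κ} (χ : ι) (hw : d.w χ ≠ 0) :
    d.v k χ = d.v j χ := by
  rcases (d.nv_zero hB hw).2.1 with h | h
  · rw [(d.nv_eq_zero_iff χ).1 h k, (d.nv_eq_zero_iff χ).1 h j]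
  · have hall : ∀ i, d.v i χ ≠ 0 := fun i hi => by
      have : d.nv χ < d.m := by
        calc d.nv χ < ∑ _x : κ, (1 : ℤ) := sum_lt_sum (fun x _ => by
              rcases d.v_small x χ with h' | h' | h' <;> simp [h']) ⟨i, mem_univ i, by simp [hi]⟩
          _ = d.m := by simp [Data.m]
      omega
    rw [(d.v_on_zero k hw).resolve_left (hall k), (d.v_on_zero j hw).resolve_left (hall j)]

theorem ept_injective (hB : ¬ d.Bad) : Function.Injective d.ept := by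
  intro k j he
  by_contra hne
  have hs : ∑ χ, (d.v k χ * d.v j χ - d.v k χ * d.v k χ) = -1 := by
    rw [sum_sub_distrib, d.hvv, d.hvv, if_pos rfl, if_neg hne]; norm_num
  rw [sum_eq_single (d.ept k) (fun χ _ hχ => ?_) (by simp)] at hs
  · have h1 := d.ept_ne_zero k
    have h2 : d.v j (d.ept k) ≠ 0 := he ▸ d.ept_ne_zero j
    rcases d.v_small k (d.ept k) with a | a | a <;>
      rcases d.v_small j (d.ept k) with b | b | b <;> rw [a, b] at hs <;> simp_all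
  · by_cases hw : d.w χ = 0
    · rw [show d.v k χ = 0 from by_contra fun h => hχ (d.ept_eq h hw).symm]; ring
    · rw [d.v_eq_of_normal hB (k := j) (j := k) χ hw]; ring

theorem card_e (hB : ¬ d.Bad) :
    ((univ.filter fun χ => d.w χ = 0 ∧ d.nv χ ≠ 0).card : ℤ) = d.m := by
  have : (univ.filter fun χ => d.w χ = 0 ∧ d.nv χ ≠ 0) = univ.image d.ept := by
    ext χ
    simp only [mem_filter, mem_univ, true_and, mem_image]
    refine ⟨fun ⟨hw, hn⟩ => ?_, fun ⟨k, hk⟩ => ?_⟩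
    · by_contra h
      exact hn ((d.nv_eq_zero_iff χ).2 fun k => by_contra fun hk => h ⟨k, d.ept_eq hk hw⟩)
    · subst hk
      exact ⟨(d.ept_spec k).1, fun h => d.ept_ne_zero k ((d.nv_eq_zero_iff _).1 h k)⟩
  rw [this, card_image_of_injective _ (d.ept_injective hB), card_univ]

theorem split_point (χ : ι) :
    (if d.w χ ≠ 0 then (1 : ℤ) else 0) + (if d.w χ = 0 ∧ d.nv χ ≠ 0 then 1 else 0) +
      (if d.w χ = 0 ∧ d.no χ ≠ 0 then 1 else 0) +
      (if d.w χ = 0 ∧ d.nv χ = 0 ∧ d.no χ = 0 then 1 else 0) = 1 := by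
  by_cases hw : d.w χ = 0
  · by_cases h1 : d.nv χ = 0
    · by_cases h2 : d.no χ = 0 <;> simp [hw, h1, h2]
    · rcases (d.pure hw (Or.inl h1)).2.2.2.2.2 with ⟨h2, -⟩ | ⟨h2, -⟩
      · simp [hw, h1, h2]
      · exact absurd h2 h1
  · simp [hw]

/-- The number of characters with trivial rotation columns. -/
noncomputable def q : ℕ := (univ.filter fun χ => d.w χ = 0 ∧ d.nv χ = 0 ∧ d.no χ = 0).card

theorem card_eq : (Fintype.card ι : ℤ) = 4 + ((univ.filter fun χ => d.w χ = 0 ∧ d.nv χ ≠ 0).card) +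
    ((univ.filter fun χ => d.w χ = 0 ∧ d.no χ ≠ 0).card) + d.q := by
  have h := sum_congr rfl fun χ (_ : χ ∈ (univ : Finset ι)) => d.split_point χ
  rw [sum_add_distrib, sum_add_distrib, sum_add_distrib, sum_boole, sum_boole, sum_boole,
    sum_boole] at h
  simp only [sum_const, card_univ, nsmul_eq_mul, mul_one] at h
  have h4 := d.card_zero
  rw [q]
  omega

theorem flat_of {χ : ι} (h : d.w χ = 0 ∧ d.nv χ = 0 ∧ d.no χ = 0) : d.Flat χ :=
  ⟨h.1, (d.nv_eq_zero_iff χ).1 h.2.1, (d.no_eq_zero_iff χ).1 h.2.2⟩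

/-- The exceptional configuration has one more character than the rotation columns. -/
theorem of_bad (hB : d.Bad) : d.r = 0 ∧ d.lz = 1 ∧ d.a ≠ 0 ∧
    (d.m = 1 → ∃ χ k, d.w χ ≠ 0 ∧ d.o k χ ≠ 0) ∧
    (d.m ≠ 1 → d.a = 2 ∧ (∀ χ, d.w χ ≠ 0 → d.no χ = 0) ∧
      (univ.filter fun χ => d.w χ = 0 ∧ d.nv χ ≠ 0).card = 1 ∧ d.q = 0) := by
  obtain ⟨b, hb0, hb⟩ := hB
  obtain ⟨hR1, hS1, hT1, hrot⟩ := d.bad_spec hb0 hb
  have hbw := (d.ht_zero_iff b).1 hb0
  have hr : d.r = 0 := by_contra fun h => by have := d.hpos h b hb0; omega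
  have ha : d.a ≠ 0 := fun ha => by
    have h1 := d.rot_of_zero hbw
    have hm := d.m_eq_zero_iff.2 ha
    have hx : d.nv b = 0 := by have := d.nv_le b; have := d.nv_nonneg b; omega
    have hc : d.no b = 0 := by have := d.no_le b; have := d.no_nonneg b; omega
    have hz := (d.no_eq_zero_iff b).1 hc
    rw [hx, hc, d.N_eq, hm] at h1
    rw [d.N_eq, hm] at hrot
    simp [hz] at h1
    omega
  have hN4 : 4 ≤ d.N := by
    have := mt d.m_eq_zero_iff.1 ha
    have : 0 ≤ d.m := Int.natCast_nonneg _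
    have := d.N_eq
    omega
  have hq : d.q = 0 := by
    refine card_eq_zero.2 (filter_eq_empty_iff.2 fun χ _ h => ?_)
    obtain ⟨hw, hv, ho⟩ := d.flat_of h
    obtain ⟨c, hc⟩ := d.hdvd ha χ hw hv ho b
    have hne : d.R χ b ≠ 0 := d.hR.ne_zero χ hb0
    have hc0 : c ≠ 0 := fun h' => hne (by rw [hc, h', mul_zero])
    have h1 := d.hR.sq_add_sq_le (χ := b) (fun he : χ = b => hbw (he ▸ hw))
    rw [d.hR.symm b χ, hc, hR1] at h1
    have := mul_self_pos.2 hc0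
    have h2 : 0 ≤ (c * c - 1) * (d.N * d.N) := mul_nonneg (by omega) (mul_self_nonneg _)
    have h3 : 0 ≤ (d.N - 4) * d.N := mul_nonneg (by omega) (by omega)
    nlinarith
  have hlz : ∀ (hk : (Fintype.card ι : ℤ) = 2 * d.m + 3), d.lz = 1 := fun hk => by
    have h1 := d.count_eq
    rw [sum_eq_zero fun χ _ => d.hzero hr χ, zero_add, hk] at h1
    have hN := d.N_eq
    have : ((d.l : ℤ) + d.lz) = 2 := by
      refine mul_left_cancel₀ (show (4 * d.N : ℤ) ≠ 0 by linarith) ?_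
      rw [show 2 * d.m + 3 = d.N + 1 by linarith] at h1
      linarith
    have := d.hl
    have := d.hlz
    omega
  rcases eq_or_ne d.m 1 with hm | hm
  · -- the overlapping configuration
    have hx : d.nv b * (d.m - d.nv b) = 0 := by
      have := d.nv_le b; have := d.nv_nonneg b
      rw [hm]
      rcases (show d.nv b = 0 ∨ d.nv b = 1 by omega) with h | h <;> simp [h]
    have hc : d.no b ≠ 0 := fun hc => by
      have h1 := d.rot_of_zero hbw
      have hz := (d.no_eq_zero_iff b).1 hc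
      rw [hx, hc] at h1
      simp [hz] at h1
      omega
    obtain ⟨k, hk⟩ : ∃ k, d.o k b ≠ 0 := not_forall.1 (mt (d.no_eq_zero_iff b).2 hc)
    have hcard : Fintype.card κ' ≤ 1 := by have := d.card_κ'; omega
    have hno : ∀ χ, d.w χ = 0 → d.no χ = 0 := by
      intro χ hw
      rw [d.no_eq_zero_iff]
      intro j
      obtain rfl : j = k := Fintype.card_le_one_iff.1 hcard j k
      by_contra hj
      have h2 := d.hwo j
      have hne : b ≠ χ := fun he => hbw (he ▸ hw)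
      have hsq : ∀ φ, φ ≠ b → φ ≠ χ → d.o j φ = 0 := fun φ h1 h2' => by
        have h3 : d.o j b * d.o j b + d.o j χ * d.o j χ + d.o j φ * d.o j φ ≤ 2 := by
          rw [show (2 : ℤ) = ∑ x, d.o j x * d.o j x by rw [d.hoo, if_pos rfl]]
          refine Eq.trans_le ?_ (sum_le_sum_of_subset_of_nonneg (subset_univ {b, χ, φ})
            fun _ _ _ => mul_self_nonneg _)
          simp [sum_insert, hne, h1.symm, h2'.symm]
          ring
        have := mul_self_pos.2 hk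
        have := mul_self_pos.2 hj
        exact mul_self_eq_zero.1 (le_antisymm (by linarith) (mul_self_nonneg _))
      rw [sum_eq_single b (fun φ _ hφ => ?_) (by simp)] at h2
      · exact mul_ne_zero hbw hk h2
      · rcases eq_or_ne φ χ with rfl | hφ'
        · rw [hw, zero_mul]
        · rw [hsq φ hφ hφ', mul_zero]
    have hcardκ : Fintype.card κ = 1 := by simpa [Data.m] using hm
    have he : (univ.filter fun χ => d.w χ = 0 ∧ d.nv χ ≠ 0).card = 1 := by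
      obtain ⟨k₀, hk₀⟩ := Fintype.card_eq_one_iff.1 hcardκ
      refine card_eq_one.2 ⟨d.ept k₀, ?_⟩
      ext χ
      simp only [mem_filter, mem_univ, true_and, mem_singleton]
      refine ⟨fun ⟨hw, hn⟩ => ?_, fun h => ?_⟩
      · obtain ⟨i, hi⟩ := not_forall.1 (mt (d.nv_eq_zero_iff χ).2 hn)
        rw [← d.ept_eq hi hw, hk₀ i]
      · subst h
        exact ⟨(d.ept_spec k₀).1, fun h => d.ept_ne_zero k₀ ((d.nv_eq_zero_iff _).1 h k₀)⟩
    refine ⟨hr, hlz ?_, ha, fun _ => ⟨b, k, hbw, hk⟩, fun h => absurd hm h⟩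
    rw [d.card_eq, he, hq, card_eq_zero.2 (filter_eq_empty_iff.2 fun χ _ h => h.2 (hno χ h.1)), hm]
    norm_num
  · have hc : ∀ χ, d.w χ ≠ 0 → d.no χ = 0 := fun χ hw =>
      by_contra fun h => hm (d.no_zero hw h).1
    have hx0 := d.nv_nonneg b
    have hxm := d.nv_le b
    have hz := (d.no_eq_zero_iff b).1 (hc b hbw)
    have h1 := d.rot_of_zero hbw
    rw [hc b hbw] at h1
    simp [hz] at h1
    have hN := d.N_eq
    have hx : 2 * (d.nv b * (d.m - d.nv b)) = d.m + 1 := by linarith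
    have hxne : 0 < d.nv b ∧ d.nv b < d.m := by
      constructor <;> by_contra h
      · rw [show d.nv b = 0 by omega] at hx; simp at hx; omega
      · rw [show d.nv b = d.m by omega] at hx; simp at hx; omega
    have hm3 : d.m = 3 := by
      have : 0 ≤ (d.nv b - 1) * (d.m - d.nv b - 1) := mul_nonneg (by omega) (by omega)
      rcases d.m_cases with h | h | ⟨h, -⟩ <;> nlinarith
    have ha2 : d.a = 2 := by
      have h := d.hκ
      have hh : (Fintype.card κ : ℤ) = 3 := hm3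
      rw [show Fintype.card κ = 3 by exact_mod_cast hh] at h
      exact (Nat.pow_right_injective le_rfl (show 2 ^ d.a = 2 ^ 2 by omega))
    -- all rotation vectors share their point of positive height
    obtain ⟨k, hk⟩ : ∃ k, d.v k b ≠ 0 :=
      not_forall.1 (mt (d.nv_eq_zero_iff b).2 (by omega))
    obtain ⟨j, hj⟩ : ∃ j, d.v j b = 0 := by
      by_contra! hall
      have : d.m ≤ d.nv b := by
        calc d.m = ∑ _x : κ, (1 : ℤ) := by simp [Data.m]
          _ ≤ _ := sum_le_sum fun x _ => by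
            rcases d.v_small x b with h' | h' | h'
            · simp [h']
            · exact absurd h' (hall x)
            · simp [h']
      omega
    have hej : d.ept k = d.ept j := by
      by_contra hne
      have hkj : k ≠ j := fun he => hk (he ▸ hj)
      have hs : ∑ χ, (d.v k χ * d.v j χ - d.v k χ * d.v k χ) = -1 := by
        rw [sum_sub_distrib, d.hvv, d.hvv, if_pos rfl, if_neg hkj]; norm_num
      have hle : ∀ χ, d.v k χ * d.v j χ - d.v k χ * d.v k χ ≤ 0 := fun χ => by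
        by_cases hw : d.w χ = 0
        · by_cases h' : d.v k χ = 0
          · simp [h']
          · have hjz : d.v j χ = 0 := by_contra fun h'' =>
              hne ((d.ept_eq h' hw).trans (d.ept_eq h'' hw).symm)
            rw [hjz, mul_zero, zero_sub, neg_nonpos]
            exact mul_self_nonneg _
        · rcases d.v_on_zero k hw with h' | h' <;> rcases d.v_on_zero j hw with h'' | h'' <;>
            rw [h', h''] <;> nlinarith [mul_self_nonneg (d.w χ)]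
      have hb1 : d.v k b * d.v j b - d.v k b * d.v k b = -1 := by
        rw [hj, (d.v_on_zero k hbw).resolve_left hk, d.w_sq hbw]; ring
      have he1 : d.v k (d.ept k) * d.v j (d.ept k) - d.v k (d.ept k) * d.v k (d.ept k) = -1 := by
        rw [show d.v j (d.ept k) = 0 from by_contra fun h'' =>
          hne (d.ept_eq h'' (d.ept_spec k).1).symm, (d.ept_spec k).2.1]
        ring
      have hbe : b ≠ d.ept k := fun he => hbw (he ▸ (d.ept_spec k).1)
      have h3 : ∑ χ, (d.v k χ * d.v j χ - d.v k χ * d.v k χ) ≤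
          ∑ χ ∈ ({b, d.ept k} : Finset ι), (d.v k χ * d.v j χ - d.v k χ * d.v k χ) := by
        rw [← sum_sdiff (subset_univ ({b, d.ept k} : Finset ι))]
        linarith [sum_nonpos (s := univ \ {b, d.ept k}) fun χ _ => hle χ]
      rw [hs, sum_pair hbe, hb1, he1] at h3
      norm_num at h3
    have hall : ∀ i, d.ept i = d.ept k := by
      intro i
      have hw := (d.ept_spec k).1
      have hkj : k ≠ j := fun he => hk (he ▸ hj)
      have h2 : 2 ≤ d.nv (d.ept k) := by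
        calc (2 : ℤ) = d.v k (d.ept k) * d.v k (d.ept k) + d.v j (d.ept k) * d.v j (d.ept k) := by
              rw [(d.ept_spec k).2.1, hej, (d.ept_spec j).2.1]; norm_num
          _ ≤ _ := by
              refine (sum_pair (f := fun x => d.v x (d.ept k) * d.v x (d.ept k)) hkj).symm.trans_le ?_
              exact sum_le_sum_of_subset_of_nonneg (subset_univ _) fun _ _ _ => mul_self_nonneg _
      rcases (d.pure hw (Or.inl (by omega))).2.2.2.2.2 with ⟨-, h'⟩ | ⟨h', -⟩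
      · have h3 : d.nv (d.ept k) = d.m := by
          rcases mul_eq_zero.1 h' with h'' | h'' <;> omega
        refine d.ept_eq (fun hi => ?_) hw
        have : d.nv (d.ept k) < d.m := by
          calc d.nv (d.ept k) < ∑ _x : κ, (1 : ℤ) := sum_lt_sum (fun x _ => by
                rcases d.v_small x (d.ept k) with a | a | a <;> simp [a])
                ⟨i, mem_univ i, by simp [hi]⟩
            _ = d.m := by simp [Data.m]
        omega
      · omega
    have he : (univ.filter fun χ => d.w χ = 0 ∧ d.nv χ ≠ 0).card = 1 := by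
      refine card_eq_one.2 ⟨d.ept k, ?_⟩
      ext χ
      simp only [mem_filter, mem_univ, true_and, mem_singleton]
      refine ⟨fun ⟨hw, hn⟩ => ?_, fun h => ?_⟩
      · obtain ⟨i, hi⟩ := not_forall.1 (mt (d.nv_eq_zero_iff χ).2 hn)
        rw [← d.ept_eq hi hw, hall i]
      · subst h
        exact ⟨(d.ept_spec k).1, fun h => d.ept_ne_zero k ((d.nv_eq_zero_iff _).1 h k)⟩
    refine ⟨hr, hlz ?_, ha, fun h => absurd h hm, fun _ => ⟨ha2, hc, he, hq⟩⟩
    rw [d.card_eq, he, hq, d.card_o (by omega) hc, hm3]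
    norm_num

/-- The family of pairwise orthogonal rows. -/
theorem card_orth (X : ι → ι → ℤ) (hX : IsSection d.N d.ht X)
    (horth : ∀ χ ψ, d.Flat χ → d.w ψ = 0 → χ ≠ ψ → (d.a ≠ 0 ∨ d.Flat ψ) → X χ ψ = 0)
    (Q : ℕ) (hQ : (d.a = 0 ∧ Q = d.q) ∨ (d.a ≠ 0 ∧ Q = d.q + 1)) {n : ℕ}
    (hn : ∑ χ, X χ χ = 4 * d.N * n) : Q ≤ n := by
  set F := univ.filter fun χ => d.w χ = 0 ∧ d.nv χ = 0 ∧ d.no χ = 0 with hF
  have hmem : ∀ χ ∈ F, d.Flat χ := fun χ h => d.flat_of (mem_filter.1 h).2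
  suffices hA : ∃ A : Finset ι, A.card = Q ∧ ∀ χ ∈ A, ∀ ψ ∈ A, χ ≠ ψ → X χ ψ = 0 by
    obtain ⟨A, rfl, hA⟩ := hA
    have := hX.card_le_trace d.N_pos d.h0 A hA
    rw [hn] at this
    exact_mod_cast le_of_mul_le_mul_left this (by linarith [d.N_pos])
  rcases hQ with ⟨-, rfl⟩ | ⟨ha, rfl⟩
  · exact ⟨F, rfl, fun χ hχ ψ hψ hne =>
      horth χ ψ (hmem χ hχ) (hmem ψ hψ).1 hne (Or.inr (hmem ψ hψ))⟩
  obtain ⟨k⟩ : Nonempty κ := Fintype.card_pos_iff.1 (by
    have := mt d.m_eq_zero_iff.1 ha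
    simp only [Data.m] at this
    omega)
  have hk : d.ept k ∉ F := fun h => d.ept_ne_zero k ((hmem _ h).2.1 k)
  refine ⟨insert (d.ept k) F, by rw [card_insert_of_notMem hk]; rfl, fun χ hχ ψ hψ hne => ?_⟩
  rcases mem_insert.1 hχ with rfl | hχ
  · rcases mem_insert.1 hψ with rfl | hψ
    · exact absurd rfl hne
    · rw [hX.symm]
      exact horth ψ _ (hmem ψ hψ) (d.ept_spec k).1 (Ne.symm hne) (Or.inl ha)
  · rcases mem_insert.1 hψ with rfl | hψ
    · exact horth χ _ (hmem χ hχ) (d.ept_spec k).1 hne (Or.inl ha)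
    · exact horth χ ψ (hmem χ hχ) (hmem ψ hψ).1 hne (Or.inl ha)

theorem T_zero_eq (hB : ¬ d.Bad) {χ : ι} (hw : d.w χ ≠ 0) : d.T χ χ = d.r * d.N := by
  have h0 := (d.ht_zero_iff χ).2 hw
  have hT := d.hT0 χ
  have hd := d.diag_eq χ
  have hrot := (d.nv_zero hB hw).2.2
  have hR := d.hR.diag_pos d.N_pos d.h0 χ
  have hS := d.hS.diag_pos d.N_pos d.h0 χ
  have hle : d.T χ χ ≤ 2 * d.N := by omega
  have hN := d.N_pos
  have h2 := d.hr
  rcases (show d.r = 0 ∨ d.r = 1 ∨ d.r = 2 by omega) with h | h | h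
  · rw [d.hzero h χ, h]; simp
  · obtain ⟨c, hc⟩ := d.hone h χ h0
    have : -1 < c := by nlinarith
    have : c < 1 := by nlinarith
    obtain rfl : c = 0 := by omega
    rw [h]; push_cast; linarith
  · obtain ⟨c, hc⟩ := d.htwo h χ h0
    have hp := d.hpos (by omega) χ h0
    have : 0 < c := by nlinarith
    have : c ≤ 1 := by nlinarith
    obtain rfl : c = 1 := by omega
    rw [h]; push_cast; linarith

/-- The invariants outside the exceptional configuration. -/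
theorem of_normal (hB : ¬ d.Bad) : ∃ Q : ℕ, ((d.a = 0 ∧ Q = d.q) ∨ (d.a ≠ 0 ∧ Q = d.q + 1)) ∧
    (Fintype.card ι : ℤ) = d.N + 2 + Q ∧ Q ≤ d.l ∧ Q ≤ d.lz ∧ d.l + d.lz + d.r = 3 + Q ∧
    (univ.filter fun χ => d.ht χ = 0).card = 4 ∧
    (∀ χ, d.ht χ = 0 ∨ d.ht χ = 1 ∨ d.ht χ = d.a + 1) ∧
    (d.a ≠ 0 → ((univ.filter fun χ => d.ht χ = 1).card : ℤ) = d.N - 1) := by
  classical
  obtain ⟨Q, hQ⟩ : ∃ Q : ℕ, (d.a = 0 ∧ Q = d.q) ∨ (d.a ≠ 0 ∧ Q = d.q + 1) := by
    rcases eq_or_ne d.a 0 with h | h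
    · exact ⟨_, Or.inl ⟨h, rfl⟩⟩
    · exact ⟨_, Or.inr ⟨h, rfl⟩⟩
  have hce := d.card_e hB
  have hN := d.N_eq
  have hcard : (Fintype.card ι : ℤ) = d.N + 2 + Q := by
    rw [d.card_eq, hce]
    rcases hQ with ⟨ha, rfl⟩ | ⟨ha, rfl⟩
    · have hm := d.m_eq_zero_iff.2 ha
      rw [card_eq_zero.2 (filter_eq_empty_iff.2 fun χ _ h => h.2 (le_antisymm
        (by linarith [d.no_le χ]) (d.no_nonneg χ))), hm, hN, hm]
      norm_num
    · rw [d.card_o (mt d.m_eq_zero_iff.1 ha) fun χ hw => (d.nv_zero hB hw).1, hN]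
      push_cast
      ring
  refine ⟨Q, hQ, hcard, d.card_orth d.R d.hR (fun χ ψ h1 h2 h3 h4 => (d.flat_orth h1 h2 h3 h4).1)
    Q hQ d.htrR, d.card_orth d.S d.hS (fun χ ψ h1 h2 h3 h4 => (d.flat_orth h1 h2 h3 h4).2)
    Q hQ d.htrS, ?_, ?_, fun χ => ?_, fun ha => ?_⟩
  · have h1 := d.count_eq
    have hsum : ∑ χ, d.T χ χ = 4 * ((d.r : ℤ) * d.N) := by
      rw [sum_congr rfl (g := fun χ => if d.w χ ≠ 0 then (d.r : ℤ) * d.N else 0) fun χ _ => ?_,
        ← sum_filter, sum_const, d.card_zero, nsmul_eq_mul]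
      · norm_num
      · by_cases hw : d.w χ = 0
        · rw [if_neg (not_not.2 hw), d.T_eq_zero hw]
        · rw [if_pos hw, d.T_zero_eq hB hw]
    rw [hsum, hcard] at h1
    have h2 : d.N + 2 + (Q : ℤ) = d.r + (d.l + d.lz) + (d.N - 1) :=
      mul_left_cancel₀ (show (4 * d.N : ℤ) ≠ 0 by linarith [d.N_pos]) (by linarith)
    omega
  · rw [← d.card_zero]
    exact congrArg card (filter_congr fun χ _ => d.ht_zero_iff χ)
  · by_cases hw : d.w χ = 0
    · by_cases h : d.nv χ = 0 ∧ d.no χ = 0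
      · exact Or.inr (Or.inr (d.flat_spec (d.flat_of ⟨hw, h⟩)).2.2.2.2)
      · exact Or.inr (Or.inl (d.pure hw (not_and_or.1 h)).2.2.2.2.1)
    · exact Or.inl ((d.ht_zero_iff χ).2 hw)
  · have he : ∀ χ, (if d.ht χ = 1 then (1 : ℤ) else 0) =
        (if d.w χ = 0 ∧ d.nv χ ≠ 0 then 1 else 0) + (if d.w χ = 0 ∧ d.no χ ≠ 0 then 1 else 0) := by
      intro χ
      have hsp := d.split_point χ
      by_cases hw : d.w χ = 0
      · by_cases h : d.nv χ = 0 ∧ d.no χ = 0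
        · have h5 := (d.flat_spec (d.flat_of ⟨hw, h⟩)).2.2.2.2
          rw [if_neg (by omega)]
          simp [h.1, h.2]
        · rw [if_pos (d.pure hw (not_and_or.1 h)).2.2.2.2.1]
          simp only [ne_eq, hw, not_true, if_false, true_and, h] at hsp ⊢
          linarith
      · rw [if_neg (by rw [(d.ht_zero_iff χ).2 hw]; norm_num)]
        simp [hw]
    have h := sum_congr rfl fun χ (_ : χ ∈ (univ : Finset ι)) => he χ
    rw [sum_add_distrib, sum_boole, sum_boole, sum_boole] at h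
    push_cast at h
    rw [h, hce, d.card_o (mt d.m_eq_zero_iff.1 ha) fun χ hw => (d.nv_zero hB hw).1, hN]
    ring

/-- The signs of a central involution. -/
structure Central (lam : ι → ℤ) : Prop where
  sign : ∀ χ, lam χ = 1 ∨ lam χ = -1
  rows : ∀ χ ψ, d.S χ ψ = lam χ * lam ψ * d.R χ ψ
  odd : ∀ χ, lam χ = 1 → ∀ k, d.o k χ = 0
  even : ∀ χ, lam χ = -1 → d.w χ = 0 ∧ ∀ k, d.v k χ = 0
  sum : ∑ χ, lam χ * d.R χ χ = 0

variable {lam : ι → ℤ}

theorem Central.diag (c : d.Central lam) (χ : ι) : d.S χ χ = d.R χ χ := by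
  rw [c.rows]
  rcases c.sign χ with h | h <;> simp [h]

theorem Central.lam_zero (c : d.Central lam) {χ : ι} (hw : d.w χ ≠ 0) : lam χ = 1 :=
  (c.sign χ).resolve_right fun h => hw (c.even χ h).1

theorem Central.lam_e (c : d.Central lam) {χ : ι} (hn : d.nv χ ≠ 0) : lam χ = 1 :=
  (c.sign χ).resolve_right fun h => hn ((d.nv_eq_zero_iff χ).2 (c.even χ h).2)

theorem Central.lam_o (c : d.Central lam) {χ : ι} (hn : d.no χ ≠ 0) : lam χ = -1 :=
  (c.sign χ).resolve_left fun h => hn ((d.no_eq_zero_iff χ).2 (c.odd χ h))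

theorem Central.lam_flat (c : d.Central lam) {χ : ι} (h : d.Flat χ) : lam χ = -1 := by
  refine (c.sign χ).resolve_left fun h1 => ?_
  obtain ⟨χ₀, h₀⟩ := d.h0
  have hw₀ := (d.ht_zero_iff χ₀).1 h₀
  have h2 := d.flat_add h (ψ := χ₀) fun he => hw₀ (he ▸ h.1)
  rw [c.rows, h1, c.lam_zero d hw₀] at h2
  exact d.hR.ne_zero χ h₀ (by linarith)

theorem Central.l_eq (c : d.Central lam) : d.l = d.lz := by
  have h := d.htrS
  rw [sum_congr rfl fun χ _ => c.diag d χ, d.htrR] at h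
  exact_mod_cast mul_left_cancel₀ (show (4 * d.N : ℤ) ≠ 0 by linarith [d.N_pos]) h

/-- The exceptional configuration with a central involution. -/
theorem Central.of_bad (c : d.Central lam) (hB : d.Bad) :
    d.a = 2 ∧ (univ.filter fun χ => lam χ = 1).card = 5 := by
  obtain ⟨-, -, -, h1, h3⟩ := d.of_bad hB
  have hm : d.m ≠ 1 := fun hm => by
    obtain ⟨χ, k, hw, hk⟩ := h1 hm
    exact hk (c.odd χ (c.lam_zero d hw) k)
  obtain ⟨ha, -, he, hq⟩ := h3 hm
  refine ⟨ha, ?_⟩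
  have hz := d.card_zero
  rw [show univ.filter (fun χ => lam χ = 1) =
    univ.filter (fun χ => d.w χ ≠ 0) ∪ univ.filter (fun χ => d.w χ = 0 ∧ d.nv χ ≠ 0) from ?_,
    card_union_of_disjoint ?_, hz, he]
  · rw [disjoint_filter]
    exact fun χ _ hw h => hw h.1
  · ext χ
    simp only [mem_filter, mem_univ, true_and, mem_union]
    refine ⟨fun h => ?_, fun h => h.elim (fun h => c.lam_zero d h) fun h => c.lam_e d h.2⟩
    by_contra hn
    push Not at hn
    have hnv : d.nv χ = 0 := hn.2 hn.1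
    have hno : d.no χ = 0 := (d.no_eq_zero_iff χ).2 (c.odd χ h)
    have := filter_eq_empty_iff.1 (card_eq_zero.1 hq) (mem_univ χ)
    exact this ⟨hn.1, hnv, hno⟩

/-- Outside the exceptional configuration a central involution determines the rank. -/
theorem Central.of_normal (c : d.Central lam) (hB : ¬ d.Bad) : d.l + d.r = 3 := by
  classical
  obtain ⟨Q, hQ, -, -, -, hsum, -⟩ := d.of_normal hB
  have hl := c.l_eq d
  have hce := d.card_e hB
  have hN := d.N_eq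
  have hco : ((univ.filter fun χ => d.w χ = 0 ∧ d.no χ ≠ 0).card : ℤ) =
      if d.a = 0 then 0 else d.m + 1 := by
    split_ifs with ha
    · have hm := d.m_eq_zero_iff.2 ha
      rw [card_eq_zero.2 (filter_eq_empty_iff.2 fun χ _ h => h.2 (le_antisymm
        (by linarith [d.no_le χ]) (d.no_nonneg χ)))]
      rfl
    · exact d.card_o (mt d.m_eq_zero_iff.1 ha) fun χ hw => (d.nv_zero hB hw).1
  have key : ∀ χ, 2 * (lam χ * d.R χ χ) =
      (2 * d.N + 2 - d.r * d.N) * (if d.w χ ≠ 0 then 1 else 0) +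
        8 * (if d.w χ = 0 ∧ d.nv χ ≠ 0 then 1 else 0) -
        8 * (if d.w χ = 0 ∧ d.no χ ≠ 0 then 1 else 0) -
        4 * d.N * (if d.w χ = 0 ∧ d.nv χ = 0 ∧ d.no χ = 0 then 1 else 0) := by
    intro χ
    by_cases hw : d.w χ = 0
    · by_cases h1 : d.nv χ = 0
      · by_cases h2 : d.no χ = 0
        · have hf := d.flat_of ⟨hw, h1, h2⟩
          rw [c.lam_flat d hf, (d.flat_spec hf).2.1]
          simp [hw, h1, h2]
          ring
        · rw [c.lam_o d h2, (d.pure hw (Or.inr h2)).2.1]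
          simp [hw, h1, h2]
      · rcases (d.pure hw (Or.inl h1)).2.2.2.2.2 with ⟨h2, -⟩ | ⟨h2, -⟩
        · rw [c.lam_e d h1, (d.pure hw (Or.inl h1)).2.1]
          simp [hw, h1, h2]
        · exact absurd h2 h1
    · have hd := d.diag_eq χ
      rw [c.diag d, d.T_zero_eq hB hw, (d.nv_zero hB hw).2.2] at hd
      rw [c.lam_zero d hw]
      simp [hw]
      linarith
  have h := sum_congr rfl fun χ (_ : χ ∈ (univ : Finset ι)) => key χ
  rw [← mul_sum, c.sum, sum_sub_distrib, sum_sub_distrib, sum_add_distrib, ← mul_sum, ← mul_sum,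
    ← mul_sum, ← mul_sum, sum_boole, sum_boole, sum_boole, sum_boole] at h
  push_cast at h
  rw [d.card_zero, hce, hco, Nat.cast_ofNat] at h
  rw [← hl] at hsum
  have hq : (Q : ℤ) = 3 - d.r := by
    refine mul_left_cancel₀ (show (4 * d.N : ℤ) ≠ 0 by linarith [d.N_pos]) ?_
    rcases hQ with ⟨ha, rfl⟩ | ⟨ha, rfl⟩
    · rw [if_pos ha, d.m_eq_zero_iff.2 ha] at h
      have hN2 : d.N = 2 := by rw [hN, d.m_eq_zero_iff.2 ha]; norm_num
      rw [hN2] at h ⊢
      unfold q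
      linarith
    · rw [if_neg ha] at h
      unfold q
      push_cast
      linarith
  omega

end Data

end Cfsg.Agent.Blocks.Tame2
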