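import Cfsg.Agent.Blocks.Tame2.Inst
import Cfsg.Agent.BlockChar.Support

/-!
# A central involution in the defect group

When the involution of the defect group is central in the whole group, the contributions at the
involution are the signed contributions at the identity and the columns of the rotations have a
parity.
-/

set_option autoImplicit false

namespace Cfsg.Agent.Blocks.Tame2

open Cfsg.Agent Cfsg.Agent.Blocks Cfsg.Agent.Blocks.Star Cfsg.Agent.BrauerPairs
open Cfsg.Agent.Blocks.Dihedral (one_mem_regC)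
open scoped ComplexConjugate
open ZMod (stdAddChar)

universe u

attribute [local instance] Fintype.ofFinite

variable {G : Type u} [Group G] [Finite G] {M : Ideal Cfsg.AlgInt}
  {B : Set (Cfsg.IrrCharacter G)} {D : Subgroup G}
  {e₀ : Set (Cfsg.IrrCharacter (Subgroup.centralizer (D : Set G)))} {a : ℕ} {s : ℤ} {u t : G}
  {hM : Cfsg.IsPModular 2 M} {hmax : Cfsg.IsMaximalBrauerPair 2 M B D e₀}
  {sh : Shape D a s u t}

local notation "CG[" Q "]" => Subgroup.centralizer ((Q : Subgroup G) : Set G)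
local notation "sbc" => Cfsg.subgroupBlockCoeff

/-- The sign of a central involution in a character. -/
theorem exists_sign {z : G} (hz : z ∈ Subgroup.center G) (hz2 : z * z = 1)
    (χ : Cfsg.IrrCharacter G) : ∃ k : ℤ, (k = 1 ∨ k = -1) ∧
      (∀ y, (χ : G → ℂ) (z * y) = (k : ℂ) * (χ : G → ℂ) y) := by
  have h1 : ∀ y, (χ : G → ℂ) (z * y) = Cfsg.centralChar (χ : G → ℂ) z * (χ : G → ℂ) y :=
    fun y => irr_mul_central χ.2 hz y
  have h2 : Cfsg.centralChar (χ : G → ℂ) z * Cfsg.centralChar (χ : G → ℂ) z = 1 := by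
    have h := h1 z
    have h' := h1 1
    rw [mul_one] at h'
    rw [hz2, h', ← mul_assoc] at h
    exact mul_right_cancel₀ (Char.IsIrr.one_ne_zero χ.2) (by rw [one_mul]; exact h.symm)
  rcases mul_self_eq_one_iff.1 h2 with h | h
  · exact ⟨1, Or.inl rfl, fun y => by rw [h1, h, Int.cast_one]⟩
  · exact ⟨-1, Or.inr rfl, fun y => by rw [h1, h, Int.cast_neg, Int.cast_one]⟩

theorem bel_congr (hM : Cfsg.IsPModular 2 M) (hmax : Cfsg.IsMaximalBrauerPair 2 M B D e₀)
    {x y : G} (hx : x ∈ D) (h : Subgroup.zpowers x = Subgroup.zpowers y) :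
    bel 2 M D e₀ y = bel 2 M D e₀ x := by
  obtain ⟨f, hf, he⟩ := below_bel hM hmax hx
  exact bel_eq hM hmax (below_of_pair (a := ⟨Subgroup.zpowers x, f⟩) h hf fun g => congrFun he g)

/-- At a central element of the defect group the section is a translate of the character. -/
theorem sect_bel_central (hM : Cfsg.IsPModular 2 M) (hmax : Cfsg.IsMaximalBrauerPair 2 M B D e₀)
    {x : G} (hx : x ∈ D) (hc : x ∈ Subgroup.center G) (χ : B) {y : G} (hy : ¬ 2 ∣ orderOf y) :
    sect ((χ : Cfsg.IrrCharacter G) : G → ℂ) x (bel 2 M D e₀ x) y =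
      ((χ : Cfsg.IrrCharacter G) : G → ℂ) (x * y) := by
  classical
  have hu : ∃ k, orderOf x = 2 ^ k := by
    haveI := Fact.mk hM.1
    obtain ⟨k, hk⟩ := IsPGroup.iff_orderOf.1 hmax.1.1.1 ⟨x, hx⟩
    exact ⟨k, by rwa [← Subgroup.orderOf_mk x hx]⟩
  have hcomm : ∀ g, x * g = g * x := fun g => (Subgroup.mem_center_iff.1 hc g).symm
  obtain ⟨hy1, hy2⟩ := parts_mul hM.1 (hcomm y : Commute x y) hu hy
  have h := Phi_eq_self hM (χ : Cfsg.IrrCharacter G) (x * y) (W := fun _ _ => (1 : ℂ))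
    fun _ _ _ => rfl
  rw [Phi, hy1, hy2] at h
  simp only [one_mul] at h
  rw [← h]
  symm
  refine Finset.sum_eq_single (bel 2 M D e₀ x) (fun e he hne => ?_) fun hn => absurd
    (bel_mem_Bk hM hmax hx) hn
  by_contra hs
  obtain ⟨b, hb, rfl⟩ := mem_Bk.1 he
  obtain ⟨g, hg⟩ := (exists_below_iff hM hmax b).2
    (pair_of_sect_ne_zero hM hmax.1.2.1 χ.2 hu hb
      (Finset.mem_filter.2 ⟨Finset.mem_univ _, hy, hcomm y⟩) hs)
  have hfix : conjF g⁻¹ (bel 2 M D e₀ x) = bel 2 M D e₀ x := funext fun w => by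
    have := isInv_Bk (bel_mem_Bk hM hmax hx) g (mem_zpowers_centralizer.2 (hcomm g)) w
    simpa [conjF] using this
  rw [show g * x * g⁻¹ = x by rw [← hcomm g, mul_inv_cancel_right]] at hg
  refine hne ?_
  rw [← hfix, bel_eq hM hmax hg, conjF_conjF, inv_mul_cancel, conjF_one]

theorem cVal_central (hM : Cfsg.IsPModular 2 M) (hmax : Cfsg.IsMaximalBrauerPair 2 M B D e₀)
    {z : G} (hz : z ∈ D) (hc : z ∈ Subgroup.center G) {k : B → ℤ}
    (hk : ∀ χ : B, ∀ y, ((χ : Cfsg.IrrCharacter G) : G → ℂ) (z * y) =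
      (k χ : ℂ) * ((χ : Cfsg.IrrCharacter G) : G → ℂ) y) (χ ψ : B) :
    cVal 2 M D e₀ z χ ψ = (k χ : ℂ) * (k ψ : ℂ) * cVal 2 M D e₀ (1 : G) χ ψ := by
  classical
  have hC : ∀ x : G, x ∈ Subgroup.center G → Nat.card CG[Subgroup.zpowers x] = Nat.card G :=
    fun x hx => by
      rw [show CG[Subgroup.zpowers x] = ⊤ from eq_top_iff.2 fun g _ =>
        mem_zpowers_centralizer.2 (Subgroup.mem_center_iff.1 hx g).symm]
      exact Subgroup.card_top
  have hreg : regC 2 z = regC 2 (1 : G) := by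
    ext y
    simp [regC, (Subgroup.mem_center_iff.1 hc y).symm]
  simp only [cVal, hC z hc, hC 1 (Subgroup.one_mem _), hreg, Finset.mul_sum]
  refine Finset.sum_congr rfl fun y hy => ?_
  have hy' : ¬ 2 ∣ orderOf y := (Finset.mem_filter.1 hy).2.1
  rw [sect_bel_central hM hmax hz hc χ hy', sect_bel_central hM hmax hz hc ψ hy',
    sect_bel_central hM hmax D.one_mem (Subgroup.one_mem _) χ hy',
    sect_bel_central hM hmax D.one_mem (Subgroup.one_mem _) ψ hy', hk, hk, one_mul, map_mul,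
    map_intCast]
  ring

/-- A function with a parity has coefficients of one parity. -/
theorem Cols.dC_parity [NeZero (2 ^ (a + 2))] {ι : Type*} [Fintype ι]
    {σ : ZMod (2 ^ (a + 2))} {A : ι → ZMod (2 ^ (a + 2)) → ℕ}
    {f : ι → ZMod (2 ^ (a + 2)) → ℂ} (c : Cols a σ A f) {χ : ι} {m : ℤ}
    (h : ∀ x, x ≠ 0 → x ≠ Mul2.hh a → f χ (x + Mul2.hh a) = (m : ℂ) * f χ x)
    (l : ZMod (2 ^ (a + 2))) :
    dC A χ l * ((if Mul2.IsEv l then 1 else -1) - m) = 0 := by
  classical
  set g : ZMod (2 ^ (a + 2)) → ℤ := fun l =>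
    dC A χ l * ((if Mul2.IsEv l then 1 else -1) - m) with hg
  set H : ZMod (2 ^ (a + 2)) → ℂ := fun x => ∑ l, (g l : ℂ) * stdAddChar (x * l) with hH
  have hvan : ∀ x, x ≠ 0 → x ≠ Mul2.hh a → H x = 0 := by
    intro x h0 h1
    have h0' : x + Mul2.hh a ≠ 0 := fun e => h1 (by
      rw [eq_neg_of_add_eq_zero_left e, Mul2.hh_neg])
    have h1' : x + Mul2.hh a ≠ Mul2.hh a := fun e => h0 (add_eq_right.1 e)
    have e := h x h0 h1
    rw [c.value_eq χ h0' h1', c.value_eq χ h0 h1, Finset.mul_sum, ← sub_eq_zero,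
      ← Finset.sum_sub_distrib] at e
    rw [← e]
    refine Finset.sum_congr rfl fun l _ => ?_
    rw [add_mul, AddChar.map_add_eq_mul, Cols.char_hh, hg]
    push_cast
    split_ifs <;> ring
  have key : ∀ k, ((2 ^ (a + 2) : ℕ) : ℂ) * (g k : ℂ) =
      H 0 + H (Mul2.hh a) * stdAddChar (Mul2.hh a * -k) := by
    intro k
    have hF : ∑ x, H x * stdAddChar (x * -k) = ((2 ^ (a + 2) : ℕ) : ℂ) * (g k : ℂ) := by
      simp only [hH, Finset.sum_mul]
      rw [Finset.sum_comm, Finset.sum_eq_single k]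
      · rw [Finset.sum_congr rfl (g := fun _ => (g k : ℂ)) fun x _ => ?_, Finset.sum_const,
          Finset.card_univ, ZMod.card, nsmul_eq_mul]
        rw [mul_assoc, ← AddChar.map_add_eq_mul, show x * k + x * -k = 0 by ring,
          AddChar.map_zero_eq_one, mul_one]
      · intro l _ hne
        rw [Finset.sum_congr rfl (g := fun x => (g l : ℂ) * (stdAddChar (x * (l - k)) : ℂ))
          fun x _ => ?_, ← Finset.mul_sum]
        · rw [Finset.sum_congr rfl (g := fun x => (stdAddChar ((l - k) * x) : ℂ))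
            fun x _ => by rw [mul_comm x], Cols.sum_char, if_neg (sub_ne_zero.2 hne), mul_zero]
        · rw [mul_assoc, ← AddChar.map_add_eq_mul]
          congr 2
          ring
      · simp
    rw [← hF, ← Finset.sum_erase_add _ _ (Finset.mem_univ (0 : ZMod (2 ^ (a + 2)))),
      ← Finset.sum_erase_add _ _ (Finset.mem_erase.2 ⟨Mul2.hh_ne_zero, Finset.mem_univ (Mul2.hh a)⟩),
      Finset.sum_eq_zero fun x hx => ?_, zero_add, zero_mul, AddChar.map_zero_eq_one, mul_one,
      add_comm]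
    simp only [Finset.mem_erase, Finset.mem_univ, and_true] at hx
    rw [hvan x hx.2 hx.1, zero_mul]
  have hneg : ∀ k : ZMod (2 ^ (a + 2)), Mul2.IsEv (-k) ↔ Mul2.IsEv k := fun k => by
    have h := Mul2.isEv_add k (-k)
    rw [add_neg_cancel] at h
    exact (h.1 Mul2.isEv_zero).symm
  have hb : Mul2.IsEv (Mul2.base l) ↔ Mul2.IsEv l := by
    unfold Mul2.base
    split_ifs with h' <;> simp [h', Mul2.isEv_zero, Mul2.not_isEv_one]
  have e1 := key l
  have e2 := key (Mul2.base l)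
  rw [Cols.char_hh, if_congr ((hneg _).trans (hb.trans (hneg l).symm)) rfl rfl,
    ← Cols.char_hh, ← e1] at e2
  have h3 : g (Mul2.base l) = 0 := by
    have hb0 : dC A χ (Mul2.base l) = 0 := by
      unfold Mul2.base
      split_ifs
      · exact Cols.d_zero χ
      · exact Cols.d_one χ
    simp only [hg, hb0, zero_mul]
  rw [h3, Int.cast_zero, mul_zero, eq_comm, mul_eq_zero] at e2
  exact_mod_cast e2.resolve_left (Nat.cast_ne_zero.2 (NeZero.ne _))

open scoped Classical in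
/-- The signs of a central involution satisfy the hypotheses of the counting. -/
theorem Cert.exists_central [NeZero (2 ^ (a + 2))] {Z : Nil hM hmax sh} (C : Cert Z)
    (hz : u ^ 2 ^ (a + 1) ∈ Subgroup.center G) :
    ∃ (k : B → ℤ) (e : ℤ), (e = 1 ∨ e = -1) ∧
      (∀ χ : B, ∀ y, ((χ : Cfsg.IrrCharacter G) : G → ℂ) (u ^ 2 ^ (a + 1) * y) =
        (k χ : ℂ) * ((χ : Cfsg.IrrCharacter G) : G → ℂ) y) ∧
      C.d.Central fun χ => e * k χ := by
  letI : Fintype (LL a u) := Dihedral.subFintype (LL a u)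
  set z := u ^ 2 ^ (a + 1) with hzdef
  choose k hk1 hk using fun χ : B => exists_sign hz sh.z_mul_self (χ : Cfsg.IrrCharacter G)
  have hzL : (⟨z, le_LL sh sh.z_mem⟩ : LL a u) ∈ Subgroup.center (LL a u) :=
    Subgroup.mem_center_iff.2 fun g => Subtype.ext (Subgroup.mem_center_iff.1 hz g)
  obtain ⟨e, he1, he⟩ := exists_sign hzL (Subtype.ext sh.z_mul_self) Z.η₀
  have hee : (e : ℂ) * e = 1 := by rcases he1 with h | h <;> simp [h]
  -- the parity of the columns
  have hshift : ∀ (χ : B) (x : ZMod (2 ^ (a + 2))), x ≠ 0 → x ≠ Mul2.hh a →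
      Z.col χ (x + Mul2.hh a) = ((e * k χ : ℤ) : ℂ) * Z.col χ x := by
    intro χ x h0 h1
    have hx := sh.isRot_pow.2 ⟨h0, h1⟩
    have h0' : x + Mul2.hh a ≠ 0 := fun e => h1 (by
      rw [eq_neg_of_add_eq_zero_left e, Mul2.hh_neg])
    have h1' : x + Mul2.hh a ≠ Mul2.hh a := fun e => h0 (add_eq_right.1 e)
    have hy := sh.isRot_pow.2 ⟨h0', h1'⟩
    set X := u ^ x.val with hX
    set Y := u ^ (x + Mul2.hh a).val with hY
    have hYX : Y = z * X := by
      rw [hY, sh.pow_val, sh.pow_hh, hX, hzdef]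
      exact Subgroup.mem_center_iff.1 hz _
    have hzx : z ∈ Subgroup.zpowers X := by
      rw [hzdef, ← sh.v_sq]
      exact Subgroup.mul_mem _ (sh.v_mem_zpowers hx.1 hx.2.1 hx.2.2)
        (sh.v_mem_zpowers hx.1 hx.2.1 hx.2.2)
    have hzy : z ∈ Subgroup.zpowers Y := by
      rw [hzdef, ← sh.v_sq]
      exact Subgroup.mul_mem _ (sh.v_mem_zpowers hy.1 hy.2.1 hy.2.2)
        (sh.v_mem_zpowers hy.1 hy.2.1 hy.2.2)
    have hzp : Subgroup.zpowers X = Subgroup.zpowers Y := by
      refine le_antisymm (Subgroup.zpowers_le.2 ?_) (Subgroup.zpowers_le.2 ?_)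
      · rw [show X = z⁻¹ * Y by rw [hYX, inv_mul_cancel_left]]
        exact Subgroup.mul_mem _ (Subgroup.inv_mem _ hzy) (Subgroup.mem_zpowers _)
      · rw [hYX]
        exact Subgroup.mul_mem _ hzx (Subgroup.mem_zpowers _)
    have hbel := bel_congr hM hmax (sh.zpowers_le hx.1) hzp
    have s1 : sect ((χ : Cfsg.IrrCharacter G) : G → ℂ) X (bel 2 M D e₀ X) 1 =
        Z.col χ x * sect (Z.η₀ : LL a u → ℂ) (rotL sh hx)
          (fun g : LL a u => bel 2 M D e₀ X (g : G)) 1 :=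
      Z.sect_rot hx _ (y := 1) (one_mem_regC hM.1 _)
    have s2 : sect ((χ : Cfsg.IrrCharacter G) : G → ℂ) Y (bel 2 M D e₀ Y) 1 =
        Z.col χ (x + Mul2.hh a) * sect (Z.η₀ : LL a u → ℂ) (rotL sh hy)
          (fun g : LL a u => bel 2 M D e₀ Y (g : G)) 1 :=
      Z.sect_rot hy _ (y := 1) (one_mem_regC hM.1 _)
    rw [hbel] at s2
    have t1 : sect ((χ : Cfsg.IrrCharacter G) : G → ℂ) Y (bel 2 M D e₀ X) 1 =
        (k χ : ℂ) * sect ((χ : Cfsg.IrrCharacter G) : G → ℂ) X (bel 2 M D e₀ X) 1 := by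
      simp only [sect, hYX, Finset.mul_sum, mul_assoc z X, hk]
      rw [Finset.sum_congr rfl fun g _ => by rw [mul_assoc z, hk]]
      exact Finset.sum_congr rfl fun g _ => by ring
    have t2 : sect (Z.η₀ : LL a u → ℂ) (rotL sh hy)
          (fun g : LL a u => bel 2 M D e₀ X (g : G)) 1 =
        (e : ℂ) * sect (Z.η₀ : LL a u → ℂ) (rotL sh hx)
          (fun g : LL a u => bel 2 M D e₀ X (g : G)) 1 := by
      have hrot : rotL sh hy = (⟨z, le_LL sh sh.z_mem⟩ : LL a u) * rotL sh hx :=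
        Subtype.ext hYX
      simp only [sect, hrot, mul_assoc, he, Finset.mul_sum]
      exact Finset.sum_congr rfl fun g _ => by ring
    rw [t1, t2, s1] at s2
    refine mul_right_cancel₀ (Z.base_ne_zero hx) ?_
    push_cast
    linear_combination (-(e : ℂ)) * s2 - (Z.col χ (x + Mul2.hh a) *
      sect (Z.η₀ : LL a u → ℂ) (rotL sh hx) (fun g : LL a u => bel 2 M D e₀ X (g : G)) 1) * hee
  have hpar := fun (χ : B) => C.cols.dC_parity (hshift χ)
  have hsgn : ∀ χ, e * k χ = 1 ∨ e * k χ = -1 := fun χ => by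
    rcases he1 with h | h <;> rcases hk1 χ with h' | h' <;> simp [h, h']
  refine ⟨k, e, he1, hk, hsgn, fun χ ψ => ?_, fun χ h l => ?_, fun χ h => ⟨?_, fun l => ?_⟩, ?_⟩
  · apply Int.cast_injective (α := ℂ)
    push_cast
    rw [C.hS, C.hR, cVal_central hM hmax sh.z_mem hz hk]
    linear_combination -((2 : ℂ) ^ (a + 3) * (k χ : ℂ) * (k ψ : ℂ) *
      cVal 2 M D e₀ (1 : G) χ ψ) * hee
  · have := hpar χ (l : ZMod (2 ^ (a + 2)))
    rw [if_neg l.2.1, h] at this
    rw [C.ho]
    simpa using this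
  · have := hpar χ (Mul2.hh a)
    rw [if_pos Mul2.isEv_hh, h] at this
    rw [C.hw]
    simpa using this
  · have := hpar χ (l : ZMod (2 ^ (a + 2)))
    rw [if_pos l.2.1, h] at this
    rw [C.hv]
    simpa using this
  · apply Int.cast_injective (α := ℂ)
    push_cast
    simp only [C.hR, mul_assoc, ← Finset.mul_sum]
    refine mul_eq_zero_of_right _ ?_
    have hC : CG[Subgroup.zpowers (1 : G)] = ⊤ := eq_top_iff.2 fun g _ =>
      mem_zpowers_centralizer.2 (by simp)
    have h0 : ∀ y, y ∈ regC 2 (1 : G) → ∑ χ : B, (k χ : ℂ) *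
        (((χ : Cfsg.IrrCharacter G) : G → ℂ) y * conj (((χ : Cfsg.IrrCharacter G) : G → ℂ) y))
          = 0 := by
      intro y hy
      have hy' : ¬ 2 ∣ orderOf y := (Finset.mem_filter.1 hy).2.1
      have hsing : ¬ Cfsg.IsPRegular 2 (z * y) := fun h => by
        have h1 := (pPartOf_eq_one_iff hM.1 (z * y)).2 h
        have h2 := (parts_mul hM.1 ((Subgroup.mem_center_iff.1 hz y).symm : Commute z y)
          ⟨1, by rw [hzdef, sh.orderOf_z, pow_one]⟩ hy').1
        exact sh.z_ne_one (h2.symm.trans h1)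
      have h := BlockChar.sum_block_eq_zero' hM hmax.1.2.1 (x := y) (y := z * y) hy' hsing
      rw [← Finset.sum_filter, Finset.sum_subtype (p := fun χ => χ ∈ B)
        (Finset.univ.filter fun χ => χ ∈ B) (by simp)] at h
      refine Eq.trans (Finset.sum_congr rfl fun χ _ => ?_) h
      rw [hk χ y]
      ring
    have h1 : ∀ χ : B, (k χ : ℂ) * cVal 2 M D e₀ (1 : G) χ χ =
        (Nat.card G : ℂ)⁻¹ * ∑ y ∈ regC 2 (1 : G), (k χ : ℂ) *
          (((χ : Cfsg.IrrCharacter G) : G → ℂ) y *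
            conj (((χ : Cfsg.IrrCharacter G) : G → ℂ) y)) := fun χ => by
      have hsum : ∀ y ∈ regC 2 (1 : G),
          sect ((χ : Cfsg.IrrCharacter G) : G → ℂ) 1 (bel 2 M D e₀ 1) y =
            ((χ : Cfsg.IrrCharacter G) : G → ℂ) y := fun y hy =>
        sect_bel_one hM hmax χ (Finset.mem_filter.1 hy).2.1
      rw [cVal, show Nat.card CG[Subgroup.zpowers (1 : G)] = Nat.card G by
        rw [hC]; exact Subgroup.card_top, Finset.sum_congr rfl fun y hy => by rw [hsum y hy],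
        ← Finset.mul_sum]
      ring
    rw [Finset.sum_congr rfl (g := fun χ : B => (2 : ℂ) ^ (a + 3) * (Nat.card G : ℂ)⁻¹ * ∑ y ∈ regC 2 (1 : G),
      (k χ : ℂ) * (((χ : Cfsg.IrrCharacter G) : G → ℂ) y *
        conj (((χ : Cfsg.IrrCharacter G) : G → ℂ) y))) fun χ _ => ?_, ← Finset.mul_sum,
      Finset.sum_comm, Finset.sum_eq_zero h0, mul_zero]
    linear_combination ((2 : ℂ) ^ (a + 3)) * h1 χ

end Cfsg.Agent.Blocks.Tame2
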