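import Cfsg.Agent.Blocks.Tame2.Local
import Cfsg.Agent.Char.Gen
import Cfsg.Agent.Char.Induced

/-!
# The classes of the defect group and stable characters

The elements outside the rotations fall into two classes.  The class sums over the subsections, and
the generalized characters that are constant on fused elements.
-/

set_option autoImplicit false

namespace Cfsg.Agent.Blocks.Tame2

open Cfsg.Agent Cfsg.Agent.Blocks Cfsg.Agent.Blocks.Star Cfsg.Agent.BrauerPairs

universe u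

attribute [local instance] Fintype.ofFinite

variable {G : Type u} [Group G] {D : Subgroup G} {a : ℕ} {s : ℤ} {u t : G}

/-- The even rotations and the class of `t`. -/
def IsEvCl (u t x : G) : Prop := ∃ j : ℤ, x = u ^ (2 * j) ∨ x = u ^ (2 * j) * t

open scoped Classical in
/-- The sign function with the given values on the two classes outside the rotations. -/
noncomputable def sgnFun (u t : G) (c₀ c₁ : ℤ) (x : G) : ℤ :=
  if x ∈ Subgroup.zpowers u then (if IsEvCl u t x then 1 else c₀ * c₁)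
  else (if IsEvCl u t x then c₀ else c₁)

namespace Shape

variable (h : Shape D a s u t)
include h

theorem even_of_pow_eq {i j : ℤ} (e : u ^ i = u ^ j) : Even (i - j) := by
  have h1 := zpow_eq_zpow_iff_modEq.1 e
  rw [h.hord, Int.modEq_iff_dvd] at h1
  have h2 : (2 : ℤ) ∣ j - i := Dvd.dvd.trans (by push_cast; exact dvd_pow_self 2 (by omega)) h1
  obtain ⟨c, hc⟩ := h2
  exact ⟨-c, by linarith⟩

theorem evCl_pow (i : ℤ) : IsEvCl u t (u ^ i) ↔ Even i := by
  refine ⟨?_, fun ⟨c, hc⟩ => ⟨c, Or.inl (by rw [hc]; congr 1; ring)⟩⟩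
  rintro ⟨j, e | e⟩
  · obtain ⟨c, hc⟩ := h.even_of_pow_eq e
    exact ⟨c + j, by linarith⟩
  · refine absurd ?_ h.htn
    exact ⟨-(2 * j) + i, by show u ^ (-(2 * j) + i) = t; rw [zpow_add, e]; group⟩

theorem evCl_pow_mul (i : ℤ) : IsEvCl u t (u ^ i * t) ↔ Even i := by
  refine ⟨?_, fun ⟨c, hc⟩ => ⟨c, Or.inr (by rw [hc]; congr 2; ring)⟩⟩
  rintro ⟨j, e | e⟩
  · refine absurd ?_ h.htn
    exact ⟨-i + 2 * j, by show u ^ (-i + 2 * j) = t; rw [zpow_add, ← e]; group⟩
  · obtain ⟨c, hc⟩ := h.even_of_pow_eq (mul_right_cancel e)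
    exact ⟨c + j, by linarith⟩

theorem sq_t : ∃ e : ℤ, Even e ∧ t * t = u ^ e := by
  rcases h.hcase with ⟨-, e⟩ | ⟨-, -, e⟩
  · exact ⟨2 ^ (a + 1), (even_two.pow_of_ne_zero (by omega)), by rw [e, ← zpow_natCast]; norm_num⟩
  · exact ⟨0, Even.zero, by rw [e, zpow_zero]⟩

theorem rep {x : G} (hx : x ∈ D) : (∃ i : ℤ, x = u ^ i) ∨ ∃ i : ℤ, x = u ^ i * t := by
  by_cases hxu : x ∈ Subgroup.zpowers u
  · obtain ⟨i, hi⟩ := hxu
    exact Or.inl ⟨i, hi.symm⟩
  · exact Or.inr (h.exists_eq hx hxu)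

theorem not_mem_pow_mul (i : ℤ) : u ^ i * t ∉ Subgroup.zpowers u := fun hc => h.htn <| by
  have := Subgroup.mul_mem _ (Subgroup.inv_mem _ (Subgroup.zpow_mem _ (Subgroup.mem_zpowers u) i)) hc
  rwa [inv_mul_cancel_left] at this

theorem pow_mul_t (i : ℤ) : u ^ i * t ∈ D := D.mul_mem (D.zpow_mem h.hu i) h.ht

theorem evCl_mul {x y : G} (hx : x ∈ D) (hy : y ∈ D) :
    IsEvCl u t (x * y) ↔ (IsEvCl u t x ↔ IsEvCl u t y) := by
  obtain ⟨c, hc⟩ := h.s_odd
  obtain ⟨e, he, htt⟩ := h.sq_t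
  have hmove : ∀ j : ℤ, t * u ^ j = u ^ (s * j) * t := fun j => by
    rw [← h.conj_t j, inv_mul_cancel_right]
  rcases h.rep hx with ⟨i, rfl⟩ | ⟨i, rfl⟩ <;> rcases h.rep hy with ⟨j, rfl⟩ | ⟨j, rfl⟩
  · rw [← zpow_add, h.evCl_pow, h.evCl_pow, h.evCl_pow, Int.even_add]
  · rw [← mul_assoc, ← zpow_add, h.evCl_pow_mul, h.evCl_pow, h.evCl_pow_mul, Int.even_add]
  · rw [mul_assoc, hmove, ← mul_assoc, ← zpow_add, h.evCl_pow_mul, h.evCl_pow_mul, h.evCl_pow,
      Int.even_add, hc]
    simp [parity_simps]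
  · rw [mul_assoc, ← mul_assoc t, hmove, mul_assoc (u ^ (s * j)), htt, ← zpow_add, ← zpow_add,
      h.evCl_pow, h.evCl_pow_mul, h.evCl_pow_mul, hc]
    simp [parity_simps, he]

/-- The sign function is multiplicative. -/
theorem sgnFun_mul {c₀ c₁ : ℤ} (h₀ : c₀ * c₀ = 1) (h₁ : c₁ * c₁ = 1) {x y : G} (hx : x ∈ D)
    (hy : y ∈ D) : sgnFun u t c₀ c₁ (x * y) = sgnFun u t c₀ c₁ x * sgnFun u t c₀ c₁ y := by
  have e1 := h.mul_mem_iff hx hy
  have e2 := h.evCl_mul hx hy
  simp only [sgnFun]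
  by_cases a1 : x ∈ Subgroup.zpowers u <;> by_cases a2 : y ∈ Subgroup.zpowers u <;>
    by_cases b1 : IsEvCl u t x <;> by_cases b2 : IsEvCl u t y <;>
    simp only [e1, e2, a1, a2, b1, b2, iff_true, iff_false, not_true, not_false_iff, if_true,
      if_false] <;>
    linear_combination (norm := ring_nf) 0
  all_goals grind

theorem sgn_pow (c₀ c₁ : ℤ) (i : ℤ) :
    sgnFun u t c₀ c₁ (u ^ i) = if Even i then 1 else c₀ * c₁ := by
  rw [sgnFun, if_pos (Subgroup.zpow_mem _ (Subgroup.mem_zpowers u) i)]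
  simp only [h.evCl_pow]

theorem sgn_pow_mul (c₀ c₁ : ℤ) (i : ℤ) :
    sgnFun u t c₀ c₁ (u ^ i * t) = if Even i then c₀ else c₁ := by
  rw [sgnFun, if_neg (h.not_mem_pow_mul i)]
  simp only [h.evCl_pow_mul]

theorem sgn_one (c₀ c₁ : ℤ) : sgnFun u t c₀ c₁ (1 : G) = 1 := by
  have := h.sgn_pow c₀ c₁ 0
  simpa using this

theorem sgn_z (c₀ c₁ : ℤ) : sgnFun u t c₀ c₁ (u ^ 2 ^ (a + 1)) = 1 := by
  rw [← zpow_natCast, h.sgn_pow, if_pos]
  push_cast
  exact even_two.pow_of_ne_zero (by omega)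

/-- The sign function is a linear character. -/
theorem sgn_gen [Finite G] {c₀ c₁ : ℤ} (h₀ : c₀ * c₀ = 1) (h₁ : c₁ * c₁ = 1) :
    Cfsg.IsGeneralizedCharacter D (fun x : D => (sgnFun u t c₀ c₁ (x : G) : ℂ)) := by
  let f : D →* ℂ :=
    { toFun := fun x => (sgnFun u t c₀ c₁ (x : G) : ℂ)
      map_one' := by simp [h.sgn_one]
      map_mul' := fun x y => by simp [h.sgnFun_mul h₀ h₁ x.2 y.2] }
  exact Char.isGeneralized_of_isCharacter (Char.isCharacter_hom f.toHomUnits)

/-- Conjugate elements have the same sign. -/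
theorem sgn_conj {c₀ c₁ : ℤ} (h₀ : c₀ * c₀ = 1) (h₁ : c₁ * c₁ = 1) {q x : G} (hq : q ∈ D)
    (hx : x ∈ D) : sgnFun u t c₀ c₁ (q * x * q⁻¹) = sgnFun u t c₀ c₁ x := by
  have e := h.sgnFun_mul h₀ h₁ hq (D.inv_mem hq)
  rw [mul_inv_cancel, h.sgn_one] at e
  rw [h.sgnFun_mul h₀ h₁ (D.mul_mem hq hx) (D.inv_mem hq), h.sgnFun_mul h₀ h₁ hq hx]
  linear_combination -(sgnFun u t c₀ c₁ x) * e

open scoped Classical in
/-- The generalized character supported on the rotations. -/
theorem exists_pair_char [Finite G] : ∃ F : D → ℂ, Cfsg.IsGeneralizedCharacter D F ∧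
    F 1 = 2 ∧ F ⟨u ^ 2 ^ (a + 1), h.z_mem⟩ = -2 ∧ F ⟨u ^ 2 ^ a, h.v_mem⟩ = 0 ∧
    ∀ x : D, (x : G) ∉ Subgroup.zpowers u → F x = 0 := by
  set C : Subgroup D := (Subgroup.zpowers u).subgroupOf D with hC
  haveI hnorm : C.Normal := Subgroup.normal_of_index_eq_two h.index_two
  have hCcard : Nat.card C = 2 ^ (a + 2) := by
    rw [Nat.card_congr (Subgroup.subgroupOfEquivOfLe h.zpowers_le).toEquiv, Nat.card_zpowers,
      h.hord]
  let e := Subgroup.subgroupOfEquivOfLe h.zpowers_le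
  let i : C ≃* Multiplicative (ZMod (Nat.card (Subgroup.zpowers u))) :=
    e.trans (zmodCyclicMulEquiv (inferInstance : IsCyclic (Subgroup.zpowers u))).symm
  haveI : NeZero (Nat.card (Subgroup.zpowers u)) := ⟨Nat.card_pos.ne'⟩
  let ψ : C →* ℂ := (ZMod.stdAddChar (N := Nat.card (Subgroup.zpowers u))).toMonoidHom.comp
    i.toMonoidHom
  have hψ : Function.Injective ψ := fun x y hxy =>
    i.injective (ZMod.injective_stdAddChar hxy)
  let z' : C := ⟨⟨u ^ 2 ^ (a + 1), h.z_mem⟩, Subgroup.npow_mem_zpowers u _⟩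
  let v' : C := ⟨⟨u ^ 2 ^ a, h.v_mem⟩, Subgroup.npow_mem_zpowers u _⟩
  have hψz : ψ z' = -1 := by
    have h2 : ψ z' * ψ z' = 1 := by
      rw [← map_mul, ← map_one ψ]
      exact congrArg ψ (Subtype.ext (Subtype.ext h.z_mul_self))
    rcases mul_self_eq_one_iff.1 h2 with h3 | h3
    · exact absurd (congrArg (fun c : C => ((c : D) : G)) (hψ (h3.trans (map_one ψ).symm)))
        h.z_ne_one
    · exact h3
  refine ⟨Cfsg.indFun C ψ, Char.isGeneralized_indFun C
    (Char.isGeneralized_of_isCharacter (Char.isCharacter_hom ψ.toHomUnits)), ?_, ?_, ?_,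
    fun x hx => Char.indFun_apply_of_normal C _ hx⟩
  · rw [Char.indFun_apply_one, h.index_two, map_one, Nat.cast_ofNat, mul_one]
  · show Cfsg.indFun C ψ (z' : D) = -2
    rw [Char.indFun_apply_coe_of_normal, Finset.sum_congr rfl (g := fun _ : D => ψ z') fun q _ => ?_,
      Finset.sum_const, Finset.card_univ, nsmul_eq_mul, hψz, ← Nat.card_eq_fintype_card, h.hcard,
      hCcard]
    · push_cast
      rw [pow_succ (2 : ℂ) (a + 2)]
      field_simp
    · exact congrArg ψ (Subtype.ext (Subtype.ext (by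
        have := h.z_fix (D.inv_mem q.2)
        simpa using this)))
  · show Cfsg.indFun C ψ (v' : D) = 0
    rw [Char.indFun_apply_coe_of_normal]
    refine mul_eq_zero_of_right _ ?_
    set tt : D := ⟨t, h.ht⟩
    set S := ∑ q : D, ψ ⟨q⁻¹ * (v' : D) * q, by simpa using hnorm.conj_mem _ v'.2 q⁻¹⟩ with hS
    have hψv : ψ v' * ψ v' = -1 := by
      rw [← map_mul, ← hψz]
      exact congrArg ψ (Subtype.ext (Subtype.ext h.v_sq))
    have hinv : ψ v' * ψ v'⁻¹ = 1 := by rw [← map_mul, mul_inv_cancel, map_one]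
    have hsum : ψ v' + ψ v'⁻¹ = 0 := by
      linear_combination ψ v'⁻¹ * hψv - ψ v' * hinv
    have hshift : S = ∑ q : D, ψ ⟨(q * tt)⁻¹ * (v' : D) * (q * tt),
        by simpa using hnorm.conj_mem _ v'.2 (q * tt)⁻¹⟩ :=
      (Fintype.sum_equiv (Equiv.mulRight tt) _ _ fun q => rfl).symm
    have htv : t⁻¹ * u ^ 2 ^ a * t = (u ^ 2 ^ a)⁻¹ := by
      rcases h.v_conj (D.inv_mem h.ht) with e | e
      · exfalso
        rw [inv_inv] at e
        rcases h.conj_u (D.inv_mem h.ht) with ⟨hh, -⟩ | ⟨-, e'⟩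
        · exact h.htn (inv_mem_iff.1 hh)
        · have h1 := e' (2 ^ a)
          rw [inv_inv, show u ^ (2 ^ a : ℤ) = u ^ 2 ^ a by rw [← zpow_natCast]; norm_num, e,
            ← zpow_natCast, zpow_eq_zpow_iff_modEq, h.hord, Int.modEq_iff_dvd] at h1
          obtain ⟨c, hc⟩ := h.four_dvd
          obtain ⟨k, hk⟩ := h1
          push_cast at hk
          have h2 : (2 : ℤ) ^ a * (s - 1) = 2 ^ a * (4 * k) := by
            rw [show (2 : ℤ) ^ a * (4 * k) = 2 ^ (a + 2) * k by ring, ← hk]; ring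
          have := mul_left_cancel₀ (pow_ne_zero a two_ne_zero) h2
          omega
      · rwa [inv_inv] at e
    have hzero : S + S = 0 := by
      conv_lhs => arg 2; rw [hshift]
      rw [← Finset.sum_add_distrib]
      refine Finset.sum_eq_zero fun q _ => ?_
      rcases h.v_conj (D.inv_mem q.2) with e | e <;> rw [inv_inv] at e
      · rw [show (⟨q⁻¹ * (v' : D) * q, _⟩ : C) = v' from Subtype.ext (Subtype.ext e),
          show (⟨(q * tt)⁻¹ * (v' : D) * (q * tt), _⟩ : C) = v'⁻¹ from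
            Subtype.ext (Subtype.ext (by
              show ((q : G) * t)⁻¹ * u ^ 2 ^ a * ((q : G) * t) = (u ^ 2 ^ a)⁻¹
              rw [← htv, show ((q : G) * t)⁻¹ * u ^ 2 ^ a * ((q : G) * t) =
                t⁻¹ * ((q : G)⁻¹ * u ^ 2 ^ a * q) * t by group, e]))]
        exact hsum
      · rw [show (⟨q⁻¹ * (v' : D) * q, _⟩ : C) = v'⁻¹ from Subtype.ext (Subtype.ext e),
          show (⟨(q * tt)⁻¹ * (v' : D) * (q * tt), _⟩ : C) = v' from
            Subtype.ext (Subtype.ext (by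
              show ((q : G) * t)⁻¹ * u ^ 2 ^ a * ((q : G) * t) = u ^ 2 ^ a
              rw [show ((q : G) * t)⁻¹ * u ^ 2 ^ a * ((q : G) * t) =
                t⁻¹ * ((q : G)⁻¹ * u ^ 2 ^ a * q) * t by group, e,
                show t⁻¹ * (u ^ 2 ^ a)⁻¹ * t = (t⁻¹ * u ^ 2 ^ a * t)⁻¹ by group, htv, inv_inv]))]
        rw [add_comm]
        exact hsum
    exact add_self_eq_zero.1 hzero

end Shape

variable [Finite G] {M : Ideal Cfsg.AlgInt} {B : Set (Cfsg.IrrCharacter G)}
  {e₀ : Set (Cfsg.IrrCharacter (Subgroup.centralizer (D : Set G)))}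

local notation "CG[" Q "]" => Subgroup.centralizer ((Q : Subgroup G) : Set G)

/-- The element is fused neither to the identity nor to a rotation. -/
def InU (M : Ideal Cfsg.AlgInt) (D : Subgroup G)
    (e₀ : Set (Cfsg.IrrCharacter (Subgroup.centralizer (D : Set G)))) (a : ℕ) (u x : G) : Prop :=
  x ≠ 1 ∧ ¬ Fused 2 M D e₀ x (u ^ 2 ^ (a + 1)) ∧ ∀ y, IsRot a u y → ¬ Fused 2 M D e₀ x y

open scoped Classical in
/-- The number of classes fused neither to the involution nor to a rotation. -/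
noncomputable def rCount (M : Ideal Cfsg.AlgInt) (D : Subgroup G)
    (e₀ : Set (Cfsg.IrrCharacter (Subgroup.centralizer (D : Set G)))) (a : ℕ) (u t : G) : ℕ :=
  (if InU M D e₀ a u t then 1 else 0) + if InU M D e₀ a u (u * t) then 1 else 0

open scoped Classical in
/-- The number of classes fused to the involution. -/
noncomputable def zCount (M : Ideal Cfsg.AlgInt) (D : Subgroup G)
    (e₀ : Set (Cfsg.IrrCharacter (Subgroup.centralizer (D : Set G)))) (a : ℕ) (u t : G) : ℕ :=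
  (if Fused 2 M D e₀ t (u ^ 2 ^ (a + 1)) then 1 else 0) +
    if Fused 2 M D e₀ (u * t) (u ^ 2 ^ (a + 1)) then 1 else 0

variable (hM : Cfsg.IsPModular 2 M) (hmax : Cfsg.IsMaximalBrauerPair 2 M B D e₀)
  (sh : Shape D a s u t)

include sh in
omit [Finite G] in
theorem isRot_v : IsRot a u (u ^ 2 ^ a) :=
  ⟨Subgroup.npow_mem_zpowers u _, fun e => by
    have := sh.orderOf_v; rw [e, orderOf_one] at this; omega, fun e => by
    have := sh.orderOf_v; rw [e, sh.orderOf_z] at this; omega⟩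

include sh in
theorem sq_of_fused_z {x : G} (h : Fused 2 M D e₀ x (u ^ 2 ^ (a + 1))) : x * x = 1 := by
  have h1 := h.orderOf_eq
  rw [sh.orderOf_z] at h1
  rw [← pow_two, h1, pow_orderOf_eq_one]

include hM hmax sh

theorem v_fused_inv : Fused 2 M D e₀ (u ^ 2 ^ a)⁻¹ (u ^ 2 ^ a) := by
  have h := fused_conj hM hmax (D.inv_mem sh.v_mem) sh.ht
  rcases sh.conj_u sh.ht with ⟨e, -⟩ | ⟨-, e⟩
  · exact absurd e sh.htn
  · have e1 : t * (u ^ 2 ^ a)⁻¹ * t⁻¹ = u ^ 2 ^ a := by
      rw [← zpow_natCast, ← zpow_neg, e]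
      obtain ⟨c, hc⟩ := sh.four_dvd
      refine sh.pow_congr ⟨-c, ?_⟩
      push_cast
      linear_combination (-(2 : ℤ) ^ a) * hc
    rwa [e1] at h

/-- An element outside the rotations that is fused to a rotation is fused to the one of order
four. -/
theorem fused_v_of_rot {x y : G} (hxu : x ∉ Subgroup.zpowers u) (hy : IsRot a u y)
    (h : Fused 2 M D e₀ x y) : Fused 2 M D e₀ x (u ^ 2 ^ a) := by
  have hxD := h.mem_left
  have h4 : orderOf y ∣ 4 := h.orderOf_eq ▸ orderOf_dvd_of_pow_eq_one (sh.pow_four_outside hxD hxu)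
  have hmem := sh.mem_zpowers_of_dvd (x := u ^ 2 ^ a) (Subgroup.npow_mem_zpowers u _) hy.1
    (by rw [sh.orderOf_v]; exact h4)
  obtain ⟨i, hi⟩ := hmem
  change (u ^ 2 ^ a) ^ i = y at hi
  set v := u ^ 2 ^ a with hv
  have hv4 : v ^ (4 : ℤ) = 1 := by
    rw [show (4 : ℤ) = ((4 : ℕ) : ℤ) from rfl, zpow_natCast, ← sh.orderOf_v, pow_orderOf_eq_one]
  have hv2 : v ^ (2 : ℤ) = u ^ 2 ^ (a + 1) := by rw [zpow_two, hv, sh.v_sq]
  have hd := Int.emod_add_mul_ediv i 4
  have hmod : y = v ^ (i % 4) := by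
    rw [← hi]; conv_lhs => rw [← hd]
    rw [zpow_add, zpow_mul, hv4, one_zpow, mul_one]
  have hlo := Int.emod_nonneg i (by norm_num : (4 : ℤ) ≠ 0)
  have hhi := Int.emod_lt_of_pos i (by norm_num : (0 : ℤ) < 4)
  rcases (show i % 4 = 0 ∨ i % 4 = 1 ∨ i % 4 = 2 ∨ i % 4 = 3 by omega) with e | e | e | e <;>
    rw [e] at hmod
  · exact absurd (hmod.trans (zpow_zero v)) hy.2.1
  · rwa [hmod, zpow_one] at h
  · exact absurd (hmod.trans hv2) hy.2.2
  · have e3 : y = v⁻¹ := by
      rw [hmod, show (3 : ℤ) = 4 + -1 by norm_num, zpow_add, hv4, one_mul, zpow_neg_one]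
    rw [e3] at h
    exact h.trans' hM hmax (v_fused_inv hM hmax sh)

theorem inU_congr {x y : G} (h : Fused 2 M D e₀ x y) :
    InU M D e₀ a u x ↔ InU M D e₀ a u y := by
  have key : ∀ x y, Fused 2 M D e₀ x y → InU M D e₀ a u x → InU M D e₀ a u y :=
    fun x y h hx => ⟨fun e => hx.1 (Fused.of_one (e ▸ h).symm),
      fun h' => hx.2.1 (h.trans' hM hmax h'), fun r hr h' => hx.2.2 r hr (h.trans' hM hmax h')⟩
  exact ⟨key x y h, key y x h.symm⟩

theorem InU.outside {x : G} (hx : x ∈ D) (hU : InU M D e₀ a u x) : x ∉ Subgroup.zpowers u :=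
  fun hxu => hU.2.2 x ⟨hxu, hU.1, fun e => hU.2.1 (by rw [← e]; exact fused_refl hM hmax hx)⟩
    (fused_refl hM hmax hx)

theorem not_inU {x : G} (hxu : x ∉ Subgroup.zpowers u) (hU : ¬ InU M D e₀ a u x) :
    Fused 2 M D e₀ x (u ^ 2 ^ (a + 1)) ∨ Fused 2 M D e₀ x (u ^ 2 ^ a) := by
  by_contra hcon
  push Not at hcon
  exact hU ⟨sh.ne_one_outside hxu, hcon.1,
    fun y hy h => hcon.2 (fused_v_of_rot hM hmax sh hxu hy h)⟩

/-- The classes outside the rotations. -/
theorem fused_class (i : ℤ) :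
    Fused 2 M D e₀ (if Even i then t else u * t) (u ^ i * t) := by
  by_cases hi : Even i
  · obtain ⟨k, hk⟩ := sh.exists_conj_of_parity (i := i) (j := 0) (by simpa using hi)
    rw [zpow_zero, one_mul] at hk
    rw [if_pos hi, ← hk]
    exact fused_conj hM hmax sh.ht (D.zpow_mem sh.hu k)
  · obtain ⟨k, hk⟩ := sh.exists_conj_of_parity (i := i) (j := 1)
      (by simp [parity_simps, Int.not_even_iff_odd.1 hi])
    rw [zpow_one] at hk
    rw [if_neg hi, ← hk]
    exact fused_conj hM hmax (D.mul_mem sh.hu sh.ht) (D.zpow_mem sh.hu k)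

/-- A function that is constant on the classes and agrees across the fusions is stable. -/
theorem stable_of {g : G → ℂ} (hcl : ∀ q ∈ D, ∀ x ∈ D, g (q * x * q⁻¹) = g x)
    (hz : ∀ x, x ∉ Subgroup.zpowers u → Fused 2 M D e₀ x (u ^ 2 ^ (a + 1)) →
      g x = g (u ^ 2 ^ (a + 1)))
    (hv : ∀ x, x ∉ Subgroup.zpowers u → Fused 2 M D e₀ x (u ^ 2 ^ a) → g x = g (u ^ 2 ^ a))
    {c : ℂ} (hU : ∀ x ∈ D, InU M D e₀ a u x → g x = c) :
    ∀ x y, Fused 2 M D e₀ x y → g y = g x := by
  have toz : ∀ x, Fused 2 M D e₀ x (u ^ 2 ^ (a + 1)) → g x = g (u ^ 2 ^ (a + 1)) := by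
    intro x h
    by_cases hxu : x ∈ Subgroup.zpowers u
    · have hzz := Dihedral.mem_zpowers_of_orderOf_eq hxu (Subgroup.npow_mem_zpowers u _) h.orderOf_eq
      obtain ⟨i, hi⟩ := hzz
      have h2 := h.orderOf_eq
      rw [sh.orderOf_z] at h2
      have hx2 : x ^ (2 : ℤ) = 1 := by
        rw [show (2 : ℤ) = ((2 : ℕ) : ℤ) from rfl, zpow_natCast, h2, pow_orderOf_eq_one]
      rcases Int.even_or_odd i with ⟨d, rfl⟩ | ⟨d, rfl⟩
      · exact absurd (hi.symm.trans (show x ^ (d + d) = 1 by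
          rw [← two_mul, zpow_mul, hx2, one_zpow])) sh.z_ne_one
      · exact congrArg g ((show x = x ^ (2 * d + 1) by
          rw [zpow_add_one, zpow_mul, hx2, one_zpow, one_mul]).trans hi)
    · exact hz x hxu h
  have torot : ∀ x y, IsRot a u y → Fused 2 M D e₀ x y → g x = g y := by
    intro x y hy h
    by_cases hxu : x ∈ Subgroup.zpowers u
    · rcases fusion_rot hM hmax sh hxu hy.1 h with rfl | rfl
      · rfl
      · exact (hcl t sh.ht x (sh.zpowers_le hxu)).symm
    · have h1 := fused_v_of_rot hM hmax sh hxu hy h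
      have h2 := h.symm.trans' hM hmax h1
      rw [hv x hxu h1]
      rcases fusion_rot hM hmax sh hy.1 (Subgroup.npow_mem_zpowers u _) h2 with e | e
      · rw [e]
      · rw [e]; exact hcl t sh.ht y (sh.zpowers_le hy.1)
  intro x y h
  by_cases hU' : InU M D e₀ a u x
  · rw [hU x h.mem_left hU', hU y h.mem_right ((inU_congr hM hmax sh h).1 hU')]
  · by_cases h1 : x = 1
    · subst h1
      rw [Fused.of_one h]
    by_cases hzx : Fused 2 M D e₀ x (u ^ 2 ^ (a + 1))
    · rw [toz x hzx, toz y (h.symm.trans' hM hmax hzx)]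
    · obtain ⟨r, hr, hxr⟩ : ∃ r, IsRot a u r ∧ Fused 2 M D e₀ x r := by
        by_contra hno
        push Not at hno
        exact hU' ⟨h1, hzx, hno⟩
      rw [torot x r hr hxr, torot y r hr (h.symm.trans' hM hmax hxr)]

/-- A sign function attached to the two classes. -/
theorem sgn_class (P : G → Prop) [DecidablePred P]
    (hP : ∀ x y, Fused 2 M D e₀ x y → (P x ↔ P y)) (k₀ k₁ : ℤ) {x : G} (hx : x ∈ D)
    (hxu : x ∉ Subgroup.zpowers u) :
    sgnFun u t (if P t then k₀ else k₁) (if P (u * t) then k₀ else k₁) x =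
      if P x then k₀ else k₁ := by
  obtain ⟨i, rfl⟩ := sh.exists_eq hx hxu
  rw [sh.sgn_pow_mul]
  have h := hP _ _ (fused_class hM hmax sh i)
  split_ifs at h ⊢ <;> tauto

open scoped Classical in
/-- The sum over the elements of the defect group, arranged by fusion. -/
theorem sum_arrange (F : D → ℂ) (hF : ∀ x y : D, Fused 2 M D e₀ (x : G) (y : G) → F x = F y) :
    ∑ x : D, F x / ((fusedSet 2 M D e₀ (x : G)).card : ℂ) =
      F 1 + F ⟨_, sh.z_mem⟩ + (∑ x ∈ Finset.univ.filter (fun x : D => IsRot a u (x : G)), F x) / 2 +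
        ∑ x ∈ Finset.univ.filter (fun x : D => InU M D e₀ a u (x : G)),
          F x / ((fusedSet 2 M D e₀ (x : G)).card : ℂ) := by
  set z : D := ⟨_, sh.z_mem⟩ with hz
  set R := Finset.univ.filter (fun x : D => IsRot a u (x : G)) with hR
  set W : D → Prop := fun x => InU M D e₀ a u (x : G) with hW
  have hzR : z ∉ R := fun h => (Finset.mem_filter.1 h).2.2.2 rfl
  have h1R : (1 : D) ∉ R := fun h => (Finset.mem_filter.1 h).2.2.1 rfl
  have h1z : (1 : D) ≠ z := fun h => sh.z_ne_one (congrArg Subtype.val h).symm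
  set S := insert (1 : D) (insert z R) with hS
  have hsplit : Finset.univ.filter (fun x : D => ∃ y ∈ S, Fused 2 M D e₀ (x : G) (y : G)) =
      Finset.univ.filter (fun x : D => ¬ W x) := by
    refine Finset.filter_congr fun x _ => ⟨?_, fun hx => ?_⟩
    · rintro ⟨y, hy, h⟩ hU
      rcases Finset.mem_insert.1 hy with rfl | hy
      · exact hU.1 (Fused.of_one h.symm)
      rcases Finset.mem_insert.1 hy with rfl | hy
      · exact hU.2.1 h
      · exact hU.2.2 _ (Finset.mem_filter.1 hy).2 h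
    · by_cases h1 : x = 1
      · exact ⟨1, Finset.mem_insert_self _ _, h1 ▸ fused_refl hM hmax x.2⟩
      by_cases h2 : Fused 2 M D e₀ (x : G) (u ^ 2 ^ (a + 1))
      · exact ⟨z, Finset.mem_insert_of_mem (Finset.mem_insert_self _ _), h2⟩
      by_contra hno
      refine hx ⟨fun e => h1 (Subtype.ext e), h2, fun r hr h => hno ⟨⟨r, h.mem_right⟩, ?_, h⟩⟩
      exact Finset.mem_insert_of_mem (Finset.mem_insert_of_mem
        (Finset.mem_filter.2 ⟨Finset.mem_univ _, hr⟩))
  have hcnt : ∀ y ∈ S, (S.filter fun w : D => Fused 2 M D e₀ (y : G) (w : G)).card =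
      if y ∈ R then 2 else 1 := by
    intro y hy
    by_cases hyR : y ∈ R
    · rw [if_pos hyR, Finset.card_eq_two]
      have hyr := (Finset.mem_filter.1 hyR).2
      set y' : D := ⟨t * (y : G) * t⁻¹, D.mul_mem (D.mul_mem sh.ht y.2) (D.inv_mem sh.ht)⟩ with hy'
      have hyr' : IsRot a u (y' : G) := ⟨sh.conj_mem sh.ht hyr.1,
        fun e => hyr.2.1 (conj_eq_one_iff.1 e),
        fun e => hyr.2.2 ((MulAut.conj t).injective
          (show t * (y : G) * t⁻¹ = t * u ^ 2 ^ (a + 1) * t⁻¹ by rw [sh.z_fix sh.ht]; exact e))⟩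
      refine ⟨y, y', fun e => ?_, ?_⟩
      · have hc : (y : G) = t * (y : G) * t⁻¹ := congrArg Subtype.val e
        obtain ⟨i, hi⟩ := sh.v_mem_zpowers hyr.1 hyr.2.1 hyr.2.2
        have h2 : t * u ^ 2 ^ a * t⁻¹ = u ^ 2 ^ a := by
          rw [← hi]
          show t * (y : G) ^ i * t⁻¹ = (y : G) ^ i
          rw [← conj_zpow, ← hc]
        have h3 := congrArg orderOf (show u ^ 2 ^ (a + 1) = 1 from ?_)
        · rw [sh.orderOf_z, orderOf_one] at h3; omega
        · rcases sh.conj_u sh.ht with ⟨hh, -⟩ | ⟨-, ee⟩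
          · exact absurd hh sh.htn
          · rw [← zpow_natCast, ee] at h2
            rw [← zpow_natCast, ← zpow_zero u]
            obtain ⟨c, hc⟩ := sh.four_dvd
            have h4 := zpow_eq_zpow_iff_modEq.1 h2
            rw [sh.hord, Int.modEq_iff_dvd] at h4
            obtain ⟨k, hk⟩ := h4
            push_cast at hk
            have h5 : (2 : ℤ) ^ a * (1 - s) = 2 ^ a * (4 * k) := by
              rw [show (2 : ℤ) ^ a * (4 * k) = 2 ^ (a + 2) * k by ring, ← hk]; ring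
            have := mul_left_cancel₀ (pow_ne_zero a two_ne_zero) h5
            omega
      · ext w
        simp only [Finset.mem_filter, Finset.mem_insert, Finset.mem_singleton]
        constructor
        · rintro ⟨hw, h⟩
          rcases Finset.mem_insert.1 hw with rfl | hw
          · exact absurd (Fused.of_one h.symm) hyr.2.1
          rcases Finset.mem_insert.1 hw with rfl | hw
          · exfalso
            rcases fusion_rot hM hmax sh hyr.1 (Subgroup.npow_mem_zpowers u _) h with e | e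
            · exact hyr.2.2 e.symm
            · exact hyr'.2.2 e.symm
          · rcases fusion_rot hM hmax sh hyr.1 (Finset.mem_filter.1 hw).2.1 h with e | e
            · exact Or.inl (Subtype.ext e)
            · exact Or.inr (Subtype.ext e)
        · rintro (rfl | rfl)
          · exact ⟨hy, fused_refl hM hmax w.2⟩
          · exact ⟨Finset.mem_insert_of_mem (Finset.mem_insert_of_mem
              (Finset.mem_filter.2 ⟨Finset.mem_univ _, hyr'⟩)), fused_conj hM hmax y.2 sh.ht⟩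
    · rw [if_neg hyR, Finset.card_eq_one]
      refine ⟨y, Finset.eq_singleton_iff_unique_mem.2
        ⟨Finset.mem_filter.2 ⟨hy, fused_refl hM hmax y.2⟩, fun w hw' => ?_⟩⟩
      obtain ⟨hw, h⟩ := Finset.mem_filter.1 hw'
      rcases Finset.mem_insert.1 hy with rfl | hy
      · exact Subtype.ext (Fused.of_one h)
      obtain rfl : y = z := (Finset.mem_insert.1 hy).resolve_right hyR
      rcases Finset.mem_insert.1 hw with rfl | hw
      · exact absurd (Fused.of_one h.symm) sh.z_ne_one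
      rcases Finset.mem_insert.1 hw with rfl | hw
      · rfl
      · exfalso
        have hwr := (Finset.mem_filter.1 hw).2
        rcases fusion_rot hM hmax sh (Subgroup.npow_mem_zpowers u _) hwr.1 h with e | e
        · exact hwr.2.2 e
        · exact hwr.2.2 (e.trans (sh.z_fix sh.ht))
  rw [← Finset.sum_filter_add_sum_filter_not Finset.univ W, add_comm, ← hsplit,
    sum_fused_div hM hmax F hF S, hS, Finset.sum_insert (by simp [h1z, h1R]),
    Finset.sum_insert hzR, ← hS]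
  have a1 := hcnt 1 (Finset.mem_insert_self _ _)
  have a2 := hcnt z (Finset.mem_insert_of_mem (Finset.mem_insert_self _ _))
  rw [if_neg h1R] at a1
  rw [if_neg hzR] at a2
  rw [a1, a2, Nat.cast_one, div_one, div_one, Finset.sum_div,
    Finset.sum_congr rfl (g := fun y => F y / 2) fun y hy => ?_, ← add_assoc]
  rw [hcnt y (Finset.mem_insert_of_mem (Finset.mem_insert_of_mem hy)), if_pos hy]
  norm_num

end Cfsg.Agent.Blocks.Tame2
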