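import Cfsg.Agent.Blocks.Dihedral.Fourier
import Cfsg.Agent.Blocks.Tame2.Arith

/-!
# Integer coefficients of the rotation columns

The values on a cyclic group with an involutive multiplier give integer vectors whose inner products
are fixed by the orthogonality relations.
-/

set_option autoImplicit false

namespace Cfsg.Agent.Blocks.Tame2

open Finset
open scoped ComplexConjugate
open ZMod (stdAddChar)

/-- The element of order two. -/
def Mul2.hh (a : ℕ) : ZMod (2 ^ (a + 2)) := ((2 ^ (a + 1) : ℕ) : ZMod (2 ^ (a + 2)))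

/-- The multiplier of the cyclic group. -/
structure Mul2 (a : ℕ) (σ : ZMod (2 ^ (a + 2))) : Prop where
  sq : σ * σ = 1
  four : σ * ((2 ^ a : ℕ) : ZMod (2 ^ (a + 2))) = -((2 ^ a : ℕ) : ZMod (2 ^ (a + 2)))
  fix : ∀ x, σ * x = x → x = 0 ∨ x = Mul2.hh a

namespace Mul2

variable {a : ℕ} {σ : ZMod (2 ^ (a + 2))}

/-- The parity. -/
def IsEv (l : ZMod (2 ^ (a + 2))) : Prop := Even l.val

instance (l : ZMod (2 ^ (a + 2))) : Decidable (IsEv l) := inferInstanceAs (Decidable (Even l.val))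

/-- The base of a parity. -/
def base (l : ZMod (2 ^ (a + 2))) : ZMod (2 ^ (a + 2)) := if IsEv l then 0 else 1

theorem isEv_natCast (n : ℕ) : IsEv (a := a) (n : ZMod (2 ^ (a + 2))) ↔ Even n := by
  rw [IsEv, ZMod.val_natCast, even_iff_two_dvd, even_iff_two_dvd,
    Nat.dvd_mod_iff (dvd_pow_self 2 (by omega))]

theorem isEv_add (x y : ZMod (2 ^ (a + 2))) : IsEv (x + y) ↔ (IsEv x ↔ IsEv y) := by
  haveI : NeZero (2 ^ (a + 2)) := ⟨by positivity⟩
  rw [← ZMod.natCast_zmod_val x, ← ZMod.natCast_zmod_val y, ← Nat.cast_add, isEv_natCast,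
    isEv_natCast, isEv_natCast, Nat.even_add]

theorem isEv_mul (x y : ZMod (2 ^ (a + 2))) : IsEv (x * y) ↔ IsEv x ∨ IsEv y := by
  haveI : NeZero (2 ^ (a + 2)) := ⟨by positivity⟩
  rw [← ZMod.natCast_zmod_val x, ← ZMod.natCast_zmod_val y, ← Nat.cast_mul, isEv_natCast,
    isEv_natCast, isEv_natCast, Nat.even_mul]

theorem isEv_zero : IsEv (0 : ZMod (2 ^ (a + 2))) := by
  have h := (isEv_natCast (a := a) 0).2 Even.zero
  rwa [Nat.cast_zero] at h

theorem not_isEv_one : ¬ IsEv (1 : ZMod (2 ^ (a + 2))) := by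
  have h := mt (isEv_natCast (a := a) 1).1 (by decide)
  rwa [Nat.cast_one] at h

theorem isEv_hh : IsEv (hh a) := (isEv_natCast _).2 (by simp [Nat.even_pow])

theorem hh_ne_zero : hh a ≠ 0 := by
  rw [Ne, hh, ZMod.natCast_eq_zero_iff]
  exact fun h => absurd (Nat.le_of_dvd (by positivity) h)
    (not_le.2 (Nat.pow_lt_pow_right (by norm_num) (by omega)))

theorem hh_add : hh a + hh a = 0 := by
  rw [hh, ← Nat.cast_add, ZMod.natCast_eq_zero_iff]
  exact ⟨1, by ring⟩

theorem hh_neg : -hh a = hh a := neg_eq_of_add_eq_zero_left hh_add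

variable (hσ : Mul2 a σ)
include hσ

theorem not_isEv : ¬ IsEv σ := fun h => not_isEv_one (hσ.sq ▸ (isEv_mul σ σ).2 (Or.inl h))

theorem isEv_smul (x : ZMod (2 ^ (a + 2))) : IsEv (σ * x) ↔ IsEv x := by
  rw [isEv_mul, or_iff_right hσ.not_isEv]

theorem smul_smul (x : ZMod (2 ^ (a + 2))) : σ * (σ * x) = x := by
  rw [← mul_assoc, hσ.sq, one_mul]

theorem smul_hh : σ * hh a = hh a := by
  have e : hh a = ((2 ^ a : ℕ) : ZMod (2 ^ (a + 2))) + ((2 ^ a : ℕ) : ZMod (2 ^ (a + 2))) := by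
    rw [hh, ← Nat.cast_add]; congr 1; ring
  rw [e, mul_add, hσ.four, ← neg_add, ← e, hh_neg]

theorem ne_one : σ ≠ 1 := fun h => by
  rcases hσ.fix 1 (by rw [h, one_mul]) with h1 | h1
  · exact not_isEv_one (h1 ▸ isEv_zero)
  · exact not_isEv_one (h1 ▸ isEv_hh)

theorem base_smul (x : ZMod (2 ^ (a + 2))) : base (σ * x) = base x := if_congr (hσ.isEv_smul x) rfl rfl

theorem smul_ne {x : ZMod (2 ^ (a + 2))} (h0 : x ≠ 0) (h1 : x ≠ hh a) : σ * x ≠ x :=
  fun h => (hσ.fix x h).elim h0 h1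

/-- The representatives of the even pairs. -/
abbrev EvRep (_hσ : Mul2 a σ) : Type :=
  {l : ZMod (2 ^ (a + 2)) // IsEv l ∧ l ≠ 0 ∧ l ≠ hh a ∧ l.val < (σ * l).val}

/-- The representatives of the odd pairs. -/
abbrev OdRep (_hσ : Mul2 a σ) : Type :=
  {l : ZMod (2 ^ (a + 2)) // ¬ IsEv l ∧ l ≠ 1 ∧ l ≠ σ ∧ l.val < (σ * l).val}

/-- Split an invariant sum along the pairs. -/
theorem sum_split {R : Type*} [CommRing R] [NeZero (2 ^ (a + 2))] [Fintype hσ.EvRep]
    [Fintype hσ.OdRep] (φ : ZMod (2 ^ (a + 2)) → R) (hφ : ∀ l, φ (σ * l) = φ l) :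
    ∑ l, φ l = φ 0 + φ (hh a) + 2 * φ 1 + 2 * ∑ k : hσ.EvRep, φ k +
      2 * ∑ k : hσ.OdRep, φ k := by
  classical
  set P : ZMod (2 ^ (a + 2)) → Prop := fun l =>
    (IsEv l ∧ l ≠ 0 ∧ l ≠ hh a ∧ l.val < (σ * l).val) with hP
  set Q : ZMod (2 ^ (a + 2)) → Prop := fun l =>
    (¬ IsEv l ∧ l ≠ 1 ∧ l ≠ σ ∧ l.val < (σ * l).val) with hQ
  have key : ∀ l, φ l = (if l = 0 then φ l else 0) + (if l = hh a then φ l else 0) +
      ((if l = 1 then φ l else 0) + (if l = σ then φ l else 0)) +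
      ((if P l then φ l else 0) + (if P (σ * l) then φ l else 0)) +
      ((if Q l then φ l else 0) + (if Q (σ * l) then φ l else 0)) := by
    intro l
    have hev := hσ.isEv_smul l
    have hss := hσ.smul_smul l
    simp only [hP, hQ, hev, hss]
    by_cases h0 : l = 0
    · subst h0
      simp [hh_ne_zero.symm, isEv_zero, show (0 : ZMod (2 ^ (a + 2))) ≠ 1 from
        fun h => not_isEv_one (h ▸ isEv_zero),
        show (0 : ZMod (2 ^ (a + 2))) ≠ σ from fun h => hσ.not_isEv (h ▸ isEv_zero)]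
    by_cases h1 : l = hh a
    · subst h1
      simp [hσ.smul_hh, h0, isEv_hh, show hh a ≠ 1 from fun h => not_isEv_one (h ▸ isEv_hh),
        show hh a ≠ σ from fun h => hσ.not_isEv (h ▸ isEv_hh)]
    have hne := hσ.smul_ne h0 h1
    have hv : l.val ≠ (σ * l).val := fun h => hne (ZMod.val_injective _ h).symm
    by_cases he : IsEv l
    · have e1 : l ≠ 1 := fun h => not_isEv_one (h ▸ he)
      have e2 : l ≠ σ := fun h => hσ.not_isEv (h ▸ he)
      have e3 : σ * l ≠ 0 := fun h => h0 (by rw [← hss, h, mul_zero])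
      have e4 : σ * l ≠ hh a := fun h => h1 (by rw [← hss, h, hσ.smul_hh])
      rcases lt_or_gt_of_ne hv with h | h <;> simp [h0, h1, e1, e2, e3, e4, he, h, h.not_gt]
    · by_cases e1 : l = 1
      · simp [e1, show (1 : ZMod (2 ^ (a + 2))) ≠ 0 from fun h => h0 (e1.trans h),
          show (1 : ZMod (2 ^ (a + 2))) ≠ hh a from fun h => h1 (e1.trans h), hσ.ne_one.symm,
          not_isEv_one]
      by_cases e2 : l = σ
      · simp [e2, hσ.sq, hσ.ne_one, show σ ≠ 0 from fun h => h0 (e2.trans h),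
          show σ ≠ hh a from fun h => h1 (e2.trans h), hσ.not_isEv]
      have e3 : σ * l ≠ 1 := fun h => e2 (by rw [← hss, h, mul_one])
      have e4 : σ * l ≠ σ := fun h => e1 (by rw [← hss, h, hσ.sq])
      rcases lt_or_gt_of_ne hv with h | h <;> simp [h0, h1, e1, e2, e3, e4, he, h, h.not_gt]
  rw [sum_congr rfl fun l _ => key l]
  simp only [sum_add_distrib, sum_ite_eq', mem_univ, if_true]
  have hPsum : ∑ l, (if P l then φ l else 0) = ∑ k : hσ.EvRep, φ k := by
    rw [← sum_filter]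
    exact sum_subtype _ (fun l => by simp [hP]) _
  have hQsum : ∑ l, (if Q l then φ l else 0) = ∑ k : hσ.OdRep, φ k := by
    rw [← sum_filter]
    exact sum_subtype _ (fun l => by simp [hQ]) _
  have hflip : ∀ (R' : ZMod (2 ^ (a + 2)) → Prop) [DecidablePred R'],
      ∑ l, (if R' (σ * l) then φ l else 0) = ∑ l, (if R' l then φ l else 0) := fun R' _ =>
    Fintype.sum_equiv ⟨(σ * ·), (σ * ·), hσ.smul_smul, hσ.smul_smul⟩ _ _ fun l => by
      show _ = if R' (σ * l) then φ (σ * l) else 0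
      rw [hφ]
  rw [hflip (fun l => P l), hflip (fun l => Q l), hPsum, hQsum, show φ σ = φ 1 by rw [← hφ 1, mul_one]]
  ring

theorem card_rep [Fintype hσ.EvRep] [Fintype hσ.OdRep] :
    Fintype.card hσ.EvRep + 1 = 2 ^ a ∧ Fintype.card hσ.OdRep + 1 = 2 ^ a := by
  haveI : NeZero (2 ^ (a + 2)) := ⟨by positivity⟩
  have h := hσ.sum_split (R := ℤ) (fun l => if IsEv l then 1 else 0)
    fun l => if_congr (hσ.isEv_smul l) rfl rfl
  have h' := hσ.sum_split (R := ℤ) (fun _ => 1) fun _ => rfl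
  have hev : ∑ l : ZMod (2 ^ (a + 2)), (if IsEv l then (1 : ℤ) else 0) = 2 ^ (a + 1) := by
    have h2 : ∑ l : ZMod (2 ^ (a + 2)), (if IsEv l then (1 : ℤ) else 0) =
        ∑ l : ZMod (2 ^ (a + 2)), (if IsEv l then (0 : ℤ) else 1) :=
      Fintype.sum_equiv (Equiv.addRight 1) _ _ fun l => by
        simp only [Equiv.coe_addRight, isEv_add, not_isEv_one, iff_false]
        split_ifs <;> rfl
    have h3 : ∑ l : ZMod (2 ^ (a + 2)), (if IsEv l then (1 : ℤ) else 0) +
        ∑ l : ZMod (2 ^ (a + 2)), (if IsEv l then (0 : ℤ) else 1) = 2 ^ (a + 2) := by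
      rw [← sum_add_distrib, sum_congr rfl (g := fun _ => (1 : ℤ)) fun l _ => by
        split_ifs <;> rfl]
      simp [ZMod.card]
    rw [← h2] at h3
    have : (2 : ℤ) ^ (a + 2) = 2 * 2 ^ (a + 1) := pow_succ' _ _
    linarith
  rw [hev] at h
  simp only [sum_const, card_univ, ZMod.card, nsmul_eq_mul, mul_one] at h'
  rw [sum_congr rfl (g := fun _ => (1 : ℤ)) (fun k (_ : k ∈ (univ : Finset hσ.EvRep)) =>
    if_pos k.2.1), sum_congr rfl (g := fun _ => (0 : ℤ)) (fun k (_ : k ∈ (univ : Finset hσ.OdRep)) =>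
    if_neg k.2.1)] at h
  simp [isEv_zero, isEv_hh, not_isEv_one] at h
  push_cast at h'
  have e1 : (2 : ℤ) ^ (a + 1) = 2 * 2 ^ a := pow_succ' _ _
  have e2 : (2 : ℤ) ^ (a + 2) = 4 * 2 ^ a := by ring
  refine ⟨?_, ?_⟩
  · have : ((Fintype.card hσ.EvRep : ℤ) + 1) = 2 ^ a := by linarith
    exact_mod_cast this
  · have : ((Fintype.card hσ.OdRep : ℤ) + 1) = 2 ^ a := by linarith
    exact_mod_cast this

end Mul2

open Mul2

variable {a : ℕ} {σ : ZMod (2 ^ (a + 2))} {ι : Type*} [Fintype ι]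
  {A : ι → ZMod (2 ^ (a + 2)) → ℕ}

/-- The coefficient relative to the base of its parity. -/
def dC (A : ι → ZMod (2 ^ (a + 2)) → ℕ) (χ : ι) (l : ZMod (2 ^ (a + 2))) : ℤ :=
  (A χ l : ℤ) - A χ (base l)

/-- The values of a function on the cyclic group. -/
structure Cols (a : ℕ) (σ : ZMod (2 ^ (a + 2))) [NeZero (2 ^ (a + 2))]
    (A : ι → ZMod (2 ^ (a + 2)) → ℕ) (f : ι → ZMod (2 ^ (a + 2)) → ℂ) : Prop where
  hσ : Mul2 a σ
  hA : ∀ χ x, f χ x = ∑ l, (A χ l : ℂ) * stdAddChar (x * l)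
  hsym : ∀ χ x, f χ (σ * x) = f χ x
  hgram : ∀ x y, x ≠ 0 → x ≠ hh a → y ≠ 0 → y ≠ hh a → ∑ χ, f χ x * conj (f χ y) =
    if y = x ∨ y = σ * x then ((2 ^ (a + 2) : ℕ) : ℂ) else 0

namespace Cols

variable [NeZero (2 ^ (a + 2))] {f : ι → ZMod (2 ^ (a + 2)) → ℂ} (c : Cols a σ A f)
include c

theorem coeff_smul (χ : ι) (l : ZMod (2 ^ (a + 2))) : A χ (σ * l) = A χ l := by
  have h : ((2 ^ (a + 2) : ℕ) : ℂ) * (A χ (σ * l) : ℂ) =
      ((2 ^ (a + 2) : ℕ) : ℂ) * (A χ l : ℂ) := by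
    rw [Dihedral.coeff_eq c.hA, Dihedral.coeff_eq c.hA]
    refine Fintype.sum_equiv ⟨(σ * ·), (σ * ·), c.hσ.smul_smul, c.hσ.smul_smul⟩ _ _ fun x => ?_
    show _ = f χ (σ * x) * _
    rw [c.hsym]
    congr 2
    simp only [Equiv.coe_fn_mk]
    ring
  exact_mod_cast mul_left_cancel₀ (Nat.cast_ne_zero.2 (NeZero.ne (2 ^ (a + 2)))) h

theorem d_smul (χ : ι) (l : ZMod (2 ^ (a + 2))) : dC A χ (σ * l) = dC A χ l := by
  rw [dC, dC, c.coeff_smul, c.hσ.base_smul]

omit c in
theorem d_zero (χ : ι) : dC A χ 0 = 0 := by simp [dC, base, isEv_zero]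

omit c in
theorem d_one (χ : ι) : dC A χ 1 = 0 := by simp [dC, base, not_isEv_one]

omit c in
theorem sum_char (x : ZMod (2 ^ (a + 2))) :
    ∑ l, (stdAddChar (x * l) : ℂ) = if x = 0 then ((2 ^ (a + 2) : ℕ) : ℂ) else 0 := by
  rw [sum_congr rfl fun l _ => by rw [mul_comm x l],
    AddChar.sum_mulShift _ (ZMod.isPrimitive_stdAddChar _), ZMod.card]
  split_ifs <;> simp

omit c in
theorem char_hh (l : ZMod (2 ^ (a + 2))) :
    (stdAddChar (hh a * l) : ℂ) = if IsEv l then 1 else -1 := by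
  have h1 : (stdAddChar (hh a) : ℂ) = -1 := by
    have h2 : (stdAddChar (hh a) : ℂ) * stdAddChar (hh a) = 1 := by
      rw [← AddChar.map_add_eq_mul, hh_add, AddChar.map_zero_eq_one]
    rcases mul_self_eq_one_iff.1 h2 with h3 | h3
    · exact absurd (ZMod.injective_stdAddChar
        (h3.trans (AddChar.map_zero_eq_one (stdAddChar (N := 2 ^ (a + 2)))).symm)) hh_ne_zero
    · exact h3
  conv_lhs => rw [← ZMod.natCast_zmod_val l, mul_comm, ← nsmul_eq_mul, AddChar.map_nsmul_eq_pow, h1]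
  split_ifs with h
  · exact Even.neg_one_pow h
  · exact Odd.neg_one_pow (Nat.not_even_iff_odd.1 h)

omit c in
theorem sum_char_ev {x : ZMod (2 ^ (a + 2))} (h0 : x ≠ 0) (h1 : x ≠ hh a) :
    ∑ l, (if IsEv l then (stdAddChar (x * l) : ℂ) else 0) = 0 := by
  have e : ∀ l, (if IsEv l then (stdAddChar (x * l) : ℂ) else 0) =
      ((stdAddChar (x * l) : ℂ) + stdAddChar ((x + hh a) * l)) / 2 := fun l => by
    rw [add_mul, AddChar.map_add_eq_mul, char_hh]
    split_ifs <;> ring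
  rw [sum_congr rfl fun l _ => e l, ← sum_div, sum_add_distrib, sum_char, sum_char, if_neg h0,
    if_neg fun h => h1 ((eq_neg_of_add_eq_zero_left h).trans hh_neg)]
  simp

/-- The coefficients relative to the bases give the same values. -/
theorem value_eq (χ : ι) {x : ZMod (2 ^ (a + 2))} (h0 : x ≠ 0) (h1 : x ≠ hh a) :
    f χ x = ∑ l, (dC A χ l : ℂ) * stdAddChar (x * l) := by
  have hev := sum_char_ev h0 h1
  have hall : ∑ l, (stdAddChar (x * l) : ℂ) = 0 := by rw [sum_char, if_neg h0]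
  have e : ∀ l, (dC A χ l : ℂ) * stdAddChar (x * l) = (A χ l : ℂ) * stdAddChar (x * l) -
      (((A χ 0 : ℂ) - A χ 1) * (if IsEv l then (stdAddChar (x * l) : ℂ) else 0) +
        (A χ 1 : ℂ) * stdAddChar (x * l)) := fun l => by
    rw [dC, base]
    split_ifs <;> push_cast <;> ring
  rw [sum_congr rfl fun l _ => e l, sum_sub_distrib, sum_add_distrib, ← mul_sum, ← mul_sum, hev,
    hall, c.hA]
  simp

/-- The inner products of the coefficients. -/
theorem gram {k l : ZMod (2 ^ (a + 2))} (hk0 : k ≠ 0) (hk1 : k ≠ 1) (hkσ : k ≠ σ) (hl0 : l ≠ 0)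
    (hl1 : l ≠ 1) (hlσ : l ≠ σ) : ∑ χ, dC A χ k * dC A χ l =
      (if k = l then 1 else 0) + (if σ * k = l then 1 else 0) +
        (if IsEv k ↔ IsEv l then if IsEv k then 2 else 1 else 0) := by
  classical
  set E : ZMod (2 ^ (a + 2)) → ZMod (2 ^ (a + 2)) → ℂ :=
    fun k x => stdAddChar (x * -k) - stdAddChar (x * -base k) with hE
  have hv : ∀ χ k, ((2 ^ (a + 2) : ℕ) : ℂ) * (dC A χ k : ℂ) = ∑ x, f χ x * E k x := fun χ k => by
    simp only [hE, dC, mul_sub, sum_sub_distrib, Int.cast_sub, Int.cast_natCast,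
      Dihedral.coeff_eq c.hA]
  have hE0 : ∀ k, E k 0 = 0 := fun k => by simp [hE]
  have hbase : ∀ k : ZMod (2 ^ (a + 2)), IsEv (base k) ↔ IsEv k := fun k => by
    unfold base
    split_ifs with h <;> simp [h, isEv_zero, not_isEv_one]
  have hneg : ∀ k : ZMod (2 ^ (a + 2)), IsEv (-k) ↔ IsEv k := fun k => by
    have h := isEv_add k (-k)
    rw [add_neg_cancel] at h
    have h1 := h.1 isEv_zero
    exact h1.symm
  have hEh : ∀ k, E k (hh a) = 0 := fun k => by
    simp only [hE, char_hh, hneg, hbase, sub_self]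
  have hprod : ∀ p p' q q' : ZMod (2 ^ (a + 2)),
      ∑ x, ((stdAddChar (x * -p) : ℂ) - stdAddChar (x * -p')) *
        conj ((stdAddChar (x * -q) : ℂ) - stdAddChar (x * -q')) =
      ((2 ^ (a + 2) : ℕ) : ℂ) * (((if p = q then 1 else 0) - (if p' = q then 1 else 0)) -
        ((if p = q' then 1 else 0) - (if p' = q' then 1 else 0))) := by
    intro p p' q q'
    have hs : ∀ r r' : ZMod (2 ^ (a + 2)),
        ∑ x, (stdAddChar (x * -r) : ℂ) * stdAddChar (x * r') =
          if r = r' then ((2 ^ (a + 2) : ℕ) : ℂ) else 0 := fun r r' => by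
      rw [sum_congr rfl (g := fun x => (stdAddChar ((r' - r) * x) : ℂ)) fun x _ => by
        rw [← AddChar.map_add_eq_mul]; congr 1; ring, sum_char]
      exact if_congr (sub_eq_zero.trans eq_comm) rfl rfl
    simp only [map_sub, ← AddChar.map_neg_eq_conj, mul_neg, neg_neg]
    simp only [← mul_neg, sub_mul, mul_sub, sum_sub_distrib, hs]
    simp only [mul_ite, mul_one, mul_zero]
  have hmain : ((2 ^ (a + 2) : ℕ) : ℂ) ^ 2 * ((∑ χ, dC A χ k * dC A χ l : ℤ) : ℂ) =
      ((2 ^ (a + 2) : ℕ) : ℂ) * ∑ x, E k x * (conj (E l x) + conj (E l (σ * x))) := by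
    calc ((2 ^ (a + 2) : ℕ) : ℂ) ^ 2 * ((∑ χ, dC A χ k * dC A χ l : ℤ) : ℂ)
        = ∑ χ, (∑ x, f χ x * E k x) * conj (∑ y, f χ y * E l y) := by
          push_cast
          rw [mul_sum]
          refine sum_congr rfl fun χ _ => ?_
          rw [← hv, ← hv, map_mul, map_natCast, map_intCast]
          push_cast
          ring
      _ = ∑ x, ∑ y, E k x * conj (E l y) * ∑ χ, f χ x * conj (f χ y) := by
          simp only [map_sum, map_mul, sum_mul_sum]
          simp only [mul_sum]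
          rw [sum_comm]
          refine sum_congr rfl fun x _ => ?_
          rw [sum_comm]
          exact sum_congr rfl fun y _ => sum_congr rfl fun χ _ => by ring
      _ = _ := by
          rw [mul_sum]
          refine sum_congr rfl fun x _ => ?_
          by_cases hx0 : x = 0
          · subst hx0; simp [hE0]
          by_cases hx1 : x = hh a
          · subst hx1; simp [hEh]
          have hne := c.hσ.smul_ne hx0 hx1
          rw [sum_congr rfl (g := fun y => E k x * conj (E l y) *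
            ((if y = x then ((2 ^ (a + 2) : ℕ) : ℂ) else 0) +
              if y = σ * x then ((2 ^ (a + 2) : ℕ) : ℂ) else 0)) fun y _ => ?_]
          · simp only [mul_add, mul_ite, mul_zero, sum_add_distrib, sum_ite_eq', mem_univ, if_true]
            ring
          · by_cases hy0 : y = 0
            · subst hy0; simp [hE0]
            by_cases hy1 : y = hh a
            · subst hy1; simp [hEh]
            rw [c.hgram x y hx0 hx1 hy0 hy1]
            by_cases e : y = x
            · subst e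
              rw [if_pos (Or.inl rfl), if_pos rfl, if_neg (fun h => hne h.symm), add_zero]
            · simp [e]
  have hsm : ∀ x, E l (σ * x) = (stdAddChar (x * -(σ * l)) : ℂ) -
      stdAddChar (x * -(σ * base l)) := fun x => by
    simp only [hE]
    congr 2 <;> ring
  have hk' : σ * k ≠ base l := fun h => by
    rcases (show base l = 0 ∨ base l = 1 by unfold base; split_ifs <;> simp) with e | e <;>
      rw [e] at h
    · exact hk0 (by rw [← c.hσ.smul_smul k, h, mul_zero])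
    · exact hkσ (by rw [← c.hσ.smul_smul k, h, mul_one])
  have hbk : base k ≠ σ * l := fun h => by
    rcases (show base k = 0 ∨ base k = 1 by unfold base; split_ifs <;> simp) with e | e <;>
      rw [e] at h
    · exact hl0 (by rw [← c.hσ.smul_smul l, ← h, mul_zero])
    · exact hlσ (by rw [← c.hσ.smul_smul l, ← h, mul_one])
  simp only [mul_add, sum_add_distrib, hsm] at hmain
  rw [show ∑ x, E k x * conj (E l x) = _ from hprod k (base k) l (base l),
    show ∑ x, E k x * conj ((stdAddChar (x * -(σ * l)) : ℂ) - stdAddChar (x * -(σ * base l))) = _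
      from hprod k (base k) (σ * l) (σ * base l)] at hmain
  have hk'' : k ≠ base l := fun h => by
    rcases (show base l = 0 ∨ base l = 1 by unfold base; split_ifs <;> simp) with e | e <;>
      rw [e] at h <;> contradiction
  have hl'' : base k ≠ l := fun h => by
    rcases (show base k = 0 ∨ base k = 1 by unfold base; split_ifs <;> simp) with e | e <;>
      rw [e] at h <;> exact (by first | exact hl0 h.symm | exact hl1 h.symm)
  rw [if_neg hl'', if_neg hk'', if_neg hbk,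
    if_neg (fun h : k = σ * base l => hk' (by rw [h, c.hσ.smul_smul]))] at hmain
  apply Int.cast_injective (α := ℂ)
  refine mul_left_cancel₀ (pow_ne_zero 2 (Nat.cast_ne_zero.2 (NeZero.ne (2 ^ (a + 2))))) ?_
  rw [hmain]
  have hσ0 : σ * (0 : ZMod (2 ^ (a + 2))) = 0 := mul_zero σ
  have h01 : (0 : ZMod (2 ^ (a + 2))) ≠ 1 := fun h => not_isEv_one (h ▸ isEv_zero)
  have h0σ : (0 : ZMod (2 ^ (a + 2))) ≠ σ := fun h => c.hσ.not_isEv (h ▸ isEv_zero)
  have hsk : σ * k = l ↔ k = σ * l := ⟨fun h => by rw [← h, c.hσ.smul_smul],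
    fun h => by rw [h, c.hσ.smul_smul]⟩
  by_cases e1 : IsEv k <;> by_cases e2 : IsEv l <;>
    simp [base, e1, e2, hsk, h01, h01.symm, h0σ, h0σ.symm, c.hσ.ne_one, c.hσ.ne_one.symm] <;>
    push_cast <;> (try split_ifs) <;> ring

omit c in
theorem parseval (p q : ZMod (2 ^ (a + 2)) → ℤ) (δ : ZMod (2 ^ (a + 2))) :
    ∑ x, (stdAddChar (δ * x) : ℂ) * ((∑ l, (p l : ℂ) * stdAddChar (x * l)) *
      conj (∑ l, (q l : ℂ) * stdAddChar (x * l))) =
      ((2 ^ (a + 2) : ℕ) : ℂ) * ((∑ l, p l * q (l + δ) : ℤ) : ℂ) := by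
  have hc : ∀ x, conj (∑ l, (q l : ℂ) * stdAddChar (x * l)) =
      ∑ l, (q l : ℂ) * stdAddChar (-(x * l)) := fun x => by
    simp only [map_sum, map_mul, map_intCast, AddChar.map_neg_eq_conj]
  simp only [hc]
  simp only [sum_mul_sum]
  simp only [mul_sum]
  rw [sum_comm]
  push_cast
  rw [mul_sum]
  refine sum_congr rfl fun l _ => ?_
  rw [sum_comm, sum_eq_single (l + δ)]
  · rw [sum_congr rfl (g := fun _ => (p l : ℂ) * (q (l + δ) : ℂ)) fun x _ => ?_, sum_const,
      card_univ, ZMod.card, nsmul_eq_mul]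
    · push_cast; ring
    · rw [show (stdAddChar (δ * x) : ℂ) * ((p l : ℂ) * stdAddChar (x * l) *
        ((q (l + δ) : ℂ) * stdAddChar (-(x * (l + δ))))) = (p l : ℂ) * (q (l + δ) : ℂ) *
          ((stdAddChar (δ * x) : ℂ) * (stdAddChar (x * l) * stdAddChar (-(x * (l + δ))))) by ring,
        ← AddChar.map_add_eq_mul, ← AddChar.map_add_eq_mul,
        show δ * x + (x * l + -(x * (l + δ))) = 0 by ring, AddChar.map_zero_eq_one, mul_one]
  · intro l' _ hne
    rw [sum_congr rfl (g := fun x => (p l : ℂ) * (q l' : ℂ) *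
      (stdAddChar (x * (δ + l - l')) : ℂ)) fun x _ => ?_, ← mul_sum]
    · rw [sum_congr rfl (g := fun x => (stdAddChar ((δ + l - l') * x) : ℂ)) fun x _ => by
        rw [mul_comm x], sum_char, if_neg, mul_zero]
      exact fun h => hne ((sub_eq_zero.1 h).symm.trans (add_comm δ l))
    · rw [show (stdAddChar (δ * x) : ℂ) * ((p l : ℂ) * stdAddChar (x * l) *
        ((q l' : ℂ) * stdAddChar (-(x * l')))) = (p l : ℂ) * (q l' : ℂ) *
          ((stdAddChar (δ * x) : ℂ) * (stdAddChar (x * l) * stdAddChar (-(x * l')))) by ring,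
        ← AddChar.map_add_eq_mul, ← AddChar.map_add_eq_mul]
      congr 2
      ring
  · simp

/-- The elements of the cyclic group other than the identity and the involution. -/
abbrev rots (a : ℕ) [NeZero (2 ^ (a + 2))] : Finset (ZMod (2 ^ (a + 2))) :=
  univ.filter fun x => x ≠ 0 ∧ x ≠ hh a

omit c in
theorem sum_rots (F : ZMod (2 ^ (a + 2)) → ℂ) : ∑ x ∈ rots a, F x = ∑ x, F x - F 0 - F (hh a) := by
  rw [sum_filter, sum_congr rfl (g := fun x =>
    F x - (if x = 0 then F x else 0) - (if x = hh a then F x else 0)) fun x _ => ?_]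
  · simp [sum_sub_distrib]
  · by_cases h0 : x = 0
    · subst h0; simp [hh_ne_zero.symm]
    · by_cases h1 : x = hh a
      · subst h1; simp [h0]
      · simp [h0, h1]

variable [Fintype c.hσ.EvRep] [Fintype c.hσ.OdRep]

theorem sum_rot (χ ψ : ι) : ∑ x ∈ rots a, f χ x * conj (f ψ x) =
    ((rotForm ((2 : ℤ) ^ (a + 1)) (fun χ => dC A χ (hh a))
      (fun (k : c.hσ.EvRep) χ => dC A χ (k : ZMod (2 ^ (a + 2))))
      (fun (k : c.hσ.OdRep) χ => dC A χ (k : ZMod (2 ^ (a + 2)))) χ ψ : ℤ) : ℂ) := by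
  classical
  rw [sum_congr rfl (g := fun x => (stdAddChar (0 * x) : ℂ) *
    ((∑ l, (dC A χ l : ℂ) * stdAddChar (x * l)) *
      conj (∑ l, (dC A ψ l : ℂ) * stdAddChar (x * l)))) fun x hx => by
    obtain ⟨-, h0, h1⟩ := mem_filter.1 hx
    rw [c.value_eq χ h0 h1, c.value_eq ψ h0 h1, zero_mul, AddChar.map_zero_eq_one, one_mul],
    sum_rots, parseval (dC A χ) (dC A ψ) 0]
  simp only [zero_mul, add_zero, AddChar.map_zero_eq_one, one_mul, mul_one, mul_zero, char_hh,
    map_sum, map_mul, map_intCast]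
  have e1 := c.hσ.sum_split (R := ℤ) (fun l => dC A χ l * dC A ψ l)
    fun l => by simp only [c.d_smul]
  have e2 : ∀ χ, ∑ l, dC A χ l = dC A χ (hh a) +
      2 * ∑ k : c.hσ.EvRep, dC A χ k + 2 * ∑ k : c.hσ.OdRep, dC A χ k := fun χ => by
    rw [c.hσ.sum_split (fun l => dC A χ l) (c.d_smul χ), d_zero, d_one]; ring
  have e3 : ∀ χ, ∑ l, dC A χ l * (if IsEv l then 1 else -1) = dC A χ (hh a) +
      2 * ∑ k : c.hσ.EvRep, dC A χ k - 2 * ∑ k : c.hσ.OdRep, dC A χ k := fun χ => by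
    rw [c.hσ.sum_split (fun l => dC A χ l * (if IsEv l then 1 else -1)) fun l => by
      simp only [c.d_smul, c.hσ.isEv_smul]]
    simp only [d_zero, d_one, isEv_hh, not_isEv_one, if_true, if_false, zero_mul, mul_one]
    rw [sum_congr rfl (g := fun k : c.hσ.EvRep => dC A χ k) fun k _ => by rw [if_pos k.2.1, mul_one],
      sum_congr rfl (g := fun k : c.hσ.OdRep => -dC A χ k) fun k _ => by
        rw [if_neg k.2.1, mul_neg, mul_one], sum_neg_distrib]
    ring
  have e4 : ∀ χ, ∑ l, (dC A χ l : ℂ) = ((∑ l, dC A χ l : ℤ) : ℂ) := fun χ => by push_cast; rfl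
  have e5 : ∀ χ, ∑ l, (dC A χ l : ℂ) * (if IsEv l then 1 else -1) =
      ((∑ l, dC A χ l * (if IsEv l then 1 else -1) : ℤ) : ℂ) := fun χ => by
    push_cast
    exact sum_congr rfl fun l _ => by split_ifs <;> simp
  have e6 : ∀ χ, ∑ l, (dC A χ l : ℂ) * conj ((if IsEv l then 1 else -1 : ℂ)) =
      ((∑ l, dC A χ l * (if IsEv l then 1 else -1) : ℤ) : ℂ) := fun χ => by
    rw [← e5]
    exact sum_congr rfl fun l _ => by split_ifs <;> simp
  simp only [e4, e5, e6, e1, e2, e3, d_zero, d_one, rotForm]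
  push_cast
  ring

/-- The sum over the odd points. -/
theorem sum_rot_odd (χ : ι) : ∃ K : ℤ, (Odd K ↔ Odd (dC A χ (hh a))) ∧
    ∑ x ∈ (rots a).filter (fun x => ¬ IsEv x), f χ x * conj (f χ x) =
      ((2 ^ (a + 1) * K : ℤ) : ℂ) := by
  classical
  refine ⟨∑ l, (dC A χ l * dC A χ l - dC A χ l * dC A χ (l + hh a)), ?_, ?_⟩
  · rw [sum_sub_distrib, c.hσ.sum_split (fun l => dC A χ l * dC A χ l)
      (fun l => by simp only [c.d_smul]),
      c.hσ.sum_split (fun l => dC A χ l * dC A χ (l + hh a)) fun l => by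
        simp only [c.d_smul]
        rw [show σ * l + hh a = σ * (l + hh a) by rw [mul_add, c.hσ.smul_hh], c.d_smul]]
    simp only [d_zero, d_one, hh_add, mul_zero, zero_mul, zero_add]
    simp [parity_simps, Int.odd_mul]
  · have hodd : ∀ x : ZMod (2 ^ (a + 2)), ¬ IsEv x → x ≠ 0 ∧ x ≠ hh a := fun x hx =>
      ⟨fun h => hx (h ▸ isEv_zero), fun h => hx (h ▸ isEv_hh)⟩
    rw [filter_filter, sum_congr (filter_congr fun x _ =>
      (and_iff_right_of_imp (hodd x)) : _ = univ.filter fun x => ¬ IsEv x) fun _ _ => rfl,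
      sum_filter,
      sum_congr rfl (g := fun x => ((stdAddChar (0 * x) : ℂ) *
        ((∑ l, (dC A χ l : ℂ) * stdAddChar (x * l)) *
          conj (∑ l, (dC A χ l : ℂ) * stdAddChar (x * l))) - (stdAddChar (hh a * x) : ℂ) *
        ((∑ l, (dC A χ l : ℂ) * stdAddChar (x * l)) *
          conj (∑ l, (dC A χ l : ℂ) * stdAddChar (x * l)))) / 2) fun x _ => ?_,
      ← sum_div, sum_sub_distrib, parseval, parseval]
    · simp only [add_zero]
      push_cast
      rw [sum_sub_distrib]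
      ring
    · rw [char_hh, zero_mul, AddChar.map_zero_eq_one]
      split_ifs with h
      · ring
      · rw [c.value_eq χ (hodd x h).1 (hodd x h).2]; ring

/-- The value at the element of order four. -/
theorem value_four (χ : ι) : ∃ k : ℤ, f χ ((2 ^ a : ℕ) : ZMod (2 ^ (a + 2))) = (k : ℂ) ∧
    (Odd k ↔ Odd (dC A χ (hh a))) := by
  classical
  set q : ZMod (2 ^ (a + 2)) := ((2 ^ a : ℕ) : ZMod (2 ^ (a + 2))) with hq
  have hqq : q + q = hh a := by rw [hq, hh, ← Nat.cast_add]; congr 1; ring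
  have hq0 : q ≠ 0 := fun h => hh_ne_zero (by rw [← hqq, h, add_zero])
  have hqh : q ≠ hh a := fun h => hq0 (by
    conv_lhs => rw [← add_sub_cancel_right q q, hqq, ← h, sub_self])
  let φ : ZMod (2 ^ (a + 2)) → ℂ := fun l =>
    (dC A χ l : ℂ) * ((stdAddChar (q * l) : ℂ) + stdAddChar (q * (σ * l))) / 2
  have hsum : ∑ l, φ l = f χ q := by
    rw [c.value_eq χ hq0 hqh, ← sum_div, sum_congr rfl (g := fun l =>
      (dC A χ l : ℂ) * stdAddChar (q * l) + (dC A χ l : ℂ) * stdAddChar (q * (σ * l))) fun l _ => by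
        ring, sum_add_distrib]
    have h2 : ∑ l, (dC A χ l : ℂ) * stdAddChar (q * (σ * l)) =
        ∑ l, (dC A χ l : ℂ) * stdAddChar (q * l) :=
      Fintype.sum_equiv ⟨(σ * ·), (σ * ·), c.hσ.smul_smul, c.hσ.smul_smul⟩ _ _ fun l => by
        show _ = (dC A χ (σ * l) : ℂ) * stdAddChar (q * (σ * l))
        rw [c.d_smul]
    rw [h2]
    ring
  have hneg : ∀ l, q * (σ * l) = -(q * l) := fun l => by
    rw [← mul_assoc, mul_comm q σ, c.hσ.four, neg_mul]
  have hsq : ∀ l, (stdAddChar (q * l) : ℂ) * stdAddChar (q * l) = if IsEv l then 1 else -1 :=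
    fun l => by rw [← AddChar.map_add_eq_mul, ← add_mul, hqq, char_hh]
  have hinv : ∀ l, (stdAddChar (q * l) : ℂ) * stdAddChar (-(q * l)) = 1 := fun l => by
    rw [← AddChar.map_add_eq_mul, add_neg_cancel, AddChar.map_zero_eq_one]
  have hev : ∀ l, IsEv l → ∃ ε : ℤ, Odd ε ∧ φ l = (ε : ℂ) * dC A χ l := by
    intro l hl
    have h1 := hsq l
    rw [if_pos hl] at h1
    simp only [φ, hneg]
    have h3 := hinv l
    rcases mul_self_eq_one_iff.1 h1 with h2 | h2
    · rw [h2, one_mul] at h3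
      exact ⟨1, odd_one, by rw [h2, h3]; push_cast; ring⟩
    · rw [h2, neg_one_mul, neg_eq_iff_eq_neg] at h3
      exact ⟨-1, by decide, by rw [h2, h3]; push_cast; ring⟩
  have hod : ∀ l, ¬ IsEv l → φ l = 0 := by
    intro l hl
    have h1 := hsq l
    rw [if_neg hl] at h1
    simp only [φ, hneg]
    have h3 := hinv l
    have h4 : (stdAddChar (q * l) : ℂ) + stdAddChar (-(q * l)) = 0 := by
      linear_combination (stdAddChar (-(q * l)) : ℂ) * h1 - (stdAddChar (q * l) : ℂ) * h3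
    rw [h4]; simp
  obtain ⟨εh, hεh, hφh⟩ := hev _ isEv_hh
  choose ε hε hφε using fun k : c.hσ.EvRep => hev _ k.2.1
  refine ⟨εh * dC A χ (hh a) + 2 * ∑ k, ε k * dC A χ k, ?_, ?_⟩
  · rw [← hsum, c.hσ.sum_split φ fun l => by
      simp only [φ, c.d_smul, c.hσ.smul_smul]; ring, hφh,
      hod 1 not_isEv_one, sum_eq_zero fun (k : c.hσ.OdRep) _ => hod _ k.2.1,
      sum_congr rfl fun k (_ : k ∈ (univ : Finset c.hσ.EvRep)) => hφε k]
    simp only [φ, d_zero]
    push_cast
    ring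
  · simp [parity_simps, Int.odd_mul, hεh]

end Cols

end Cfsg.Agent.Blocks.Tame2
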