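import Cfsg.Agent.Blocks.Tame2.Rot
import Cfsg.Agent.Blocks.Tame2.Fourier
import Cfsg.Agent.Blocks.Tame2.Classes

/-!
# The rotation columns as functions on the cyclic group of exponents
-/

set_option autoImplicit false

namespace Cfsg.Agent.Blocks.Tame2

open Cfsg.Agent Cfsg.Agent.Blocks Cfsg.Agent.Blocks.Star Cfsg.Agent.BrauerPairs
open Cfsg.Agent.Blocks.Dihedral (subFintype exists_fourier)
open scoped ComplexConjugate
open ZMod (stdAddChar)

universe u

attribute [local instance] Fintype.ofFinite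
attribute [local instance 2000] subFintype

variable {G : Type u} [Group G] [Finite G] {M : Ideal Cfsg.AlgInt}
  {B : Set (Cfsg.IrrCharacter G)} {D : Subgroup G}
  {e₀ : Set (Cfsg.IrrCharacter (Subgroup.centralizer (D : Set G)))} {a : ℕ} {s : ℤ} {u t : G}
  {hM : Cfsg.IsPModular 2 M} {hmax : Cfsg.IsMaximalBrauerPair 2 M B D e₀}
  {sh : Shape D a s u t}

/-- The rotation with the given exponent as an element of the local subgroup. -/
abbrev powL (sh : Shape D a s u t) (x : ZMod (2 ^ (a + 2))) : LL a u :=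
  ⟨u ^ x.val, le_LL sh (D.pow_mem sh.hu _)⟩

/-- The rotation with the given exponent as an element of the defect group. -/
abbrev powD (sh : Shape D a s u t) (x : ZMod (2 ^ (a + 2))) : D :=
  ⟨u ^ x.val, D.pow_mem sh.hu _⟩

namespace Shape

omit [Finite G]

variable (h : Shape D a s u t)
include h

theorem pow_val (x y : ZMod (2 ^ (a + 2))) : u ^ (x + y).val = u ^ x.val * u ^ y.val := by
  haveI : NeZero (2 ^ (a + 2)) := ⟨by positivity⟩
  rw [← pow_add, pow_eq_pow_iff_modEq, h.hord, ZMod.val_add]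
  exact Nat.mod_modEq _ _

theorem pow_inj {x y : ZMod (2 ^ (a + 2))} (e : u ^ x.val = u ^ y.val) : x = y := by
  haveI : NeZero (2 ^ (a + 2)) := ⟨by positivity⟩
  rw [pow_eq_pow_iff_modEq, h.hord, ← ZMod.natCast_eq_natCast_iff, ZMod.natCast_zmod_val,
    ZMod.natCast_zmod_val] at e
  exact e

theorem pow_cast (i : ℤ) : u ^ ((i : ℤ) : ZMod (2 ^ (a + 2))).val = u ^ i := by
  haveI : NeZero (2 ^ (a + 2)) := ⟨by positivity⟩
  rw [← zpow_natCast, zpow_eq_zpow_iff_modEq, h.hord, ZMod.val_intCast]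
  exact Int.mod_modEq _ _

theorem pow_natCast (n : ℕ) : u ^ ((n : ℕ) : ZMod (2 ^ (a + 2))).val = u ^ n := by
  have := h.pow_cast n
  rwa [zpow_natCast, Int.cast_natCast] at this

theorem pow_hh : u ^ (Mul2.hh a).val = u ^ 2 ^ (a + 1) := h.pow_natCast _

theorem pow_smul (x : ZMod (2 ^ (a + 2))) :
    u ^ (((s : ℤ) : ZMod (2 ^ (a + 2))) * x).val = t * u ^ x.val * t⁻¹ := by
  haveI : NeZero (2 ^ (a + 2)) := ⟨by positivity⟩
  have e : ((s : ℤ) : ZMod (2 ^ (a + 2))) * x = ((s * (x.val : ℤ) : ℤ) : ZMod (2 ^ (a + 2))) := by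
    rw [Int.cast_mul, Int.cast_natCast, ZMod.natCast_zmod_val]
  rw [e, h.pow_cast, ← h.conj_t, zpow_natCast]

theorem mul2 : Mul2 a ((s : ℤ) : ZMod (2 ^ (a + 2))) := by
  haveI : NeZero (2 ^ (a + 2)) := ⟨by positivity⟩
  refine ⟨?_, ?_, fun x hx => ?_⟩
  · rw [← Int.cast_mul, ← sub_eq_zero, ← Int.cast_one, ← Int.cast_sub,
      ZMod.intCast_zmod_eq_zero_iff_dvd]
    exact_mod_cast h.s_sq
  · rw [← sub_eq_zero, sub_neg_eq_add, ← Int.cast_natCast, ← Int.cast_mul, ← Int.cast_add,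
      ZMod.intCast_zmod_eq_zero_iff_dvd]
    obtain ⟨c, hc⟩ := h.four_dvd
    refine ⟨c, ?_⟩
    push_cast
    linear_combination (2 : ℤ) ^ a * hc
  · rw [← sub_eq_zero, show ((s : ℤ) : ZMod (2 ^ (a + 2))) * x - x =
      (((s - 1) * (x.val : ℤ) : ℤ) : ZMod (2 ^ (a + 2))) by
        rw [Int.cast_mul, Int.cast_sub, Int.cast_one, Int.cast_natCast, ZMod.natCast_zmod_val]
        ring, ZMod.intCast_zmod_eq_zero_iff_dvd] at hx
    obtain ⟨c, hc⟩ := h.four_dvd
    obtain ⟨k, hk⟩ := hx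
    push_cast at hk
    have hd : (2 : ℤ) ^ (a + 1) ∣ (2 * c - 1) * (x.val : ℤ) := ⟨k, by
      have e : (2 : ℤ) ^ (a + 2) = 2 * 2 ^ (a + 1) := pow_succ' _ _
      rw [e, show s - 1 = 2 * (2 * c - 1) by linarith] at hk
      linarith⟩
    have hco : IsCoprime ((2 : ℤ) ^ (a + 1)) (2 * c - 1) :=
      IsCoprime.pow_left (show IsCoprime (2 : ℤ) (2 * c - 1) from ⟨c, -1, by ring⟩)
    obtain ⟨m, hm⟩ := hco.dvd_of_dvd_mul_left hd
    have hlt : (x.val : ℤ) < 2 * 2 ^ (a + 1) := by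
      rw [← pow_succ']; exact_mod_cast x.val_lt
    have hP : (0 : ℤ) < 2 ^ (a + 1) := by positivity
    rcases (show m = 0 ∨ m = 1 by
      have h0 : (0 : ℤ) ≤ 2 ^ (a + 1) * m := hm ▸ Int.natCast_nonneg _
      have := nonneg_of_mul_nonneg_right h0 hP
      have : m < 2 := by nlinarith
      omega) with rfl | rfl
    · left
      rw [mul_zero] at hm
      rw [← ZMod.natCast_zmod_val x, show x.val = 0 by exact_mod_cast hm, Nat.cast_zero]
    · right
      rw [mul_one] at hm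
      rw [← ZMod.natCast_zmod_val x, show x.val = 2 ^ (a + 1) by exact_mod_cast hm]
      rfl

theorem isRot_pow {x : ZMod (2 ^ (a + 2))} :
    IsRot a u (u ^ x.val) ↔ x ≠ 0 ∧ x ≠ Mul2.hh a := by
  refine ⟨fun hx => ⟨fun e => hx.2.1 (by rw [e, ZMod.val_zero, pow_zero]),
    fun e => hx.2.2 (by rw [e, h.pow_hh])⟩, fun hx => ⟨Subgroup.npow_mem_zpowers u _, fun e => ?_,
    fun e => ?_⟩⟩
  · exact hx.1 (h.pow_inj (by rw [e, ZMod.val_zero, pow_zero]))
  · exact hx.2 (h.pow_inj (by rw [e, h.pow_hh]))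

theorem exists_pow {x : G} (hx : x ∈ Subgroup.zpowers u) :
    ∃ k : ZMod (2 ^ (a + 2)), u ^ k.val = x := by
  obtain ⟨i, hi⟩ := hx
  exact ⟨(i : ZMod (2 ^ (a + 2))), (h.pow_cast i).trans hi⟩

end Shape

namespace Nil

variable (Z : Nil hM hmax sh)
include Z

/-- The rotation columns. -/
noncomputable def col (χ : B) (x : ZMod (2 ^ (a + 2))) : ℂ :=
  Z.phi (χ : Cfsg.IrrCharacter G) (powL sh x)

open scoped Classical in
/-- The rotation columns have integer coefficients with the expected inner products. -/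
theorem exists_cols [NeZero (2 ^ (a + 2))] : ∃ A : B → ZMod (2 ^ (a + 2)) → ℕ,
    Cols a ((s : ℤ) : ZMod (2 ^ (a + 2))) A Z.col := by
  have hA' : ∀ χ : B, ∃ A : ZMod (2 ^ (a + 2)) → ℕ,
      ∀ x, Z.col χ x = ∑ l, (A l : ℂ) * stdAddChar (x * l) := by
    intro χ
    obtain ⟨n, hn⟩ := Z.phi_eq (χ : Cfsg.IrrCharacter G)
    have hchar := Char.isCharacter_sum Finset.univ
      (fun η : Cfsg.IrrCharacter (D.subgroupOf (LL a u)) =>
        fun q : D.subgroupOf (LL a u) => (n η : ℂ) * (η : D.subgroupOf (LL a u) → ℂ) q)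
      fun η _ => Char.isCharacter_natCast_smul (n η) (Char.IsIrr.isCharacter η.2)
    set g : D.subgroupOf (LL a u) := ⟨⟨u, le_LL sh sh.hu⟩, Subgroup.mem_subgroupOf.2 sh.hu⟩
    have hg : g ^ 2 ^ (a + 2) = 1 := Subtype.ext (Subtype.ext (by
      show u ^ 2 ^ (a + 2) = 1
      rw [← sh.hord, pow_orderOf_eq_one]))
    obtain ⟨A, hA⟩ := exists_fourier hchar hg
    refine ⟨A, fun x => ?_⟩
    rw [← hA x, Finset.sum_apply]
    show Z.phi χ (powL sh x) = _
    rw [← hn, show ((g ^ x.val : D.subgroupOf (LL a u)) : LL a u) = powL sh x from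
      Subtype.ext rfl]
  choose A hA using hA'
  refine ⟨A, sh.mul2, hA, fun χ x => ?_, fun x y hx0 hx1 hy0 hy1 => ?_⟩
  · obtain ⟨n, hn⟩ := Z.phi_eq (χ : Cfsg.IrrCharacter G)
    show Z.phi χ (powL sh _) = Z.phi χ (powL sh x)
    refine (hn ⟨powL sh _, Subgroup.mem_subgroupOf.2 (D.pow_mem sh.hu _)⟩).trans
      (Eq.trans (Finset.sum_congr rfl fun η _ => congrArg _ ?_)
        (hn ⟨powL sh x, Subgroup.mem_subgroupOf.2 (D.pow_mem sh.hu _)⟩).symm)
    set tt : D.subgroupOf (LL a u) := ⟨⟨t, le_LL sh sh.ht⟩, Subgroup.mem_subgroupOf.2 sh.ht⟩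
    rw [show (⟨powL sh (((s : ℤ) : ZMod (2 ^ (a + 2))) * x), _⟩ : D.subgroupOf (LL a u)) =
      tt * ⟨powL sh x, Subgroup.mem_subgroupOf.2 (D.pow_mem sh.hu _)⟩ * tt⁻¹ from
        Subtype.ext (Subtype.ext (sh.pow_smul x))]
    exact Char.isClassFunction_of_isIrr η.2 _ _
  · have hx := sh.isRot_pow.2 ⟨hx0, hx1⟩
    have hy := sh.isRot_pow.2 ⟨hy0, hy1⟩
    have h := Z.sum_phi hx hy
    rw [Finset.sum_subtype B.toFinite.toFinset (fun χ => B.toFinite.mem_toFinset)] at h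
    refine h.trans ?_
    rw [← sh.pow_smul]
    push_cast
    exact if_congr ⟨fun e => e.imp sh.pow_inj sh.pow_inj,
      fun e => e.imp (fun e => by rw [e]) fun e => by rw [e]⟩ rfl rfl

/-- The contribution of a rotation in terms of its column. -/
theorem cVal_pow (χ ψ : B) {x : ZMod (2 ^ (a + 2))} (h0 : x ≠ 0) (h1 : x ≠ Mul2.hh a) :
    (2 : ℂ) ^ (a + 2) * cVal 2 M D e₀ (u ^ x.val) χ ψ = Z.col χ x * conj (Z.col ψ x) := by
  rw [Z.cVal_rot (sh.isRot_pow.2 ⟨h0, h1⟩)]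
  field_simp
  rfl

end Nil

end Cfsg.Agent.Blocks.Tame2
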