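import Cfsg.Agent.Blocks.Tame2.Columns
import Cfsg.Agent.BlockChar.KleinFour
import Cfsg.Agent.Blocks.Star.MajorPair

/-!
# The height and the value at the rotation of order four

A character has height zero exactly when its rotation column is odd at the element of order four.
-/

set_option autoImplicit false

namespace Cfsg.Agent.Blocks.Tame2

open Cfsg.Agent Cfsg.Agent.Blocks Cfsg.Agent.Blocks.Star Cfsg.Agent.BrauerPairs
open Cfsg.Agent.Blocks.Dihedral (subFintype)
open scoped ComplexConjugate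
open ZMod (stdAddChar)

universe u

attribute [local instance] Fintype.ofFinite
attribute [local instance 2000] subFintype

variable {G : Type u} [Group G] [Finite G] {M : Ideal Cfsg.AlgInt}
  {B : Set (Cfsg.IrrCharacter G)} {D : Subgroup G}
  {e₀ : Set (Cfsg.IrrCharacter (Subgroup.centralizer (D : Set G)))} {a : ℕ} {s : ℤ} {u t : G}
  {hM : Cfsg.IsPModular 2 M} {hmax : Cfsg.IsMaximalBrauerPair 2 M B D e₀}
  {sh : Shape D a s u t}

local notation "CG[" Q "]" => Subgroup.centralizer ((Q : Subgroup G) : Set G)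
local notation "sbc" => Cfsg.subgroupBlockCoeff

open scoped Classical in
/-- A character has height zero exactly when the coefficient of the involution is odd. -/
theorem Nil.height_odd [NeZero (2 ^ (a + 2))] (Z : Nil hM hmax sh)
    {A : B → ZMod (2 ^ (a + 2)) → ℕ}
    (c : Cols a ((s : ℤ) : ZMod (2 ^ (a + 2))) A Z.col) (χ : B) :
    Cfsg.blockHeight 2 B ((χ : Cfsg.IrrCharacter G) : G → ℂ) = 0 ↔
      Odd (dC A χ (Mul2.hh a)) := by
  haveI := Fact.mk hM.1
  set x := u ^ 2 ^ a with hxdef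
  have hx : x ∈ D := sh.v_mem
  obtain ⟨b, hb, -⟩ := existsUnique_subpairLE hM hmax.1.1 (Subgroup.zpowers_le.2 hx)
  have hu : ∃ k, orderOf x = 2 ^ k := sh.exists_orderOf hx
  obtain ⟨g, hg, -⟩ := exists_normalSubpair_between hM hmax.1.1 hb
    (Subgroup.zpowers_le.2 (Subgroup.npow_mem_zpowers u _)) sh.zpowers_le
    fun q hq => sh.zpowers_normal (sh.zpowers_le hq) (Subgroup.npow_mem_zpowers u _)
  have hd : a + 2 ≤ Cfsg.blockDefect 2 b := by
    have h := BlockChar.card_le_pow_defect_of_normalSubpair hM hg fun q hq =>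
      mem_zpowers_centralizer.2 (by
        obtain ⟨i, rfl⟩ := hq
        exact ((Commute.refl u).zpow_right i).pow_left _)
    rw [Nat.card_zpowers, sh.hord] at h
    exact (Nat.pow_le_pow_iff_right (le_refl 2)).1 h
  obtain ⟨e, he⟩ : ∃ e, Cfsg.blockDefect 2 b = a + 2 + e := ⟨_, (Nat.add_sub_cancel' hd).symm⟩
  have hH := mem_zpowers_centralizer' (G := G) x
  have hpair := (isBrauerPairOf_iff_of_subpairLE hM hb B).1 hmax.1
  have hind := (mem_inducing_iff_pair hM (isPGroup_zpowers_of_orderOf hu) hmax.1.2.1 hpair.1.2).2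
    hpair
  have hbel : bel 2 M D e₀ x = sbc CG[Subgroup.zpowers x] b := bel_eq hM hmax ⟨b, hb, rfl⟩
  set q : ZMod (2 ^ (a + 2)) := ((2 ^ a : ℕ) : ZMod (2 ^ (a + 2))) with hqdef
  have hxq : u ^ q.val = x := sh.pow_natCast _
  obtain ⟨hq0, hq1⟩ := sh.isRot_pow.1 (by rw [hxq]; exact isRot_v sh : IsRot a u (u ^ q.val))
  have hval : ∀ ψ : B, ∃ k : ℤ, (Odd k ↔ Odd (dC A ψ (Mul2.hh a))) ∧
      contrib 2 x b ψ ψ = ((2 ^ e * (k * k) : ℤ) : ℂ) := by
    intro ψ
    obtain ⟨k, hk, hodd⟩ := c.value_four ψ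
    refine ⟨k, hodd, ?_⟩
    have h := Z.cVal_pow ψ ψ hq0 hq1
    rw [hxq, hk, map_intCast] at h
    rw [← sum_sect_eq_contrib, ← hbel, he]
    rw [cVal] at h
    rw [Int.cast_mul, Int.cast_pow, Int.cast_mul, Int.cast_ofNat, Nat.cast_pow, Nat.cast_ofNat,
      pow_add]
    linear_combination ((2 : ℂ) ^ e) * h
  obtain ⟨ψ₀, hψ₀, h00⟩ := BlockThms.exists_height_zero hM hmax.1.2.1
  have key : ∀ ψ : B, Cfsg.blockHeight 2 B ((ψ : Cfsg.IrrCharacter G) : G → ℂ) = 0 ↔
      e = 0 ∧ Odd (dC A ψ (Mul2.hh a)) := by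
    intro ψ
    obtain ⟨k, hk, hcon⟩ := hval ψ
    have h := contrib_memLocalIdeal_iff hH hM hu hind ψ.2 ψ.2
    rw [hcon, memLocalIdeal_intCast_iff hM, or_self, ← not_iff_not, not_not] at h
    rw [← h, show ((2 : ℕ) : ℤ) = 2 from rfl, ← even_iff_two_dvd, Int.not_even_iff_odd,
      Int.odd_mul, Int.odd_mul, and_self, hk]
    refine and_congr_left fun _ => ?_
    rcases Nat.eq_zero_or_pos e with h0 | h0
    · simp [h0]
    · simp [h0.ne', parity_simps]
  have he0 := ((key ⟨ψ₀, hψ₀⟩).1 h00).1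
  exact (key χ).trans (and_iff_right he0)

end Cfsg.Agent.Blocks.Tame2
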