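import Cfsg.Agent.Blocks.Tame2.Orbit
import Cfsg.Agent.Blocks.Tame2.Arith
import Cfsg.Agent.Blocks.Dihedral.Columns
import Cfsg.Agent.Blocks.Star.MajorPair
import Cfsg.Agent.BlockChar.Cyclic.Tee

/-!
# The integer matrices of the central subsections

The contributions at the identity and at a central involution of the defect group form integer
matrices that are idempotent up to the order of the defect group.
-/

set_option autoImplicit false

namespace Cfsg.Agent.Blocks.Tame2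

open Cfsg.Agent Cfsg.Agent.Blocks Cfsg.Agent.Blocks.Star Cfsg.Agent.BrauerPairs
open Cfsg.Agent.Blocks.Dihedral (subFintype)
open scoped ComplexConjugate

universe u

attribute [local instance] Fintype.ofFinite
attribute [local instance 2000] subFintype

variable {G : Type u} [Group G] [Finite G] {M : Ideal Cfsg.AlgInt}
  {B : Set (Cfsg.IrrCharacter G)} {D : Subgroup G}
  {e₀ : Set (Cfsg.IrrCharacter (Subgroup.centralizer (D : Set G)))}

local notation "CG[" Q "]" => Subgroup.centralizer ((Q : Subgroup G) : Set G)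
local notation "sbc" => Cfsg.subgroupBlockCoeff

/-- The heights in the block. -/
noncomputable abbrev hgt (B : Set (Cfsg.IrrCharacter G)) (χ : B) : ℕ :=
  Cfsg.blockHeight 2 B ((χ : Cfsg.IrrCharacter G) : G → ℂ)

open scoped Classical in
/-- The matrix of the subsection at a central element of order at most two. -/
theorem exists_section (hM : Cfsg.IsPModular 2 M) (hmax : Cfsg.IsMaximalBrauerPair 2 M B D e₀)
    {N : ℤ} (hN : 4 * N = 2 ^ Cfsg.blockDefect 2 B)
    {x : G} (hx : x ∈ D) (hx2 : x * x = 1) (hc : ∀ q ∈ D, x * q = q * x) :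
    ∃ (S : B → B → ℤ) (b : Set (Cfsg.IrrCharacter CG[Subgroup.zpowers x])),
      Cfsg.SubpairLE 2 M (Subgroup.zpowers x) b D e₀ ∧ IsSection N (hgt B) S ∧
      (∀ χ ψ : B, ((S χ ψ : ℤ) : ℂ) = ((4 * N : ℤ) : ℂ) * cVal 2 M D e₀ x χ ψ) ∧
      ∑ χ, S χ χ = 4 * N * (Cfsg.blockRank 2 b : ℤ) := by
  haveI := Fact.mk hM.1
  obtain ⟨b, hb, -⟩ := existsUnique_subpairLE hM hmax.1.1 (Subgroup.zpowers_le.2 hx)
  have hu : ∃ k, orderOf x = 2 ^ k := by
    obtain ⟨k, hk⟩ := IsPGroup.iff_orderOf.1 hmax.1.1.1 ⟨x, hx⟩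
    exact ⟨k, by rwa [← Subgroup.orderOf_mk x hx]⟩
  have hDC : D ≤ CG[Subgroup.zpowers x] := fun q hq => mem_zpowers_centralizer.2 (hc q hq)
  have hCD : CG[D] ≤ CG[Subgroup.zpowers x] := centralizer_mono (Subgroup.zpowers_le.2 hx)
  have hN' : D ≤ Subgroup.normalizer (Subgroup.zpowers x : Set G) := fun q hq => by
    have hfix : ∀ y ∈ Subgroup.zpowers x, q * y * q⁻¹ = y := fun y hy => by
      rw [← Subgroup.mem_centralizer_iff.1 (hDC hq) y hy, mul_inv_cancel_right]
    refine Subgroup.mem_normalizer_iff.2 fun y => ⟨fun hy => by rwa [hfix y hy], fun hy => ?_⟩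
    have h := hfix _ hy
    have e : q * y * q⁻¹ = y := mul_left_cancel (mul_right_cancel h)
    rwa [e] at hy
  obtain ⟨g, hg, hgle⟩ := exists_normalSubpair_between hM hmax.1.1 hb
    (Subgroup.zpowers_le.2 hx) le_rfl hN'
  rw [(existsUnique_subpairLE hM hmax.1.1 (le_refl D)).unique hgle
    Relation.ReflTransGen.refl] at hg
  have hmaxC := BlockChar.Cyclic.maximal_local hM hmax hg hDC hCD
  have hd : Cfsg.blockDefect 2 b = Cfsg.blockDefect 2 B := by
    have h1 := BlockChar.card_defectGroup hM hmaxC.1.2.1 (isDefectGroup_of_maximal hM hmaxC)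
    have h2 := BlockChar.card_defectGroup hM hmax.1.2.1 (isDefectGroup_of_maximal hM hmax)
    rw [Nat.card_congr (Subgroup.subgroupOfEquivOfLe hDC).toEquiv, h2] at h1
    exact (Nat.pow_right_injective le_rfl h1).symm
  have hH := mem_zpowers_centralizer' (G := G) x
  have hpair := (isBrauerPairOf_iff_of_subpairLE hM hb B).1 hmax.1
  have hind := (mem_inducing_iff_pair hM (isPGroup_zpowers_of_orderOf hu) hmax.1.2.1 hpair.1.2).2
    hpair
  have hbel : bel 2 M D e₀ x = sbc CG[Subgroup.zpowers x] b :=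
    bel_eq hM hmax ⟨b, hb, rfl⟩
  have hcon : ∀ χ ψ : Cfsg.IrrCharacter G, contrib 2 x b χ ψ =
      ((4 * N : ℤ) : ℂ) * cVal 2 M D e₀ x χ ψ := fun χ ψ => by
    rw [← sum_sect_eq_contrib, cVal, hbel, hd, hN]
    push_cast
    ring
  have hint : ∀ χ ψ : Cfsg.IrrCharacter G, ∃ k : ℤ, contrib 2 x b χ ψ = (k : ℂ) := by
    intro χ ψ
    have hs : ∀ η : Cfsg.IrrCharacter CG[Subgroup.zpowers x],
        ∃ k : ℤ, shiftScalar hH η = (k : ℂ) := fun η => by
      have h1 := shiftScalar_pow hH η (q := 2) (by rw [pow_two, hx2])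
      rw [pow_two] at h1
      rcases mul_self_eq_one_iff.1 h1 with h | h
      · exact ⟨1, by rw [h]; simp⟩
      · exact ⟨-1, by rw [h]; simp⟩
    have key : ∀ η ∈ (Set.toFinite b).toFinset, ∀ η' ∈ (Set.toFinite b).toFinset,
        shiftCoef x CG[Subgroup.zpowers x] χ η * conj (shiftCoef x CG[Subgroup.zpowers x] ψ η') *
          BlockChar.regM 2 b η η' ∈ (Int.castRingHom ℂ).range := by
      intro η hη η' _
      obtain ⟨k, hk⟩ := hs η
      obtain ⟨k', hk'⟩ := hs η'
      obtain ⟨m, hm⟩ := BlockChar.exists_int_regM hM ((Set.Finite.mem_toFinset _).1 hη) η'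
      refine ⟨k * resMult χ η * (k' * resMult ψ η') * m, ?_⟩
      rw [shiftCoef_eq hH, shiftCoef_eq hH, hk, hk', hm]
      simp only [map_mul, map_intCast, map_natCast]
      push_cast [eq_intCast]
      ring
    obtain ⟨k, hk⟩ : contrib 2 x b χ ψ ∈ (Int.castRingHom ℂ).range :=
      Subring.sum_mem _ fun η hη => Subring.sum_mem _ fun η' hη' => key η hη η' hη'
    exact ⟨k, hk.symm⟩
  choose S hS using hint
  have hsub : ∀ F : Cfsg.IrrCharacter G → ℂ, ∑ᶠ φ ∈ B, F φ = ∑ φ : B, F φ := fun F => by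
    rw [finsum_mem_eq_finite_toFinset_sum _ B.toFinite]
    exact Finset.sum_subtype B.toFinite.toFinset (fun χ => B.toFinite.mem_toFinset) F
  refine ⟨fun χ ψ => S χ ψ, b, hb, ⟨fun χ ψ => ?_, fun χ ψ => ?_, fun χ ψ => ?_⟩,
    fun χ ψ => ?_, ?_⟩
  · apply Int.cast_injective (α := ℂ)
    rw [← hS, ← hS, hcon, hcon, ← Complex.conj_conj (cVal 2 M D e₀ x χ ψ), cVal_conj]
    have h := (hcon ψ χ).symm.trans (hS ψ χ)
    have h' := congrArg (starRingEnd ℂ) h
    rw [map_mul, map_intCast, map_intCast] at h'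
    rw [h', h]
  · apply Int.cast_injective (α := ℂ)
    push_cast
    simp only [← hS]
    rw [← hsub fun φ => contrib 2 x b χ φ * contrib 2 x b φ ψ, sum_contrib_mul hH hM hu hind, hd]
    push_cast
    rw [show ((4 : ℂ) * (N : ℂ)) = ((4 * N : ℤ) : ℂ) by push_cast; rfl, hN]
    push_cast
    rfl
  · obtain ⟨a, ha, he, hiff⟩ := major_pair hM hu hH hind hd χ.2 ψ.2
    rw [hS] at he
    have hpne : ((2 ^ hgt B χ : ℕ) : ℂ) ≠ 0 := Nat.cast_ne_zero.2 (pow_ne_zero _ two_ne_zero)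
    obtain ⟨k, hk⟩ := Blocks.exists_int_of_isIntegral_rat ha
      ((S χ ψ : ℚ) / ((2 ^ hgt B χ : ℕ) : ℚ)) (by
        push_cast at he hpne ⊢
        rw [eq_div_iff hpne, he, mul_comm])
    subst hk
    refine ⟨k, by exact_mod_cast he, ?_⟩
    rw [even_iff_two_dvd]
    exact ((memLocalIdeal_intCast_iff hM k).symm.trans hiff)
  · exact (hS χ ψ).symm.trans (hcon χ ψ)
  · apply Int.cast_injective (α := ℂ)
    push_cast
    simp only [← hS]
    rw [← hsub fun φ => contrib 2 x b φ φ, sum_contrib_self hH hM hu hind, hd]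
    rw [show ((4 : ℂ) * (N : ℂ)) = ((4 * N : ℤ) : ℂ) by push_cast; rfl, hN]
    push_cast
    rfl

omit M in
theorem conjF_bel_one {M : Ideal Cfsg.AlgInt} (hM : Cfsg.IsPModular 2 M)
    (hmax : Cfsg.IsMaximalBrauerPair 2 M B D e₀) (g : G) :
    conjF g (bel 2 M D e₀ (1 : G)) = bel 2 M D e₀ 1 := funext fun z => by
  have := isInv_Bk (bel_mem_Bk hM hmax D.one_mem) g⁻¹
    (mem_zpowers_centralizer.2 (by simp)) z
  simpa [conjF] using this

/-- At the identity the section is the character itself. -/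
theorem sect_bel_one (hM : Cfsg.IsPModular 2 M) (hmax : Cfsg.IsMaximalBrauerPair 2 M B D e₀)
    (χ : B) {y : G} (hy : ¬ 2 ∣ orderOf y) :
    sect ((χ : Cfsg.IrrCharacter G) : G → ℂ) 1 (bel 2 M D e₀ 1) y =
      ((χ : Cfsg.IrrCharacter G) : G → ℂ) y := by
  classical
  have hp := hM.1
  obtain ⟨hy1, hy2⟩ := parts_mul hp (Commute.one_left y) ⟨0, by simp⟩ hy
  rw [one_mul] at hy1 hy2
  have h := Phi_eq_self hM (χ : Cfsg.IrrCharacter G) y (W := fun _ _ => (1 : ℂ)) fun _ _ _ => rfl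
  rw [Phi, hy1, hy2] at h
  simp only [one_mul] at h
  rw [← h]
  symm
  refine Finset.sum_eq_single (bel 2 M D e₀ 1) (fun e he hne => ?_) fun hn => absurd
    (bel_mem_Bk hM hmax D.one_mem) hn
  by_contra hs
  obtain ⟨b, hb, rfl⟩ := mem_Bk.1 he
  obtain ⟨g, hg⟩ := (exists_below_iff hM hmax b).2
    (pair_of_sect_ne_zero hM hmax.1.2.1 χ.2 ⟨0, by simp⟩ hb (Finset.mem_filter.2 ⟨Finset.mem_univ _, hy, by simp⟩) hs)
  rw [show g * 1 * g⁻¹ = (1 : G) by group] at hg
  refine hne ?_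
  have h1 := bel_eq hM hmax hg
  calc sbc CG[Subgroup.zpowers (1 : G)] b =
      conjF g⁻¹ (conjF g (sbc CG[Subgroup.zpowers (1 : G)] b)) := by
        rw [conjF_conjF, inv_mul_cancel, conjF_one]
    _ = _ := by rw [← h1, conjF_bel_one hM hmax]

open scoped Classical in
/-- The trace at the identity. -/
theorem sum_cVal_one (hM : Cfsg.IsPModular 2 M) (hmax : Cfsg.IsMaximalBrauerPair 2 M B D e₀) :
    ∑ χ : B, cVal 2 M D e₀ (1 : G) χ χ = (Cfsg.blockRank 2 B : ℂ) := by
  have h := card_mul_blockRank hM hmax.1.2.1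
  have hC : Nat.card CG[Subgroup.zpowers (1 : G)] = Nat.card G := by
    rw [show CG[Subgroup.zpowers (1 : G)] = ⊤ from eq_top_iff.2 fun g _ =>
      mem_zpowers_centralizer.2 (by simp)]
    exact Subgroup.card_top
  simp only [cVal, hC, ← Finset.mul_sum]
  rw [inv_mul_eq_iff_eq_mul₀ (Nat.cast_ne_zero.2 Nat.card_pos.ne'), h, Finset.sum_comm]
  rw [regC, Finset.sum_filter]
  refine Finset.sum_congr rfl fun y _ => ?_
  by_cases hy : 2 ∣ orderOf y
  · rw [if_pos hy, if_neg fun h => h.1 hy]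
  · rw [if_neg hy, if_pos ⟨hy, by simp⟩, finsum_mem_eq_finite_toFinset_sum _ B.toFinite]
    rw [Finset.sum_subtype B.toFinite.toFinset (fun χ => B.toFinite.mem_toFinset)]
    exact Finset.sum_congr rfl fun χ _ => by rw [sect_bel_one hM hmax χ hy]

end Cfsg.Agent.Blocks.Tame2
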