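import Cfsg.Agent.Blocks.Tame2.HeightOdd
import Cfsg.Agent.Blocks.Tame2.Major
import Cfsg.Agent.Blocks.Star.StarChar

/-!
# The arithmetic data of a block

The integer matrices and vectors of a block with quaternion or semidihedral defect group satisfy the
hypotheses of the counting.
-/

set_option autoImplicit false

namespace Cfsg.Agent.Blocks.Tame2

open Cfsg.Agent Cfsg.Agent.Blocks Cfsg.Agent.Blocks.Star Cfsg.Agent.BrauerPairs
open scoped ComplexConjugate

universe u

attribute [local instance] Fintype.ofFinite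

variable {G : Type u} [Group G] [Finite G] {M : Ideal Cfsg.AlgInt}
  {B : Set (Cfsg.IrrCharacter G)} {D : Subgroup G}
  {e₀ : Set (Cfsg.IrrCharacter (Subgroup.centralizer (D : Set G)))} {a : ℕ} {s : ℤ} {u t : G}
  {hM : Cfsg.IsPModular 2 M} {hmax : Cfsg.IsMaximalBrauerPair 2 M B D e₀}
  {sh : Shape D a s u t}

local notation "CG[" Q "]" => Subgroup.centralizer ((Q : Subgroup G) : Set G)

theorem defect_eq (hM : Cfsg.IsPModular 2 M) (hmax : Cfsg.IsMaximalBrauerPair 2 M B D e₀)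
    (sh : Shape D a s u t) : Cfsg.blockDefect 2 B = a + 3 := by
  haveI := Fact.mk hM.1
  have h := BlockChar.card_defectGroup hM hmax.1.2.1 (isDefectGroup_of_maximal hM hmax)
  rw [sh.hcard] at h
  exact (Nat.pow_right_injective le_rfl h).symm

open scoped Classical in
/-- Rotations of the defect group are indexed by their exponents. -/
theorem sum_rot_index [NeZero (2 ^ (a + 2))] (sh : Shape D a s u t) (F : D → ℂ) :
    ∑ x ∈ Finset.univ.filter (fun x : D => IsRot a u (x : G)), F x =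
      ∑ x ∈ Cols.rots a, F (powD sh x) := by
  refine (Finset.sum_bij (fun x _ => powD sh x) (fun x hx => ?_) (fun x _ y _ e => ?_)
    (fun y hy => ?_) fun x _ => rfl).symm
  · exact Finset.mem_filter.2 ⟨Finset.mem_univ _, sh.isRot_pow.2 (Finset.mem_filter.1 hx).2⟩
  · exact sh.pow_inj (congrArg Subtype.val e)
  · obtain ⟨k, hk⟩ := sh.exists_pow (Finset.mem_filter.1 hy).2.1
    exact ⟨k, Finset.mem_filter.2 ⟨Finset.mem_univ _,
      sh.isRot_pow.1 (hk ▸ (Finset.mem_filter.1 hy).2)⟩, Subtype.ext hk⟩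

open scoped Classical in
/-- The arithmetic data attached to the columns of a block. -/
structure Cert [NeZero (2 ^ (a + 2))] (Z : Nil hM hmax sh) where
  A : B → ZMod (2 ^ (a + 2)) → ℕ
  cols : Cols a ((s : ℤ) : ZMod (2 ^ (a + 2))) A Z.col
  d : Data B cols.hσ.EvRep cols.hσ.OdRep
  ha : d.a = a
  hw : d.w = fun χ => dC A χ (Mul2.hh a)
  hv : d.v = fun (k : cols.hσ.EvRep) χ => dC A χ (k : ZMod (2 ^ (a + 2)))
  ho : d.o = fun (k : cols.hσ.OdRep) χ => dC A χ (k : ZMod (2 ^ (a + 2)))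
  hht : d.ht = hgt B
  hr : d.r = rCount M D e₀ a u t
  hl : d.l = Cfsg.blockRank 2 B
  hlz : ∃ b : Set (Cfsg.IrrCharacter CG[Subgroup.zpowers (u ^ 2 ^ (a + 1))]),
    Cfsg.SubpairLE 2 M (Subgroup.zpowers (u ^ 2 ^ (a + 1))) b D e₀ ∧ d.lz = Cfsg.blockRank 2 b
  hR : ∀ χ ψ : B, (d.R χ ψ : ℂ) = (2 : ℂ) ^ (a + 3) * cVal 2 M D e₀ (1 : G) χ ψ
  hS : ∀ χ ψ : B, (d.S χ ψ : ℂ) =
    (2 : ℂ) ^ (a + 3) * cVal 2 M D e₀ (u ^ 2 ^ (a + 1)) χ ψ

open scoped Classical in
/-- A rotation column with zero coefficients vanishes. -/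
theorem Cols.dC_eq_zero [NeZero (2 ^ (a + 2))] {ι : Type*} [Fintype ι]
    {σ : ZMod (2 ^ (a + 2))} {A : ι → ZMod (2 ^ (a + 2)) → ℕ}
    {f : ι → ZMod (2 ^ (a + 2)) → ℂ} (c : Cols a σ A f) {χ : ι}
    (h0 : dC A χ (Mul2.hh a) = 0) (h1 : ∀ k : c.hσ.EvRep, dC A χ (k : ZMod (2 ^ (a + 2))) = 0)
    (h2 : ∀ k : c.hσ.OdRep, dC A χ (k : ZMod (2 ^ (a + 2))) = 0) :
    ∀ l, dC A χ l = 0 := by
  have h := c.hσ.sum_split (fun l => dC A χ l * dC A χ l) fun l => by simp only [c.d_smul]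
  simp only [Cols.d_zero, Cols.d_one, h0, h1, h2, mul_zero, Finset.sum_const_zero, add_zero] at h
  exact fun l => mul_self_eq_zero.1
    ((Finset.sum_eq_zero_iff_of_nonneg fun i _ => mul_self_nonneg (dC A χ i)).1 h l
      (Finset.mem_univ l))

open scoped Classical in
/-- Every block with quaternion or semidihedral defect group has such data. -/
theorem exists_cert [NeZero (2 ^ (a + 2))] (Z : Nil hM hmax sh) : Nonempty (Cert Z) := by
  haveI := Fact.mk hM.1
  obtain ⟨A, c⟩ := Z.exists_cols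
  have hd := defect_eq hM hmax sh
  set N : ℤ := 2 ^ (a + 1) with hNdef
  have h4N : 4 * N = 2 ^ Cfsg.blockDefect 2 B := by rw [hd, hNdef]; ring
  have hN4c : ((4 * N : ℤ) : ℂ) = (2 : ℂ) ^ (a + 3) := by rw [h4N, hd]; push_cast; rfl
  have hNpos : 0 < N := by rw [hNdef]; positivity
  obtain ⟨R, b₁, -, hR, hRv, -⟩ := exists_section hM hmax h4N D.one_mem (one_mul 1)
    fun q _ => by rw [one_mul, mul_one]
  obtain ⟨z, hzdef⟩ : ∃ z, z = u ^ 2 ^ (a + 1) := ⟨_, rfl⟩
  obtain ⟨S, bz, hbz, hS, hSv, htrS⟩ := exists_section hM hmax h4N sh.z_mem sh.z_mul_self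
    fun q hq => sh.z_comm hq
  set hh := Mul2.hh a with hhdef
  -- the coefficient vectors
  let w : B → ℤ := fun χ => dC A χ hh
  let v : c.hσ.EvRep → B → ℤ := fun k χ => dC A χ (k : ZMod (2 ^ (a + 2)))
  let o : c.hσ.OdRep → B → ℤ := fun k χ => dC A χ (k : ZMod (2 ^ (a + 2)))
  let T : B → B → ℤ := fun χ ψ =>
    (if χ = ψ then 4 * N else 0) - R χ ψ - S χ ψ - rotForm N w v o χ ψ
  have hRc : ∀ χ ψ : B, (R χ ψ : ℂ) = (2 : ℂ) ^ (a + 3) * cVal 2 M D e₀ (1 : G) χ ψ :=
    fun χ ψ => by rw [hRv, hN4c]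
  have hSc : ∀ χ ψ : B, (S χ ψ : ℂ) = (2 : ℂ) ^ (a + 3) * cVal 2 M D e₀ z χ ψ :=
    fun χ ψ => by rw [hSv, hN4c, hzdef]
  set U := Finset.univ.filter (fun x : D => InU M D e₀ a u (x : G)) with hU
  -- the twisted inner products
  have arrange : ∀ g : G → ℂ, (∀ x y, Fused 2 M D e₀ x y → g y = g x) → ∀ χ ψ : B,
      (2 : ℂ) ^ (a + 3) * ∑ x : D, g x * cVal 2 M D e₀ (x : G) χ ψ /
          ((fusedSet 2 M D e₀ (x : G)).card : ℂ) =
        g 1 * R χ ψ + g z * S χ ψ +
          ∑ x ∈ Cols.rots a, g (u ^ x.val) * (Z.col χ x * conj (Z.col ψ x)) +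
          (2 : ℂ) ^ (a + 3) * ∑ x ∈ U, g x * cVal 2 M D e₀ (x : G) χ ψ /
            ((fusedSet 2 M D e₀ (x : G)).card : ℂ) := by
    intro g hg χ ψ
    rw [sum_arrange hM hmax sh (fun x : D => g x * cVal 2 M D e₀ (x : G) χ ψ)
      (fun x y h => by rw [hg _ _ h, cVal_fused hM hmax h]), sum_rot_index sh, hRc, hSc,
      Finset.sum_congr rfl (g := fun x => 2 / (2 : ℂ) ^ (a + 3) *
        (g (u ^ x.val) * (Z.col χ x * conj (Z.col ψ x)))) fun x hx => ?_, ← Finset.mul_sum]
    · simp only [OneMemClass.coe_one, hzdef]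
      field_simp
      rw [hU]
    · obtain ⟨-, h0, h1⟩ := Finset.mem_filter.1 hx
      have h := Z.cVal_pow χ ψ h0 h1
      rw [← h]
      have e : (2 : ℂ) ^ (a + 3) = 2 * 2 ^ (a + 2) := pow_succ' _ _
      rw [e]
      field_simp
  have hrot : ∀ χ ψ : B, ∑ x ∈ Cols.rots a, Z.col χ x * conj (Z.col ψ x) =
      (rotForm N w v o χ ψ : ℂ) := fun χ ψ => c.sum_rot χ ψ
  have hTc : ∀ χ ψ : B, (T χ ψ : ℂ) = (2 : ℂ) ^ (a + 3) *
      ∑ x ∈ U, cVal 2 M D e₀ (x : G) χ ψ / ((fusedSet 2 M D e₀ (x : G)).card : ℂ) := by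
    intro χ ψ
    have h1 := arrange (fun _ => 1) (fun _ _ _ => rfl) χ ψ
    simp only [one_mul, hrot] at h1
    have h2 := classInner_Phi_fused hM hmax (W := fun _ _ => (1 : ℂ)) (fun _ _ _ => rfl)
      (lam := fun _ => 1) (fun _ _ _ => rfl) χ.2 (ψ : Cfsg.IrrCharacter G)
    rw [show Phi 2 M (fun _ _ => (1 : ℂ)) ((χ : Cfsg.IrrCharacter G) : G → ℂ) =
      ((χ : Cfsg.IrrCharacter G) : G → ℂ) from
        funext fun g => Phi_eq_self hM _ g fun _ _ _ => rfl, Char.classInner_irrChar] at h2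
    simp only [one_mul] at h2
    rw [← h2] at h1
    have hif : (((if χ = ψ then 4 * N else 0 : ℤ)) : ℂ) = (2 : ℂ) ^ (a + 3) *
        (if (χ : Cfsg.IrrCharacter G) = (ψ : Cfsg.IrrCharacter G) then 1 else 0) := by
      by_cases h : χ = ψ
      · subst h; simp [← hN4c]
      · rw [if_neg h, if_neg (Subtype.coe_injective.ne h)]; simp
    simp only [T, Int.cast_sub, hif]
    linear_combination h1
  -- integrality of the twisted inner products
  have twist : ∀ g : G → ℂ, (∀ x y, Fused 2 M D e₀ x y → g y = g x) →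
      Cfsg.IsGeneralizedCharacter D (fun x : D => g x) → (∀ x : D, x ∈ U → g x = 0) →
      ∀ χ ψ : B, ∃ I : ℂ, IsIntegral ℤ I ∧ ((4 * N : ℤ) : ℂ) * I =
        g 1 * R χ ψ + g z * S χ ψ +
          ∑ x ∈ Cols.rots a, g (u ^ x.val) * (Z.col χ x * conj (Z.col ψ x)) := by
    intro g hg hgen hzero χ ψ
    have hst := isStable_of_fused (p := 2) (M := M) (P := D) (e₀ := e₀) hg
    have hW := isWeight_fWeight hM hmax hgen hst
    refine ⟨_, isIntegral_classInner_Phi hM hW (χ : Cfsg.IrrCharacter G)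
      (Char.IsIrr.isCharacter (ψ : Cfsg.IrrCharacter G).2), ?_⟩
    rw [classInner_Phi_fused hM hmax hW.conj (fun x e h => fWeight_of_below hst h) χ.2, hN4c,
      arrange g hg χ ψ, Finset.sum_eq_zero (s := U) fun x hx => ?_, mul_zero, add_zero]
    rw [hzero x hx, zero_mul, zero_div]
  have hdiv : ∀ {I : ℂ} {k : ℤ}, IsIntegral ℤ I → ((4 * N : ℤ) : ℂ) * I = (k : ℂ) → 4 * N ∣ k := by
    intro I k hI he
    have h0 : ((4 * N : ℤ) : ℂ) ≠ 0 := Int.cast_ne_zero.2 (by omega)
    obtain ⟨j, hj⟩ := Blocks.exists_int_of_isIntegral_rat hI ((k : ℚ) / ((4 * N : ℤ) : ℚ)) (by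
      rw [Rat.cast_div, Rat.cast_intCast, Rat.cast_intCast, eq_div_iff h0, mul_comm]
      exact he)
    rw [hj] at he
    exact ⟨j, by exact_mod_cast he.symm⟩
  have hUout : ∀ x : D, x ∈ U → (x : G) ∉ Subgroup.zpowers u := fun x hx =>
    InU.outside hM hmax sh x.2 (Finset.mem_filter.1 hx).2
  have hodd : ∀ χ : B, hgt B χ = 0 ↔ Odd (w χ) := fun χ => Z.height_odd c χ
  have hPU : ∀ x y, Fused 2 M D e₀ x y → (InU M D e₀ a u x ↔ InU M D e₀ a u y) :=
    fun x y h => inU_congr hM hmax sh h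
  obtain ⟨c₀, hc₀⟩ : ∃ c₀ : ℤ, c₀ = if InU M D e₀ a u t then -1 else 1 := ⟨_, rfl⟩
  obtain ⟨c₁, hc₁⟩ : ∃ c₁ : ℤ, c₁ = if InU M D e₀ a u (u * t) then -1 else 1 := ⟨_, rfl⟩
  have hc₀sq : c₀ * c₀ = 1 := by rw [hc₀]; split_ifs <;> rfl
  have hc₁sq : c₁ * c₁ = 1 := by rw [hc₁]; split_ifs <;> rfl
  have hsgn : ∀ {x : G}, x ∈ D → x ∉ Subgroup.zpowers u →
      sgnFun u t c₀ c₁ x = if InU M D e₀ a u x then -1 else 1 := fun hx hxu => by
    rw [hc₀, hc₁]
    exact sgn_class hM hmax sh _ hPU (-1) 1 hx hxu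
  have hone' : Cfsg.IsGeneralizedCharacter D (fun _ : D => (1 : ℂ)) := by
    have h := sh.sgn_gen (c₀ := 1) (c₁ := 1) rfl rfl
    refine (?_ : (fun x : D => ((sgnFun u t 1 1 (x : G) : ℤ) : ℂ)) = fun _ : D => (1 : ℂ)) ▸ h
    funext x
    rw [sgnFun]
    split_ifs <;> simp
  have hsgnev : ∀ x : ZMod (2 ^ (a + 2)), sgnFun u t c₀ c₁ (u ^ x.val) =
      if Mul2.IsEv x then 1 else c₀ * c₁ := fun x => by
    rw [← zpow_natCast, sh.sgn_pow]
    exact if_congr (Int.even_coe_nat _) rfl rfl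
  have hsgnv : (a ≠ 0 ∨ c₀ * c₁ = 1) → sgnFun u t c₀ c₁ (u ^ 2 ^ a) = 1 := fun h => by
    rw [← zpow_natCast, sh.sgn_pow]
    split_ifs with he
    · rfl
    · exact h.resolve_left fun ha => he (by push_cast; exact even_two.pow_of_ne_zero ha)
  -- the twist by the sign of the classes
  have hplus : (a ≠ 0 ∨ c₀ * c₁ = 1) → ∀ χ ψ : B, ∃ I : ℂ, IsIntegral ℤ I ∧
      ((4 * N : ℤ) : ℂ) * I = 2 * R χ ψ + 2 * S χ ψ + ∑ x ∈ Cols.rots a,
        (1 + ((if Mul2.IsEv x then 1 else c₀ * c₁ : ℤ) : ℂ)) * (Z.col χ x * conj (Z.col ψ x)) := by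
    intro hc χ ψ
    let g : G → ℂ := fun x => 1 + ((sgnFun u t c₀ c₁ x : ℤ) : ℂ)
    have hgU : ∀ x ∈ D, InU M D e₀ a u x → g x = 0 := fun x hx hxU => by
      simp only [g]
      rw [hsgn hx (InU.outside hM hmax sh hx hxU), if_pos hxU]
      simp
    have hst := stable_of hM hmax sh (g := g)
      (fun q hq x hx => by simp only [g]; rw [sh.sgn_conj hc₀sq hc₁sq hq hx])
      (fun x hxu h => by
        simp only [g]
        rw [hsgn h.mem_left hxu, if_neg fun hxU => hxU.2.1 h, sh.sgn_z])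
      (fun x hxu h => by
        simp only [g]
        rw [hsgn h.mem_left hxu, if_neg fun hxU => hxU.2.2 _ (isRot_v sh) h, hsgnv hc])
      (c := 0) hgU
    obtain ⟨I, hI, he⟩ := twist g hst (Char.isGeneralized_add hone' (sh.sgn_gen hc₀sq hc₁sq))
      (fun x hx => hgU _ x.2 (Finset.mem_filter.1 hx).2) χ ψ
    refine ⟨I, hI, he.trans ?_⟩
    simp only [g, sh.sgn_one, hzdef, sh.sgn_z, hsgnev]
    norm_num
  have hTdiag : ∀ χ : B, ((T χ χ : ℤ) : ℝ) = (2 : ℝ) ^ (a + 3) * ∑ x ∈ U,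
      (cVal 2 M D e₀ (x : G) χ χ).re / ((fusedSet 2 M D e₀ (x : G)).card : ℝ) := fun χ => by
    have h := congrArg Complex.re (hTc χ χ)
    rw [show ((2 : ℂ) ^ (a + 3)) = (((2 : ℝ) ^ (a + 3) : ℝ) : ℂ) by push_cast; rfl,
      Complex.intCast_re, Complex.re_ofReal_mul, Complex.re_sum] at h
    rw [h]
    congr 1
    refine Finset.sum_congr rfl fun x _ => ?_
    exact Complex.div_natCast_re _ _
  have hUpos : ∀ x : D, x ∈ U → (0 : ℝ) < ((fusedSet 2 M D e₀ (x : G)).card : ℝ) := fun x _ =>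
    Nat.cast_pos.2 (Finset.card_pos.2 ⟨x, Finset.mem_filter.2
      ⟨Finset.mem_univ _, fused_refl hM hmax x.2⟩⟩)
  have hterm : ∀ χ : B, ∀ x ∈ U, (0 : ℝ) ≤ (cVal 2 M D e₀ (x : G) χ χ).re /
      ((fusedSet 2 M D e₀ (x : G)).card : ℝ) := fun χ x _ =>
    div_nonneg (cVal_self_nonneg _ _) (Nat.cast_nonneg _)
  have hrcases : rCount M D e₀ a u t = 0 ∧ U = ∅ ∨ rCount M D e₀ a u t ≠ 0 ∧ U.Nonempty := by
    rcases U.eq_empty_or_nonempty with h | h
    · refine Or.inl ⟨?_, h⟩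
      have hno : ∀ x : D, ¬ InU M D e₀ a u (x : G) := fun x hx =>
        Finset.eq_empty_iff_forall_notMem.1 h x (Finset.mem_filter.2 ⟨Finset.mem_univ _, hx⟩)
      rw [rCount, if_neg (hno ⟨t, sh.ht⟩), if_neg (hno ⟨u * t, D.mul_mem sh.hu sh.ht⟩)]
    · refine Or.inr ⟨fun h0 => ?_, h⟩
      obtain ⟨x, hx⟩ := h
      have hxU := (Finset.mem_filter.1 hx).2
      obtain ⟨i, hi⟩ := sh.exists_eq x.2 (hUout x hx)
      rw [hi] at hxU
      have h2 := (hPU _ _ (fused_class hM hmax sh i)).2 hxU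
      simp only [rCount, add_eq_zero, ite_eq_right_iff, one_ne_zero, imp_false] at h0
      split_ifs at h2 <;> tauto
  have hr1prod : rCount M D e₀ a u t = 1 → c₀ * c₁ = -1 := by
    rw [rCount, hc₀, hc₁]
    split_ifs <;> simp
  have hr2prod : rCount M D e₀ a u t = 2 → c₀ * c₁ = 1 := by
    rw [rCount, hc₀, hc₁]
    split_ifs <;> simp
  have hr1 : a = 0 → rCount M D e₀ a u t ≠ 1 := fun ha0 hr => by
    have hp := hr1prod hr
    let g : G → ℂ := fun x => 1 - ((sgnFun u t (-c₀) (-c₁) x : ℤ) : ℂ)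
    have hn₀ : -c₀ * -c₀ = 1 := by rw [neg_mul_neg, hc₀sq]
    have hn₁ : -c₁ * -c₁ = 1 := by rw [neg_mul_neg, hc₁sq]
    have hsgn' : ∀ {x : G}, x ∈ D → x ∉ Subgroup.zpowers u →
        sgnFun u t (-c₀) (-c₁) x = if InU M D e₀ a u x then 1 else -1 := fun hx hxu => by
      have h1 : -c₀ = if InU M D e₀ a u t then 1 else -1 := by rw [hc₀]; split_ifs <;> rfl
      have h2 : -c₁ = if InU M D e₀ a u (u * t) then 1 else -1 := by
        rw [hc₁]; split_ifs <;> rfl
      rw [h1, h2]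
      exact sgn_class hM hmax sh _ hPU 1 (-1) hx hxu
    have hgU : ∀ x ∈ D, InU M D e₀ a u x → g x = 0 := fun x hx hxU => by
      simp only [g]
      rw [hsgn' hx (InU.outside hM hmax sh hx hxU), if_pos hxU]
      simp
    have hev : ∀ x : ZMod (2 ^ (a + 2)), sgnFun u t (-c₀) (-c₁) (u ^ x.val) =
        if Mul2.IsEv x then 1 else -1 := fun x => by
      rw [← zpow_natCast, sh.sgn_pow, neg_mul_neg, hp]
      exact if_congr (Int.even_coe_nat _) rfl rfl
    have hQ : s = -1 ∧ t * t = u ^ 2 ^ (a + 1) := sh.hcase.resolve_right fun h => by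
      have := h.1; omega
    have hnoz : ∀ x, x ∉ Subgroup.zpowers u → ¬ Fused 2 M D e₀ x z := fun x hxu h => by
      have h2 := sq_of_fused_z (M := M) (e₀ := e₀) sh (by rw [← hzdef]; exact h)
      obtain ⟨i, rfl⟩ := sh.exists_eq h.mem_left hxu
      apply sh.z_ne_one
      rw [← h2, show u ^ i * t * (u ^ i * t) = u ^ i * (t * u ^ i * t⁻¹) * (t * t) by group,
        sh.conj_t, hQ.1, ← zpow_add, hQ.2]
      simp
    have hst := stable_of hM hmax sh (g := g)
      (fun q hq x hx => by simp only [g]; rw [sh.sgn_conj hn₀ hn₁ hq hx])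
      (fun x hxu h => absurd (by rw [hzdef]; exact h) (hnoz x hxu))
      (fun x hxu h => by
        simp only [g]
        rw [hsgn' h.mem_left hxu, if_neg fun hxU => hxU.2.2 _ (isRot_v sh) h, ha0,
          pow_zero, pow_one]
        have h1 := sh.sgn_pow (-c₀) (-c₁) 1
        rw [zpow_one, if_neg (by decide), neg_mul_neg, hp] at h1
        rw [h1])
      (c := 0) hgU
    obtain ⟨χ, hχ⟩ : ∃ χ : B, hgt B χ = 0 := by
      obtain ⟨χ, hχ, h⟩ := BlockThms.exists_height_zero hM hmax.1.2.1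
      exact ⟨⟨χ, hχ⟩, h⟩
    obtain ⟨I, hI, he⟩ := twist g hst
      (Char.isGeneralized_sub hone' (sh.sgn_gen hn₀ hn₁))
      (fun x hx => hgU _ x.2 (Finset.mem_filter.1 hx).2) χ χ
    simp only [g, sh.sgn_one, hzdef, sh.sgn_z, hev] at he
    have hodd' : ∀ x ∈ Cols.rots a, ¬ Mul2.IsEv x := fun x hx hev' => by
      obtain ⟨-, h0, h1⟩ := Finset.mem_filter.1 hx
      have hlt := x.val_lt
      have hv : x.val ≠ 0 := fun e => h0 ((ZMod.val_eq_zero x).1 e)
      have hv2 : x.val ≠ 2 := fun e => h1 (by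
        rw [← ZMod.natCast_zmod_val x, e, Mul2.hh, ha0]; rfl)
      have h4 : x.val < 4 := by subst ha0; simpa using hlt
      obtain ⟨k, hk⟩ := hev'
      omega
    rw [Finset.sum_congr rfl (g := fun x => 2 * (Z.col χ x * conj (Z.col χ x))) fun x hx => by
      rw [if_neg (hodd' x hx)]; push_cast; ring, ← Finset.mul_sum, hrot] at he
    have hd := hdiv (k := 2 * rotForm N w v o χ χ) hI (by rw [he]; push_cast; ring)
    haveI : IsEmpty c.hσ.EvRep := Fintype.card_eq_zero_iff.1 (by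
      have := c.hσ.card_rep.1; rw [show 2 ^ a = 1 by rw [ha0]; rfl] at this; omega)
    haveI : IsEmpty c.hσ.OdRep := Fintype.card_eq_zero_iff.1 (by
      have := c.hσ.card_rep.2; rw [show 2 ^ a = 1 by rw [ha0]; rfl] at this; omega)
    have hN2 : N = 2 := by rw [hNdef, ha0]; rfl
    obtain ⟨k, hk⟩ := hd
    simp only [rotForm, hN2, Finset.univ_eq_empty, Finset.sum_empty, mul_zero, add_zero] at hk
    have hw : Odd (w χ * w χ) := Int.odd_mul.2 ⟨(hodd χ).1 hχ, (hodd χ).1 hχ⟩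
    rw [Int.odd_iff] at hw
    omega
  have hne1 : hh ≠ 1 := fun e =>
    Mul2.not_isEv_one (show Mul2.IsEv (1 : ZMod (2 ^ (a + 2))) by rw [← e]; exact Mul2.isEv_hh)
  have hneσ : hh ≠ ((s : ℤ) : ZMod (2 ^ (a + 2))) := fun e =>
    c.hσ.not_isEv (by rw [← e]; exact Mul2.isEv_hh)
  -- the data
  let d : Data B c.hσ.EvRep c.hσ.OdRep :=
    { a := a
      N := N
      w := w
      v := v
      o := o
      ht := hgt B
      R := R
      S := S
      T := T
      r := rCount M D e₀ a u t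
      l := Cfsg.blockRank 2 B
      lz := Cfsg.blockRank 2 bz
      hN := rfl
      hκ := c.hσ.card_rep.1
      hκ' := c.hσ.card_rep.2
      hww := by
        refine (c.gram Mul2.hh_ne_zero hne1 hneσ Mul2.hh_ne_zero hne1 hneσ).trans ?_
        simp [hhdef, c.hσ.smul_hh, Mul2.isEv_hh]
      hwv := fun k => by
        have hk1 : (k : ZMod (2 ^ (a + 2))) ≠ 1 := fun e => Mul2.not_isEv_one (e ▸ k.2.1)
        have hkσ : (k : ZMod (2 ^ (a + 2))) ≠ ((s : ℤ) : ZMod (2 ^ (a + 2))) := fun e =>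
          c.hσ.not_isEv (by rw [← e]; exact k.2.1)
        refine (c.gram Mul2.hh_ne_zero hne1 hneσ k.2.2.1 hk1 hkσ).trans ?_
        simp [hhdef, c.hσ.smul_hh, Mul2.isEv_hh, k.2.1, Ne.symm k.2.2.2.1]
      hvv := fun k j => by
        have hk1 : ∀ k : c.hσ.EvRep, (k : ZMod (2 ^ (a + 2))) ≠ 1 ∧
            (k : ZMod (2 ^ (a + 2))) ≠ ((s : ℤ) : ZMod (2 ^ (a + 2))) := fun k =>
          ⟨fun e => Mul2.not_isEv_one (e ▸ k.2.1), fun e => c.hσ.not_isEv (e ▸ k.2.1)⟩
        refine (c.gram k.2.2.1 (hk1 k).1 (hk1 k).2 j.2.2.1 (hk1 j).1 (hk1 j).2).trans ?_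
        have hne : ((s : ℤ) : ZMod (2 ^ (a + 2))) * (k : ZMod (2 ^ (a + 2))) ≠ j := fun e => by
          have h1 := k.2.2.2.2
          have h2 := j.2.2.2.2
          rw [← e, c.hσ.smul_smul] at h2
          omega
        by_cases hkj : k = j
        · subst hkj; simp [hne, k.2.1]
        · simp [hne, k.2.1, j.2.1, hkj, Subtype.coe_inj]
      hoo := fun k j => by
        have hk0 : ∀ k : c.hσ.OdRep, (k : ZMod (2 ^ (a + 2))) ≠ 0 := fun k e =>
          k.2.1 (e ▸ Mul2.isEv_zero)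
        refine (c.gram (hk0 k) k.2.2.1 k.2.2.2.1 (hk0 j) j.2.2.1 j.2.2.2.1).trans ?_
        have hne : ((s : ℤ) : ZMod (2 ^ (a + 2))) * (k : ZMod (2 ^ (a + 2))) ≠ j := fun e => by
          have h1 := k.2.2.2.2
          have h2 := j.2.2.2.2
          rw [← e, c.hσ.smul_smul] at h2
          omega
        by_cases hkj : k = j
        · subst hkj; simp [hne, k.2.1]
        · simp [hne, k.2.1, j.2.1, hkj, Subtype.coe_inj]
      hwo := fun k => by
        have hk0 : (k : ZMod (2 ^ (a + 2))) ≠ 0 := fun e => k.2.1 (e ▸ Mul2.isEv_zero)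
        refine (c.gram Mul2.hh_ne_zero hne1 hneσ hk0
          k.2.2.1 k.2.2.2.1).trans ?_
        have hne : hh ≠ (k : ZMod (2 ^ (a + 2))) := fun e => k.2.1 (e ▸ Mul2.isEv_hh)
        simp [hhdef ▸ hne, c.hσ.smul_hh, Mul2.isEv_hh, k.2.1]
      hodd := hodd
      h0 := by
        obtain ⟨χ, hχ, h⟩ := BlockThms.exists_height_zero hM hmax.1.2.1
        exact ⟨⟨χ, hχ⟩, h⟩
      hR := hR
      hS := hS
      hT := fun χ ψ => rfl
      hT0 := fun χ => by
        have : (0 : ℝ) ≤ ((T χ χ : ℤ) : ℝ) :=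
          hTdiag χ ▸ mul_nonneg (by positivity) (Finset.sum_nonneg (hterm χ))
        exact_mod_cast this
      hTrow := fun χ hχ ψ => by
        have h := hTdiag χ
        rw [hχ, Int.cast_zero, eq_comm, mul_eq_zero] at h
        have h0 := (Finset.sum_eq_zero_iff_of_nonneg (hterm χ)).1
          (h.resolve_left (by positivity))
        apply Int.cast_injective (α := ℂ)
        rw [hTc, Finset.sum_eq_zero fun x hx => ?_, mul_zero, Int.cast_zero]
        rw [cVal_row ((div_eq_zero_iff.1 (h0 x hx)).resolve_right (hUpos x hx).ne'), zero_div]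
      htrR := by
        apply Int.cast_injective (α := ℂ)
        push_cast
        simp only [hRc, ← Finset.mul_sum, sum_cVal_one hM hmax]
        rw [← hN4c]
        push_cast
        ring
      htrS := htrS
      hl := BlockChar.blockRank_pos hM hmax.1.2.1
      hlz := BlockChar.blockRank_pos hM (isBrauerPair_of_subpairLE hmax.1.1 hbz).2
      hr := by rw [rCount]; split_ifs <;> omega
      hr1 := hr1
      hzero := fun hr χ => by
        rcases hrcases with ⟨-, he⟩ | ⟨h, -⟩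
        · apply Int.cast_injective (α := ℂ)
          rw [hTc, he, Finset.sum_empty, mul_zero, Int.cast_zero]
        · exact absurd hr h
      hpos := fun hr χ hχ => by
        obtain ⟨-, hne⟩ := hrcases.resolve_left fun h => hr h.1
        have h : (0 : ℝ) < ((T χ χ : ℤ) : ℝ) := hTdiag χ ▸ mul_pos (by positivity)
          (Finset.sum_pos (fun x hx =>
            div_pos (cVal_pos hM hmax x.2 χ.2 hχ) (hUpos x hx)) hne)
        exact_mod_cast h
      hone := fun hr χ hχ => by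
        have hp := hr1prod hr
        have ha : a ≠ 0 := fun ha0 => hr1 ha0 hr
        obtain ⟨I, hI, he⟩ := hplus (Or.inl ha) χ χ
        obtain ⟨K, hK, hKe⟩ := c.sum_rot_odd χ
        have hev : ∑ x ∈ Cols.rots a, (1 + ((if Mul2.IsEv x then 1 else c₀ * c₁ : ℤ) : ℂ)) *
            (Z.col χ x * conj (Z.col χ x)) =
            2 * ((rotForm N w v o χ χ - N * K : ℤ) : ℂ) := by
          rw [Int.cast_sub, ← hrot χ χ, hNdef, ← hKe,
            Finset.sum_filter (s := Cols.rots a), ← Finset.sum_sub_distrib, Finset.mul_sum]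
          refine Finset.sum_congr rfl fun x _ => ?_
          rw [hp]
          by_cases hx : Mul2.IsEv x <;> simp [hx] <;> first | ring1 | (ring_nf; simp) | tauto
        rw [hev] at he
        obtain ⟨j, hj⟩ := hdiv
          (k := 2 * R χ χ + 2 * S χ χ + 2 * (rotForm N w v o χ χ - N * K)) hI
          (by rw [he]; push_cast; ring)
        obtain ⟨m, hm⟩ := hK.2 ((hodd χ).1 hχ)
        refine ⟨-j + 1 - m, ?_⟩
        simp only [T, reduceIte]
        rw [hm] at hj
        linarith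
      htwo := fun hr χ _ => by
        have hp := hr2prod hr
        obtain ⟨I, hI, he⟩ := hplus (Or.inr hp) χ χ
        have hall : ∑ x ∈ Cols.rots a, (1 + ((if Mul2.IsEv x then 1 else c₀ * c₁ : ℤ) : ℂ)) *
            (Z.col χ x * conj (Z.col χ x)) = 2 * (rotForm N w v o χ χ : ℂ) := by
          rw [← hrot χ χ, Finset.mul_sum]
          refine Finset.sum_congr rfl fun x _ => ?_
          rw [hp]
          norm_num
        rw [hall] at he
        obtain ⟨j, hj⟩ := hdiv (k := 2 * R χ χ + 2 * S χ χ + 2 * rotForm N w v o χ χ) hI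
          (by rw [he]; push_cast; ring)
        refine ⟨2 - j, ?_⟩
        simp only [T, reduceIte]
        linarith
      hdvd := fun ha χ hwχ hvχ hoχ ψ => by
        obtain ⟨F, hF, hF1, hFz, hFv, hFout⟩ := sh.exists_pair_char
        have hPV : ∀ x y, Fused 2 M D e₀ x y →
            (Fused 2 M D e₀ x (u ^ 2 ^ a) ↔ Fused 2 M D e₀ y (u ^ 2 ^ a)) :=
          fun x y h => ⟨fun h' => h.symm.trans' hM hmax h', fun h' => h.trans' hM hmax h'⟩
        obtain ⟨k₀, hk₀⟩ : ∃ k : ℤ, k = if Fused 2 M D e₀ t (u ^ 2 ^ a) then 1 else -1 := ⟨_, rfl⟩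
        obtain ⟨k₁, hk₁⟩ : ∃ k : ℤ, k = if Fused 2 M D e₀ (u * t) (u ^ 2 ^ a) then 1 else -1 :=
          ⟨_, rfl⟩
        have hk₀sq : k₀ * k₀ = 1 := by rw [hk₀]; split_ifs <;> rfl
        have hk₁sq : k₁ * k₁ = 1 := by rw [hk₁]; split_ifs <;> rfl
        have hcl : ∀ {x : G}, x ∈ D → x ∉ Subgroup.zpowers u →
            sgnFun u t k₀ k₁ x = if Fused 2 M D e₀ x (u ^ 2 ^ a) then 1 else -1 := fun hx hxu => by
          rw [hk₀, hk₁]
          exact sgn_class hM hmax sh _ hPV 1 (-1) hx hxu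
        let g : G → ℂ := fun x =>
          1 + ((sgnFun u t k₀ k₁ x : ℤ) : ℂ) + Cfsg.extendByZero D F x
        have hext : ∀ x (hx : x ∈ D), Cfsg.extendByZero D F x = F ⟨x, hx⟩ := fun x hx =>
          Char.extendByZero_of_mem D F hx
        have hout : ∀ x, x ∈ D → x ∉ Subgroup.zpowers u →
            g x = 1 + ((if Fused 2 M D e₀ x (u ^ 2 ^ a) then 1 else -1 : ℤ) : ℂ) :=
          fun x hx hxu => by
            simp only [g]
            rw [hcl hx hxu, hext x hx, hFout ⟨x, hx⟩ hxu, add_zero]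
        have hgz : g z = 0 := by
          simp only [g, hzdef]
          rw [sh.sgn_z, hext _ sh.z_mem, hFz]
          norm_num
        have hgv : g (u ^ 2 ^ a) = 2 := by
          simp only [g]
          rw [hext _ sh.v_mem, hFv, ← zpow_natCast, sh.sgn_pow,
            if_pos (by push_cast; exact even_two.pow_of_ne_zero ha)]
          norm_num
        have hgU : ∀ x ∈ D, InU M D e₀ a u x → g x = 0 := fun x hx hxU => by
          rw [hout x hx (InU.outside hM hmax sh hx hxU),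
            if_neg (hxU.2.2 _ (isRot_v sh))]
          norm_num
        have hst := stable_of hM hmax sh (g := g)
          (fun q hq x hx => by
            simp only [g]
            rw [sh.sgn_conj hk₀sq hk₁sq hq hx, hext x hx,
              hext _ (D.mul_mem (D.mul_mem hq hx) (D.inv_mem hq))]
            have := Char.IsGen.isClassFunction hF ⟨x, hx⟩ ⟨q, hq⟩
            rw [← this]
            rfl)
          (fun x hxu h => by
            rw [← hzdef, hgz, hout x h.mem_left hxu, if_neg]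
            · norm_num
            · intro h'
              have h2 := (h.symm.trans' hM hmax h').orderOf_eq
              rw [sh.orderOf_v, sh.orderOf_z] at h2
              omega)
          (fun x hxu h => by
            rw [hgv, hout x h.mem_left hxu, if_pos h]
            norm_num)
          (c := 0) hgU
        have hgen : Cfsg.IsGeneralizedCharacter D (fun x : D => g x) := by
          have h := Char.isGeneralized_add (Char.isGeneralized_add hone' (sh.sgn_gen hk₀sq hk₁sq)) hF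
          refine (?_ : ((fun _ : D => (1 : ℂ)) + fun x : D =>
            ((sgnFun u t k₀ k₁ (x : G) : ℤ) : ℂ)) + F = fun x : D => g x) ▸ h
          funext x
          simp only [g, Pi.add_apply, hext x x.2]
        obtain ⟨I, hI, he⟩ := twist g hst hgen
          (fun x hx => hgU _ x.2 (Finset.mem_filter.1 hx).2) χ ψ
        have hd0 := c.dC_eq_zero hwχ hvχ hoχ
        rw [Finset.sum_eq_zero (s := Cols.rots a) fun x hx => ?_, hgz, zero_mul, add_zero,
          add_zero] at he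
        · have hg1 : g 1 = 4 := by
            simp only [g]
            rw [sh.sgn_one, hext 1 D.one_mem, show (⟨1, D.one_mem⟩ : D) = 1 from rfl, hF1]
            norm_num
          rw [hg1] at he
          obtain ⟨j, hj⟩ := hdiv (k := 4 * R χ ψ) hI (by rw [he]; push_cast; ring)
          exact ⟨j, by linarith⟩
        · obtain ⟨-, h0, h1⟩ := Finset.mem_filter.1 hx
          rw [c.value_eq χ h0 h1]
          simp [hd0] }
  exact ⟨{
    A := A
    cols := c
    d := d
    ha := rfl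
    hw := rfl
    hv := rfl
    ho := rfl
    hht := rfl
    hr := rfl
    hl := rfl
    hlz := ⟨bz, hbz, rfl⟩
    hR := hRc
    hS := fun χ ψ => by rw [← hzdef]; exact hSc χ ψ }⟩

end Cfsg.Agent.Blocks.Tame2
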