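import Cfsg.Agent.Blocks.Star.Action
import Cfsg.Agent.Blocks.Star.NilpotentSum
import Cfsg.Agent.BlockChar.Cyclic.OrdOrth

/-!
# Sums over the subsections of a block

A sum over the subsections of a block is a sum over the elements of a defect group, each weighted by
the inverse of the number of elements fused to it.
-/

set_option autoImplicit false

namespace Cfsg.Agent.Blocks.Tame2

open Cfsg.Agent Cfsg.Agent.Blocks Cfsg.Agent.Blocks.Star Cfsg.Agent.BrauerPairs
open scoped ComplexConjugate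

universe u

attribute [local instance] Fintype.ofFinite

variable {G : Type u} [Group G] {p : ℕ} {M : Ideal Cfsg.AlgInt}
  {B : Set (Cfsg.IrrCharacter G)} {P : Subgroup G}
  {e₀ : Set (Cfsg.IrrCharacter (Subgroup.centralizer (P : Set G)))}

local notation "CG[" Q "]" => Subgroup.centralizer ((Q : Subgroup G) : Set G)
local notation "sbc" => Cfsg.subgroupBlockCoeff

/-- Two elements of the defect group are fused when the subsections below the maximal pair are
conjugate. -/
def Fused (p : ℕ) (M : Ideal Cfsg.AlgInt) (P : Subgroup G)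
    (e₀ : Set (Cfsg.IrrCharacter CG[P])) (x y : G) : Prop :=
  ∃ (g : G) (e : G → ℂ), Below p M P e₀ x e ∧ Below p M P e₀ (g * x * g⁻¹) (conjF g e) ∧
    g * x * g⁻¹ = y

open scoped Classical in
/-- The block coefficients of the subsection below the maximal pair. -/
noncomputable def bel (p : ℕ) (M : Ideal Cfsg.AlgInt) (P : Subgroup G)
    (e₀ : Set (Cfsg.IrrCharacter CG[P])) (x : G) : G → ℂ :=
  if h : ∃ e, Below p M P e₀ x e then h.choose else 0

theorem Fused.mem_left {x y : G} (h : Fused p M P e₀ x y) [Finite G] : x ∈ P :=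
  h.choose_spec.choose_spec.1.mem

theorem Fused.mem_right {x y : G} (h : Fused p M P e₀ x y) [Finite G] : y ∈ P := by
  obtain ⟨g, e, -, h2, rfl⟩ := h
  exact h2.mem

theorem Fused.orderOf_eq {x y : G} (h : Fused p M P e₀ x y) : orderOf y = orderOf x := by
  obtain ⟨g, e, -, -, rfl⟩ := h
  exact orderOf_injective (MulAut.conj g).toMonoidHom (MulAut.conj g).injective x

theorem Fused.of_one {y : G} (h : Fused p M P e₀ 1 y) : y = 1 := by
  obtain ⟨g, e, -, -, rfl⟩ := h
  group

theorem Fused.symm {x y : G} (h : Fused p M P e₀ x y) : Fused p M P e₀ y x := by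
  obtain ⟨g, e, h1, h2, rfl⟩ := h
  refine ⟨g⁻¹, conjF g e, h2, ?_, by group⟩
  rw [show g⁻¹ * (g * x * g⁻¹) * g⁻¹⁻¹ = x by group, conjF_conjF, inv_mul_cancel, conjF_one]
  exact h1

variable [Finite G]

theorem below_bel (hM : Cfsg.IsPModular p M) (hmax : Cfsg.IsMaximalBrauerPair p M B P e₀) {x : G}
    (hx : x ∈ P) : Below p M P e₀ x (bel p M P e₀ x) := by
  haveI := Fact.mk hM.1
  have h : ∃ e, Below p M P e₀ x e := by
    obtain ⟨f, hf, -⟩ := existsUnique_subpairLE hM hmax.1.1 (Subgroup.zpowers_le.2 hx)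
    exact ⟨_, f, hf, rfl⟩
  rw [bel, dif_pos h]
  exact h.choose_spec

theorem bel_eq (hM : Cfsg.IsPModular p M) (hmax : Cfsg.IsMaximalBrauerPair p M B P e₀) {x : G}
    {e : G → ℂ} (h : Below p M P e₀ x e) : bel p M P e₀ x = e :=
  (below_bel hM hmax h.mem).unique hM hmax h

open scoped Classical in
/-- The elements fused to `x`. -/
noncomputable def fusedSet (p : ℕ) (M : Ideal Cfsg.AlgInt) (P : Subgroup G)
    (e₀ : Set (Cfsg.IrrCharacter CG[P])) (x : G) : Finset P :=
  Finset.univ.filter fun y : P => Fused p M P e₀ x y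

/-- The normalised contribution of the subsection below the maximal pair at `x`. -/
noncomputable def cVal (p : ℕ) (M : Ideal Cfsg.AlgInt) (P : Subgroup G)
    (e₀ : Set (Cfsg.IrrCharacter CG[P])) (x : G) (χ ψ : Cfsg.IrrCharacter G) : ℂ :=
  (Nat.card CG[Subgroup.zpowers x] : ℂ)⁻¹ * ∑ y ∈ regC p x,
    sect (χ : G → ℂ) x (bel p M P e₀ x) y * conj (sect (ψ : G → ℂ) x (bel p M P e₀ x) y)

variable (hM : Cfsg.IsPModular p M) (hmax : Cfsg.IsMaximalBrauerPair p M B P e₀)
include hM hmax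

theorem bel_mem_Bk {x : G} (hx : x ∈ P) : bel p M P e₀ x ∈ Bk M x := by
  obtain ⟨f, hf, he⟩ := below_bel hM hmax hx
  rw [← he]
  exact sbc_mem_Bk (isBrauerPair_of_subpairLE hmax.1.1 hf).2

theorem fused_refl {x : G} (hx : x ∈ P) : Fused p M P e₀ x x := by
  refine ⟨1, bel p M P e₀ x, below_bel hM hmax hx, ?_, by group⟩
  rw [conjF_one, show (1 : G) * x * 1⁻¹ = x by group]
  exact below_bel hM hmax hx

theorem Fused.trans' {x y z : G} (h : Fused p M P e₀ x y) (h' : Fused p M P e₀ y z) :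
    Fused p M P e₀ x z := by
  obtain ⟨g, e, h1, h2, rfl⟩ := h
  obtain ⟨k, e', k1, k2, rfl⟩ := h'
  obtain rfl := h2.unique hM hmax k1
  refine ⟨k * g, e, h1, ?_, by group⟩
  rw [← conjF_conjF, show k * g * x * (k * g)⁻¹ = k * (g * x * g⁻¹) * k⁻¹ by group]
  exact k2

theorem fused_conj {x q : G} (hx : x ∈ P) (hq : q ∈ P) : Fused p M P e₀ x (q * x * q⁻¹) :=
  ⟨q, bel p M P e₀ x, below_bel hM hmax hx, (below_bel hM hmax hx).conj_mem hM hq, rfl⟩

omit hM hmax in
theorem isStable_of_fused {lam : G → ℂ} (h : ∀ x y, Fused p M P e₀ x y → lam y = lam x) :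
    IsStable p M P e₀ lam :=
  fun u g e hu hgu => h u _ ⟨g, e, hu, hgu, rfl⟩

open scoped Classical in
/-- A sum over the subsections of a block. -/
theorem sum_subsections_fused (F : G → (G → ℂ) → ℂ)
    (hconj : ∀ u v e, (∃ k, orderOf u = p ^ k) → e ∈ Bk M u →
      F (v * u * v⁻¹) (conjF v e) = F u e)
    (hsupp : ∀ u, (∃ k, orderOf u = p ^ k) → ∀ e ∈ Bk M u, F u e ≠ 0 →
      ∃ g, Below p M P e₀ (g * u * g⁻¹) (conjF g e)) :
    ∑ u ∈ Finset.univ.filter (fun u : G => ∃ k, orderOf u = p ^ k), ∑ e ∈ Bk M u, F u e =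
      (Nat.card G : ℂ) * ∑ x : P, F x (bel p M P e₀ x) /
        ((Nat.card CG[Subgroup.zpowers (x : G)] : ℂ) *
          ((fusedSet p M P e₀ (x : G)).card : ℂ)) := by
  haveI := Fact.mk hM.1
  rw [Finset.sum_sigma']
  set S := (Finset.univ.filter (fun u : G => ∃ k, orderOf u = p ^ k)).sigma fun u => Bk M u with hS
  set w : P → ℂ := fun x => ((Nat.card CG[Subgroup.zpowers (x : G)] : ℂ) *
    ((fusedSet p M P e₀ (x : G)).card : ℂ))⁻¹ with hw
  let φ : G × P → (_ : G) × (G → ℂ) := fun z =>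
    ⟨z.1 * (z.2 : G) * z.1⁻¹, conjF z.1 (bel p M P e₀ z.2)⟩
  have hxp : ∀ x : P, ∃ k, orderOf (x : G) = p ^ k := fun x => by
    obtain ⟨k, hk⟩ := IsPGroup.iff_orderOf.1 hmax.1.1.1 x
    exact ⟨k, by rw [Subgroup.orderOf_coe, hk]⟩
  have hφS : ∀ z ∈ (Finset.univ : Finset (G × P)), φ z ∈ S := by
    intro z _
    refine Finset.mem_sigma.2 ⟨Finset.mem_filter.2 ⟨Finset.mem_univ _, ?_⟩,
      conjF_mem_Bk (bel_mem_Bk hM hmax z.2.2) z.1⟩
    obtain ⟨k, hk⟩ := hxp z.2
    exact ⟨k, by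
      rw [← hk]
      exact orderOf_injective (MulAut.conj z.1).toMonoidHom (MulAut.conj z.1).injective (z.2 : G)⟩
  have hfib : ∀ t ∈ S, (∑ z ∈ Finset.univ.filter (fun z => φ z = t), w z.2) * F t.1 t.2 =
      F t.1 t.2 := by
    rintro ⟨u, e⟩ ht
    simp only [hS, Finset.mem_sigma, Finset.mem_filter] at ht
    by_cases h0 : F u e = 0
    · simp only [h0, mul_zero]
    refine mul_left_eq_self₀.2 (Or.inl ?_)
    obtain ⟨g₀, hg₀⟩ := hsupp u ht.1.2 e ht.2 h0
    set x₀ : P := ⟨g₀ * u * g₀⁻¹, hg₀.mem⟩ with hx₀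
    have hb₀ : bel p M P e₀ x₀ = conjF g₀ e := bel_eq hM hmax hg₀
    -- the number of conjugating elements at a point of the class
    have hcount : ∀ x : P, ((Finset.univ.filter fun g : G => φ (g, x) = ⟨u, e⟩).card : ℂ) =
        if Fused p M P e₀ (x₀ : G) (x : G) then
          (Nat.card CG[Subgroup.zpowers (x : G)] : ℂ) else 0 := by
      intro x
      by_cases hex : ∃ g, φ (g, x) = ⟨u, e⟩
      · obtain ⟨g₁, hg₁⟩ := hex
        obtain ⟨hg1, hg2⟩ := Sigma.mk.inj_iff.1 hg₁
        have hg2' := eq_of_heq hg2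
        dsimp only at hg1 hg2'
        rw [if_pos]
        · have hfix : ∀ c : CG[Subgroup.zpowers (x : G)],
              conjF (c : G) (bel p M P e₀ x) = bel p M P e₀ x := fun c => funext fun z => by
            have := isInv_Bk (bel_mem_Bk hM hmax x.2) _
              (CG[Subgroup.zpowers (x : G)].inv_mem c.2) z
            simpa [conjF] using this
          congr 1
          rw [Nat.card_eq_fintype_card, ← Finset.card_univ]
          refine Finset.card_bij' (fun g hg => ⟨g₁⁻¹ * g, ?_⟩) (fun c _ => g₁ * (c : G))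
            (fun _ _ => Finset.mem_univ _) (fun c _ => ?_) (fun g _ => mul_inv_cancel_left g₁ g)
            (fun c _ => Subtype.ext (inv_mul_cancel_left g₁ (c : G)))
          · obtain ⟨e1, -⟩ := Sigma.mk.inj_iff.1 (Finset.mem_filter.1 hg).2
            dsimp only at e1
            refine mem_zpowers_centralizer.2 ?_
            calc (x : G) * (g₁⁻¹ * g) = g₁⁻¹ * (g₁ * x * g₁⁻¹) * g := by group
              _ = g₁⁻¹ * g * x := by rw [hg1, ← e1]; group
          · refine Finset.mem_filter.2 ⟨Finset.mem_univ _, Sigma.ext ?_ (heq_of_eq ?_)⟩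
            · show g₁ * (c : G) * x * (g₁ * (c : G))⁻¹ = u
              rw [← hg1, mul_assoc g₁ (c : G), ← mem_zpowers_centralizer.1 c.2]
              group
            · show conjF (g₁ * (c : G)) (bel p M P e₀ x) = e
              rw [← conjF_conjF, hfix, hg2']
        · have h : Fused p M P e₀ (x : G) (x₀ : G) := by
            refine ⟨g₀ * g₁, bel p M P e₀ x, below_bel hM hmax x.2, ?_, ?_⟩
            · rw [← conjF_conjF, hg2', show g₀ * g₁ * (x : G) * (g₀ * g₁)⁻¹ =
                g₀ * (g₁ * x * g₁⁻¹) * g₀⁻¹ by group, hg1]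
              exact hg₀
            · rw [hx₀]
              show _ = g₀ * u * g₀⁻¹
              rw [← hg1]; group
          exact h.symm
      · rw [if_neg, Finset.filter_eq_empty_iff.2 fun g _ h => hex ⟨g, h⟩, Finset.card_empty,
          Nat.cast_zero]
        rintro ⟨k, f, hf, hk, hkx⟩
        refine hex ⟨(k * g₀)⁻¹, Sigma.ext ?_ (heq_of_eq ?_)⟩
        · show (k * g₀)⁻¹ * (x : G) * (k * g₀)⁻¹⁻¹ = u
          rw [← hkx, hx₀]
          group
        · show conjF (k * g₀)⁻¹ (bel p M P e₀ x) = e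
          rw [hkx] at hk
          rw [bel_eq hM hmax hk, ← bel_eq hM hmax hf, hb₀, conjF_conjF, conjF_conjF,
            show (k * g₀)⁻¹ * k * g₀ = 1 by group, conjF_one]
    have hn : ∀ x : P, Fused p M P e₀ (x₀ : G) (x : G) →
        fusedSet p M P e₀ (x : G) = fusedSet p M P e₀ (x₀ : G) := fun x hx =>
      Finset.filter_congr fun y _ => ⟨fun h => hx.trans' hM hmax h,
        fun h => hx.symm.trans' hM hmax h⟩
    rw [Finset.sum_filter, Fintype.sum_prod_type_right]
    dsimp only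
    rw [Finset.sum_congr rfl (g := fun x : P => if Fused p M P e₀ (x₀ : G) (x : G) then
      ((fusedSet p M P e₀ (x₀ : G)).card : ℂ)⁻¹ else 0) fun x _ => ?_, ← Finset.sum_filter,
      Finset.sum_const, nsmul_eq_mul, show (Finset.univ.filter fun x : P =>
        Fused p M P e₀ (x₀ : G) (x : G)) = fusedSet p M P e₀ (x₀ : G) from rfl, mul_inv_cancel₀]
    · exact Nat.cast_ne_zero.2 (Finset.card_ne_zero.2 ⟨x₀, Finset.mem_filter.2
        ⟨Finset.mem_univ _, fused_refl hM hmax x₀.2⟩⟩)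
    · rw [← Finset.sum_filter, Finset.sum_const, nsmul_eq_mul, hcount]
      split_ifs with hx
      · simp only [hw]
        rw [hn x hx, mul_inv, ← mul_assoc,
          mul_inv_cancel₀ (Nat.cast_ne_zero.2 Nat.card_pos.ne'), one_mul]
      · rw [zero_mul]
  rw [← Finset.sum_congr rfl hfib, Finset.sum_congr rfl fun t _ => Finset.sum_mul ..]
  rw [Finset.sum_congr rfl (g := fun t => ∑ z ∈ Finset.univ.filter (fun z => φ z = t),
    w z.2 * F (φ z).1 (φ z).2) fun t _ => Finset.sum_congr rfl fun z hz => by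
      rw [(Finset.mem_filter.1 hz).2]]
  rw [Finset.sum_fiberwise_of_maps_to hφS, Fintype.sum_prod_type, Finset.sum_congr rfl
    (g := fun _ : G => ∑ x : P, w x * F (x : G) (bel p M P e₀ x))
    fun g _ => Finset.sum_congr rfl fun x _ => by
      simp only [φ]
      rw [hconj _ _ _ (hxp x) (bel_mem_Bk hM hmax x.2)],
    Finset.sum_const, Finset.card_univ, nsmul_eq_mul, Nat.card_eq_fintype_card (α := G)]
  congr 1
  refine Finset.sum_congr rfl fun x _ => ?_
  rw [hw, div_eq_inv_mul]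

open scoped Classical in
/-- Moving a weighted sum to a set of representatives. -/
theorem sum_fused_div (F : P → ℂ) (hF : ∀ x y : P, Fused p M P e₀ (x : G) (y : G) → F x = F y)
    (S : Finset P) :
    ∑ x ∈ Finset.univ.filter (fun x : P => ∃ y ∈ S, Fused p M P e₀ (x : G) (y : G)),
        F x / ((fusedSet p M P e₀ (x : G)).card : ℂ) =
      ∑ y ∈ S, F y / ((S.filter fun z : P => Fused p M P e₀ (y : G) (z : G)).card : ℂ) := by
  set n : P → ℂ := fun x => ((fusedSet p M P e₀ (x : G)).card : ℂ) with hn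
  set m : P → ℂ := fun y => ((S.filter fun z : P => Fused p M P e₀ (y : G) (z : G)).card : ℂ)
    with hm
  have hn0 : ∀ x : P, n x ≠ 0 := fun x => Nat.cast_ne_zero.2 (Finset.card_ne_zero.2
    ⟨x, Finset.mem_filter.2 ⟨Finset.mem_univ _, fused_refl hM hmax x.2⟩⟩)
  have hneq : ∀ x y : P, Fused p M P e₀ (x : G) (y : G) → n x = n y := fun x y hxy => by
    simp only [hn]
    congr 2
    exact Finset.filter_congr fun z _ => ⟨fun h => hxy.symm.trans' hM hmax h,
      fun h => hxy.trans' hM hmax h⟩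
  have h1 : ∀ y ∈ S, F y / m y = ∑ x ∈ fusedSet p M P e₀ (y : G), F x / n x / m y := fun y _ => by
    rw [Finset.sum_congr rfl (g := fun _ => F y / n y / m y) fun x hx => by
      rw [hF y x (Finset.mem_filter.1 hx).2, hneq y x (Finset.mem_filter.1 hx).2], Finset.sum_const,
      nsmul_eq_mul, ← mul_div_assoc, mul_div_cancel₀ _ (hn0 y)]
  rw [Finset.sum_congr rfl h1, Finset.sum_comm' (t' := Finset.univ.filter
    (fun x : P => ∃ y ∈ S, Fused p M P e₀ (x : G) (y : G)))
    (s' := fun x => S.filter fun y : P => Fused p M P e₀ (x : G) (y : G))]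
  · refine Finset.sum_congr rfl fun x hx => ?_
    obtain ⟨-, y, hyS, hxy⟩ := Finset.mem_filter.1 hx
    rw [Finset.sum_congr rfl (g := fun _ =>
      F x / n x / ((S.filter fun z : P => Fused p M P e₀ (x : G) (z : G)).card : ℂ)) fun z hz => by
        simp only [hm]
        congr 3
        exact Finset.filter_congr fun w _ =>
          ⟨fun h => (Finset.mem_filter.1 hz).2.trans' hM hmax h,
            fun h => (Finset.mem_filter.1 hz).2.symm.trans' hM hmax h⟩,
      Finset.sum_const, nsmul_eq_mul, mul_div_cancel₀]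
    exact Nat.cast_ne_zero.2 (Finset.card_ne_zero.2 ⟨y, Finset.mem_filter.2 ⟨hyS, hxy⟩⟩)
  · intro y x
    simp only [fusedSet, Finset.mem_filter, Finset.mem_univ, true_and]
    exact ⟨fun ⟨hy, h⟩ => ⟨⟨hy, h.symm⟩, y, hy, h.symm⟩, fun ⟨⟨hy, h⟩, _⟩ => ⟨hy, h.symm⟩⟩

theorem cVal_fused {x y : G} (h : Fused p M P e₀ x y) (χ ψ : Cfsg.IrrCharacter G) :
    cVal p M P e₀ x χ ψ = cVal p M P e₀ y χ ψ := by
  obtain ⟨g, e, h1, h2, rfl⟩ := h
  rw [cVal, cVal, bel_eq hM hmax h1, bel_eq hM hmax h2, card_zpowers_centralizer_conj,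
    BlockChar.Cyclic.sect_mul_conjF]

omit hM hmax in
theorem cVal_conj (x : G) (χ ψ : Cfsg.IrrCharacter G) :
    conj (cVal p M P e₀ x χ ψ) = cVal p M P e₀ x ψ χ := by
  simp only [cVal, map_mul, map_inv₀, map_natCast, map_sum, Complex.conj_conj]
  congr 1
  exact Finset.sum_congr rfl fun y _ => mul_comm _ _

omit hM hmax in
theorem cVal_self (x : G) (χ : Cfsg.IrrCharacter G) :
    cVal p M P e₀ x χ χ = (((Nat.card CG[Subgroup.zpowers x] : ℝ)⁻¹ * ∑ y ∈ regC p x,
      Complex.normSq (sect (χ : G → ℂ) x (bel p M P e₀ x) y) : ℝ) : ℂ) := by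
  simp only [cVal, Complex.ofReal_mul, Complex.ofReal_inv, Complex.ofReal_natCast,
    Complex.ofReal_sum, ← Complex.mul_conj]

omit hM hmax in
theorem cVal_self_nonneg (x : G) (χ : Cfsg.IrrCharacter G) :
    0 ≤ (cVal p M P e₀ x χ χ).re := by
  rw [cVal_self, Complex.ofReal_re]
  exact mul_nonneg (by positivity) (Finset.sum_nonneg fun _ _ => Complex.normSq_nonneg _)

omit hM hmax in
theorem cVal_row {x : G} {χ : Cfsg.IrrCharacter G} (h : (cVal p M P e₀ x χ χ).re = 0)
    (ψ : Cfsg.IrrCharacter G) : cVal p M P e₀ x χ ψ = 0 := by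
  rw [cVal_self, Complex.ofReal_re, mul_eq_zero, inv_eq_zero, Nat.cast_eq_zero] at h
  have h0 := (Finset.sum_eq_zero_iff_of_nonneg fun _ _ => Complex.normSq_nonneg _).1
    (h.resolve_left Nat.card_pos.ne')
  rw [cVal, Finset.sum_eq_zero fun y hy => ?_, mul_zero]
  rw [Complex.normSq_eq_zero.1 (h0 y hy), zero_mul]

theorem cVal_pos {x : G} (hx : x ∈ P) {χ : Cfsg.IrrCharacter G} (hχ : χ ∈ B)
    (h0 : Cfsg.blockHeight p B (χ : G → ℂ) = 0) : 0 < (cVal p M P e₀ x χ χ).re := by
  obtain ⟨f, hf, he⟩ := below_bel hM hmax hx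
  have hu : ∃ k, orderOf x = p ^ k := by
    haveI := Fact.mk hM.1
    obtain ⟨k, hk⟩ := IsPGroup.iff_orderOf.1 hmax.1.1.1 ⟨x, hx⟩
    exact ⟨k, by rwa [← Subgroup.orderOf_mk x hx]⟩
  obtain ⟨y, hy, hne⟩ := exists_sect_ne_zero_of_height_zero hM hχ h0 hu
    ((isBrauerPairOf_iff_of_subpairLE hM hf B).1 hmax.1)
  rw [he] at hne
  rw [cVal_self, Complex.ofReal_re]
  exact mul_pos (inv_pos.2 (Nat.cast_pos.2 Nat.card_pos))
    (Finset.sum_pos' (fun _ _ => Complex.normSq_nonneg _) ⟨y, hy, Complex.normSq_pos.2 hne⟩)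

open scoped Classical in
/-- The inner product of a twisted character with a character of the block. -/
theorem classInner_Phi_fused {W : G → (G → ℂ) → ℂ}
    (hW : ∀ u v e, W (v * u * v⁻¹) (conjF v e) = W u e) {lam : G → ℂ}
    (hlam : ∀ x e, Below p M P e₀ x e → W x e = lam x)
    {χ : Cfsg.IrrCharacter G} (hχ : χ ∈ B) (ψ : Cfsg.IrrCharacter G) :
    Cfsg.classInner (Phi p M W (χ : G → ℂ)) (ψ : G → ℂ) =
      ∑ x : P, lam x * cVal p M P e₀ x χ ψ / ((fusedSet p M P e₀ (x : G)).card : ℂ) := by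
  have h1 : ∀ g, Phi p M (fun _ _ => 1) (ψ : G → ℂ) g = (ψ : G → ℂ) g := fun g =>
    Phi_eq_self hM ψ g fun _ _ _ => rfl
  have h := sum_Phi_mul_conj hM W (fun _ _ => 1) χ ψ
  simp only [h1, map_one, mul_one] at h
  rw [sum_subsections_fused hM hmax (fun u e => W u e * ∑ y ∈ regC p u,
    sect (χ : G → ℂ) u e y * conj (sect (ψ : G → ℂ) u e y))
    (fun u v e _ _ => by rw [hW, BlockChar.Cyclic.sect_mul_conjF])
    fun u hu e he hne => ?_] at h
  · rw [Cfsg.classInner]
    simp only [starRingEnd_apply] at h ⊢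
    rw [h, inv_mul_cancel_left₀ (Nat.cast_ne_zero.2 Nat.card_pos.ne')]
    refine Finset.sum_congr rfl fun x _ => ?_
    rw [hlam _ _ (below_bel hM hmax x.2), cVal]
    simp only [starRingEnd_apply]
    ring
  · obtain ⟨y, hy, hy'⟩ := Finset.exists_ne_zero_of_sum_ne_zero (right_ne_zero_of_mul hne)
    obtain ⟨b, hb, rfl⟩ := mem_Bk.1 he
    exact (exists_below_iff hM hmax b).2
      (pair_of_sect_ne_zero hM hmax.1.2.1 hχ hu hb hy (left_ne_zero_of_mul hy'))

end Cfsg.Agent.Blocks.Tame2
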