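import Cfsg.Agent.Blocks.Tame2.Shape
import Cfsg.Agent.Blocks.Tame2.Orbit
import Cfsg.Agent.BlockChar.Tame.Fusion
import Cfsg.Agent.Blocks.Star.NilpotentMain

/-!
# The local subgroup of the rotations

The elements fixing or inverting the element of order four among the rotations contain the
centralizers of all rotations of order at least four; the block there with the same maximal pair is
nilpotent.
-/

set_option autoImplicit false

namespace Cfsg.Agent.Blocks.Tame2

open Cfsg.Agent Cfsg.Agent.Blocks Cfsg.Agent.Blocks.Star Cfsg.Agent.BrauerPairs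

universe u

attribute [local instance] Fintype.ofFinite

variable {G : Type u} [Group G]

local notation "CG[" Q "]" => Subgroup.centralizer ((Q : Subgroup G) : Set G)
local notation "sbc" => Cfsg.subgroupBlockCoeff

/-- Inclusions of pairs restrict to a subgroup containing the centralizer of the smaller group. -/
theorem subpairLE_res [Finite G] {p : ℕ} {M : Ideal Cfsg.AlgInt} (hM : Cfsg.IsPModular p M)
    {L P : Subgroup G} {e₀ : Set (Cfsg.IrrCharacter CG[P])} (hPL : P ≤ L) (hCP : CG[P] ≤ L)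
    {Q : Subgroup G} {f : Set (Cfsg.IrrCharacter CG[Q])} (h : Cfsg.SubpairLE p M Q f P e₀)
    (hQL : Q ≤ L) (hCQ : CG[Q] ≤ L) :
    Cfsg.SubpairLE p M (Q.subgroupOf L) (resBlock hQL hCQ f) (P.subgroupOf L)
      (resBlock hPL hCP e₀) := by
  have key : ∀ a : Cfsg.BrauerPairIdx G,
      Relation.ReflTransGen (Cfsg.NormalSubpairRel p M) a ⟨P, e₀⟩ →
      ∀ (h1 : a.1 ≤ L) (h2 : CG[a.1] ≤ L), Relation.ReflTransGen (Cfsg.NormalSubpairRel p M)
        (⟨a.1.subgroupOf L, resBlock h1 h2 a.2⟩ : Cfsg.BrauerPairIdx L)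
        ⟨P.subgroupOf L, resBlock hPL hCP e₀⟩ := by
    intro a ha
    induction ha using Relation.ReflTransGen.head_induction_on with
    | refl => exact fun _ _ => Relation.ReflTransGen.refl
    | @head a c hac hcb ih =>
      intro h1 h2
      have hc1 : c.1 ≤ L := (BlockChar.le_of_subpairLE hcb).trans hPL
      have hc2 : CG[c.1] ≤ L := (centralizer_mono hac.2.2.1).trans h2
      exact Relation.ReflTransGen.head
        (show Cfsg.NormalSubpairRel p M ⟨a.1.subgroupOf L, resBlock h1 h2 a.2⟩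
          ⟨c.1.subgroupOf L, resBlock hc1 hc2 c.2⟩ from Dihedral.isNormalSubpair_res hM h1 h2 hc1 hc2 hac)
        (ih hc1 hc2)
  exact key ⟨Q, f⟩ h hQL hCQ

theorem zpowers_subgroupOf {L : Subgroup G} {x : G} (hx : x ∈ L) :
    (Subgroup.zpowers x).subgroupOf L = Subgroup.zpowers (⟨x, hx⟩ : L) := by
  ext g
  refine Subgroup.mem_subgroupOf.trans ⟨fun hg => ?_, fun hg => ?_⟩
  · obtain ⟨i, hi⟩ := hg
    exact ⟨i, Subtype.ext (by simpa using hi)⟩
  · obtain ⟨i, hi⟩ := hg
    exact ⟨i, by simpa using congrArg Subtype.val hi⟩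

/-- Subsections below the maximal pair restrict to a subgroup containing their centralizers. -/
theorem below_res [Finite G] {p : ℕ} {M : Ideal Cfsg.AlgInt} (hM : Cfsg.IsPModular p M)
    {L P : Subgroup G} {e₀ : Set (Cfsg.IrrCharacter CG[P])} (hPL : P ≤ L) (hCP : CG[P] ≤ L)
    {x : G} {e : G → ℂ} (h : Below p M P e₀ x e) (hxL : x ∈ L)
    (hC : CG[Subgroup.zpowers x] ≤ L) :
    Below p M (P.subgroupOf L) (resBlock hPL hCP e₀) (⟨x, hxL⟩ : L) fun g : L => e (g : G) := by
  obtain ⟨f, hf, rfl⟩ := h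
  exact below_of_pair (a := ⟨(Subgroup.zpowers x).subgroupOf L,
    resBlock (Subgroup.zpowers_le.2 hxL) hC f⟩) (zpowers_subgroupOf hxL)
    (subpairLE_res hM hPL hCP hf _ hC) fun g => sbc_resBlock _ _ _ g

variable [Finite G] {M : Ideal Cfsg.AlgInt} {B : Set (Cfsg.IrrCharacter G)} {D : Subgroup G}
  {e₀ : Set (Cfsg.IrrCharacter (Subgroup.centralizer (D : Set G)))} {a : ℕ} {s : ℤ} {u t : G}

/-- The elements fixing or inverting the rotation of order four. -/
abbrev LL (a : ℕ) (u : G) : Subgroup G := BlockChar.Tame.pmSubgroup (u ^ 2 ^ a)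

omit [Finite G] in
theorem le_LL (sh : Shape D a s u t) : D ≤ LL a u := fun _ hq => sh.v_conj hq

omit [Finite G] in
theorem centralizer_le_LL (sh : Shape D a s u t) : CG[D] ≤ LL a u := fun c hc =>
  Or.inl (by rw [← Subgroup.mem_centralizer_iff.1 hc _ sh.v_mem, mul_inv_cancel_right])

/-- A rotation other than the identity and the involution. -/
def IsRot (a : ℕ) (u x : G) : Prop :=
  x ∈ Subgroup.zpowers u ∧ x ≠ 1 ∧ x ≠ u ^ 2 ^ (a + 1)

theorem centralizer_rot_le_LL (sh : Shape D a s u t) {x : G} (hx : IsRot a u x) :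
    CG[Subgroup.zpowers x] ≤ LL a u := fun c hc => Or.inl (by
  have h := Subgroup.mem_centralizer_iff.1 hc _ (sh.v_mem_zpowers hx.1 hx.2.1 hx.2.2)
  rw [← h, mul_inv_cancel_right])

omit [Finite G] in
theorem rot_mem_LL (sh : Shape D a s u t) {x : G} (hx : IsRot a u x) : x ∈ LL a u :=
  le_LL sh (sh.zpowers_le hx.1)

/-- The block of the local subgroup with the same maximal pair. -/
theorem exists_maximal_LL (hM : Cfsg.IsPModular 2 M)
    (hmax : Cfsg.IsMaximalBrauerPair 2 M B D e₀) (sh : Shape D a s u t) :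
    ∃ b : Set (Cfsg.IrrCharacter (LL a u)), Cfsg.IsMaximalBrauerPair 2 M b
      (D.subgroupOf (LL a u)) (resBlock (le_LL sh) (centralizer_le_LL sh) e₀) := by
  have hp : Cfsg.IsBrauerPair 2 M (D.subgroupOf (LL a u))
      (resBlock (le_LL sh) (centralizer_le_LL sh) e₀) :=
    ⟨hmax.1.1.1.comap_of_injective _ (Subgroup.subtype_injective _),
      isPBlock_resBlock _ _ hmax.1.1.2⟩
  obtain ⟨b, hb⟩ := exists_isBrauerPairOf hM hp
  exact ⟨b, maximal_down hM hmax (le_LL sh) (centralizer_le_LL sh) hb⟩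

/-- That block is nilpotent. -/
theorem nilpotent_LL (hM : Cfsg.IsPModular 2 M) (sh : Shape D a s u t)
    {b : Set (Cfsg.IrrCharacter (LL a u))}
    (hmaxL : Cfsg.IsMaximalBrauerPair 2 M b (D.subgroupOf (LL a u))
      (resBlock (le_LL sh) (centralizer_le_LL sh) e₀)) :
    Cfsg.IsNilpotentBlock 2 M b := by
  haveI := Fact.mk hM.1
  refine ⟨hmaxL.1.2.1, fun R r hR x hxN hst hreg => ?_⟩
  obtain ⟨h, hh⟩ := exists_conj_subpairLE hM hmaxL hR
  have hle : R.map (MulAut.conj h).toMonoidHom ≤ D.subgroupOf (LL a u) :=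
    BlockChar.le_of_subpairLE hh
  set y : LL a u := h * x * h⁻¹ with hy
  have hreg' : ¬ 2 ∣ orderOf (y : G) := by
    rw [Subgroup.orderOf_coe, hy, show orderOf (h * x * h⁻¹) = orderOf x from
      orderOf_injective (MulAut.conj h).toMonoidHom (MulAut.conj h).injective x]
    exact hreg
  have hodd : Odd (orderOf (y : G)) :=
    Nat.not_even_iff_odd.1 fun he => hreg' (even_iff_two_dvd.1 he)
  -- it fixes the element of order four
  have hv : (y : G) * u ^ 2 ^ a * (y : G)⁻¹ = u ^ 2 ^ a := by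
    rcases y.2 with e | e
    · exact e
    exfalso
    have hiter : ∀ n : ℕ, (y : G) ^ n * u ^ 2 ^ a * ((y : G) ^ n)⁻¹ =
        if Even n then u ^ 2 ^ a else (u ^ 2 ^ a)⁻¹ := by
      intro n
      induction n with
      | zero => simp
      | succ n ih =>
        rw [show (y : G) ^ (n + 1) * u ^ 2 ^ a * ((y : G) ^ (n + 1))⁻¹ =
          (y : G) * ((y : G) ^ n * u ^ 2 ^ a * ((y : G) ^ n)⁻¹) * (y : G)⁻¹ by
            rw [pow_succ']; group, ih]
        by_cases hn : Even n
        · rw [if_pos hn, e, if_neg (by simp [parity_simps, hn])]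
        · rw [if_neg hn, ← conj_inv, e, inv_inv, if_pos (by simp [parity_simps, hn])]
    have h1 := hiter (orderOf (y : G))
    rw [if_neg (Nat.not_even_iff_odd.2 hodd), pow_orderOf_eq_one, one_mul, inv_one, mul_one] at h1
    have h2 : u ^ 2 ^ (a + 1) = 1 := by
      rw [← sh.v_sq]; exact mul_eq_one_iff_eq_inv.2 h1
    exact sh.z_ne_one h2
  set Q := (R.map (MulAut.conj h).toMonoidHom).map (LL a u).subtype with hQ
  have hQD : Q ≤ D := by
    rintro _ ⟨q, hq, rfl⟩
    exact Subgroup.mem_subgroupOf.1 (hle hq)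
  have hyR : y ∈ Subgroup.normalizer ((R.map (MulAut.conj h).toMonoidHom : Subgroup (LL a u)) :
      Set (LL a u)) := (mem_normalizer_map_conj_iff R h x).1 hxN
  have hyQ : ∀ q ∈ Q, (y : G) * q * (y : G)⁻¹ ∈ Q := by
    rintro _ ⟨r', hr', rfl⟩
    exact ⟨y * r' * y⁻¹, (Subgroup.mem_normalizer_iff.1 hyR r').1 hr', rfl⟩
  refine Subgroup.mem_centralizer_iff.2 fun r' hr' => ?_
  have h1 := sh.mem_centralizer_of_odd hQD hodd hyQ hv ((h * r' * h⁻¹ : LL a u) : G)
    ⟨h * r' * h⁻¹, ⟨r', hr', rfl⟩, rfl⟩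
  have h2 : y * (h * r' * h⁻¹) * y⁻¹ = h * r' * h⁻¹ := Subtype.ext h1
  have e1 : r' * x = h⁻¹ * (h * r' * h⁻¹ * y) * h := by rw [hy]; group
  have e2 : x * r' = h⁻¹ * (y * (h * r' * h⁻¹)) * h := by rw [hy]; group
  rw [e1, e2, mul_inv_eq_iff_eq_mul.1 h2]

/-- The pair of a rotation is normal in the maximal pair. -/
theorem fusion_rot (hM : Cfsg.IsPModular 2 M) (hmax : Cfsg.IsMaximalBrauerPair 2 M B D e₀)
    (sh : Shape D a s u t) {x y : G} (hx : x ∈ Subgroup.zpowers u) (hy : y ∈ Subgroup.zpowers u)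
    (h : Fused 2 M D e₀ x y) : y = x ∨ y = t * x * t⁻¹ := by
  haveI := Fact.mk hM.1
  obtain ⟨g, e, hb, hg, rfl⟩ := h
  have hord : orderOf (g * x * g⁻¹) = orderOf x :=
    orderOf_injective (MulAut.conj g).toMonoidHom (MulAut.conj g).injective x
  set Q := Subgroup.zpowers x with hQ
  have hQeq : Subgroup.zpowers (g * x * g⁻¹) = Q := le_antisymm
    (Subgroup.zpowers_le.2 (Dihedral.mem_zpowers_of_orderOf_eq hx hy hord))
    (Subgroup.zpowers_le.2 (Dihedral.mem_zpowers_of_orderOf_eq hy hx hord.symm))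
  have hgN : g ∈ Subgroup.normalizer (Q : Set G) := by
    have hmap : Q.map (MulAut.conj g).toMonoidHom = Q := by
      rw [hQ, map_zpowers_conj, hQeq]
    refine Subgroup.mem_normalizer_iff.2 fun q => ⟨fun hq => hmap ▸ ⟨q, hq, rfl⟩, fun hq => ?_⟩
    rw [← hmap] at hq
    obtain ⟨r, hr, hre⟩ := hq
    rwa [← (MulAut.conj g).injective hre]
  obtain ⟨F, hF⟩ := exists_isBlockFusionSystemOn hM hmax
  have hQD : Q ≤ D := Subgroup.zpowers_le.2 (sh.zpowers_le hx)
  set α := Q.normalizerMonoidHom ⟨g, hgN⟩ with hα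
  have hαg : ∀ q ∈ Q, FusSys.apl α q = g * q * g⁻¹ := fun q hq =>
    FusSys.apl_normalizerMonoidHom ⟨g, hgN⟩ hq
  have hαF : α ∈ F.autGroup Q := by
    refine Subgroup.subset_closure ?_
    obtain ⟨b, hb, hbe⟩ := hb
    rw [← hbe] at hg
    exact (hF.2 _ _).2 ⟨hQD, g, fun q => rfl, BlockChar.le_of_subpairLE ((below_conj_iff b).1 hg),
      b, hb, (below_conj_iff b).1 hg⟩
  have hfn : F.IsFullyNormalized Q := by
    refine ⟨hQD, fun R _ => Subgroup.card_le_of_le ?_⟩
    exact fun q hq => ⟨hq.1, sh.zpowers_normal hq.1 hx⟩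
  obtain ⟨-, S, hS⟩ := FusSys.fullyAutomized_of_fullyNormalized hmax.1.1.1
    (isSaturated_blockFusion hM hmax hF) hfn
  have hAut : IsPGroup 2 (MulAut Q) := by
    obtain ⟨k, hk⟩ := sh.exists_orderOf (sh.zpowers_le hx)
    refine IsPGroup.of_card (n := k - 1) ?_
    rw [IsCyclic.card_mulAut, Nat.card_zpowers, hk]
    rcases Nat.eq_zero_or_pos k with rfl | hk0
    · simp
    · rw [Nat.totient_prime_pow Nat.prime_two hk0]; simp
  have htop : (S : Subgroup (F.autGroup Q)) = ⊤ :=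
    S.3 ((hAut.to_subgroup (F.autGroup Q)).to_subgroup ⊤) le_top |>.symm
  have hmem : (⟨α, hαF⟩ : F.autGroup Q) ∈ (S : Subgroup (F.autGroup Q)) := by
    rw [htop]; exact Subgroup.mem_top _
  rw [hS] at hmem
  obtain ⟨d, hd, -, hdα⟩ := FusSys.mem_autInducedBy_iff.1 (Subgroup.mem_subgroupOf.1 hmem)
  have h2 := hdα x (Subgroup.mem_zpowers x)
  rw [hαg x (Subgroup.mem_zpowers x)] at h2
  rcases sh.conj_mem_pow hd hx with e1 | e1
  · exact Or.inl (h2.trans e1)
  · exact Or.inr (h2.trans e1)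

end Cfsg.Agent.Blocks.Tame2
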