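import Cfsg.Agent.Blocks.Tame2.Quotient

/-!
# The invariants of blocks with quaternion or semidihedral defect group

The centralizer of the involution of the defect group has a block with the same fusion of elements
of order four, which bounds the rank of the subsection at the involution.
-/

set_option autoImplicit false

namespace Cfsg.Agent.Blocks.Tame2

open Cfsg.Agent Cfsg.Agent.Blocks Cfsg.Agent.Blocks.Star Cfsg.Agent.BrauerPairs

universe u

attribute [local instance] Fintype.ofFinite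

variable {G : Type u} [Group G] [Finite G] {M : Ideal Cfsg.AlgInt}
  {B : Set (Cfsg.IrrCharacter G)} {D : Subgroup G}
  {e₀ : Set (Cfsg.IrrCharacter (Subgroup.centralizer (D : Set G)))} {a : ℕ} {s : ℤ} {u t : G}

local notation "CG[" Q "]" => Subgroup.centralizer ((Q : Subgroup G) : Set G)
local notation "sbc" => Cfsg.subgroupBlockCoeff

omit [Finite G] in
/-- The shape inside a subgroup containing the defect group. -/
theorem Shape.subgroupOf (h : Shape D a s u t) {H : Subgroup G} (hDH : D ≤ H) :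
    Shape (D.subgroupOf H) a s (⟨u, hDH h.hu⟩ : H) ⟨t, hDH h.ht⟩ := by
  refine ⟨Subgroup.mem_subgroupOf.2 h.hu, by rw [Subgroup.orderOf_mk]; exact h.hord,
    Subgroup.mem_subgroupOf.2 h.ht, fun hc => h.htn ?_, ?_, Subtype.ext ?_, ?_⟩
  · obtain ⟨i, hi⟩ := hc
    exact ⟨i, by simpa using congrArg Subtype.val hi⟩
  · rw [Nat.card_congr (Subgroup.subgroupOfEquivOfLe hDH).toEquiv, h.hcard]
  · simpa using h.hrel
  · exact h.hcase.imp (fun ⟨h1, h2⟩ => ⟨h1, Subtype.ext (by simpa using h2)⟩)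
      fun ⟨h1, h2, h3⟩ => ⟨h1, h2, Subtype.ext (by simpa using h3)⟩

omit [Finite G] in
/-- The odd class squares to the involution. -/
theorem Shape.sq_ut (h : Shape D a s u t) : u * t * (u * t) = u ^ 2 ^ (a + 1) := by
  rw [show u * t * (u * t) = u * (t * u * t⁻¹) * (t * t) by group, h.hrel]
  rcases h.hcase with ⟨rfl, e⟩ | ⟨-, rfl, e⟩
  · rw [e]; group
  · rw [e, mul_one, ← zpow_one_add, ← zpow_natCast]
    congr 1
    push_cast
    ring

/-- Elements with the involution among their powers are fused in its centralizer exactly when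
they are fused. -/
theorem fused_res (hM : Cfsg.IsPModular 2 M) (hmax : Cfsg.IsMaximalBrauerPair 2 M B D e₀) {z : G}
    (hDH : D ≤ CG[Subgroup.zpowers z]) (hCH : CG[D] ≤ CG[Subgroup.zpowers z])
    {bH : Set (Cfsg.IrrCharacter CG[Subgroup.zpowers z])}
    (hmaxH : Cfsg.IsMaximalBrauerPair 2 M bH (D.subgroupOf CG[Subgroup.zpowers z])
      (resBlock hDH hCH e₀))
    {x y : G} (hx : x ∈ D) (hy : y ∈ D) (hxz : x * x = z) (hyz : y * y = z) :
    Fused 2 M (D.subgroupOf CG[Subgroup.zpowers z]) (resBlock hDH hCH e₀)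
      (⟨x, hDH hx⟩ : CG[Subgroup.zpowers z]) ⟨y, hDH hy⟩ ↔ Fused 2 M D e₀ x y := by
  have hsub : ∀ {w : G}, w * w = z → CG[Subgroup.zpowers w] ≤ CG[Subgroup.zpowers z] :=
    fun {w} hw => centralizer_mono (Subgroup.zpowers_le.2 (by
      rw [← hw]; exact Subgroup.mul_mem _ (Subgroup.mem_zpowers w) (Subgroup.mem_zpowers w)))
  have hbx := below_res hM hDH hCH (below_bel hM hmax hx) (hDH hx) (hsub hxz)
  have hby := below_res hM hDH hCH (below_bel hM hmax hy) (hDH hy) (hsub hyz)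
  constructor
  · rintro ⟨g, e, h1, h2, h3⟩
    have hgxy : (g : G) * x * (g : G)⁻¹ = y := by simpa using congrArg Subtype.val h3
    rw [h1.unique hM hmaxH hbx, h3] at h2
    have hfun : conjF (g : G) (bel 2 M D e₀ x) = bel 2 M D e₀ y := by
      have hBk : conjF (g : G) (bel 2 M D e₀ x) ∈ Bk M y :=
        hgxy ▸ conjF_mem_Bk (bel_mem_Bk hM hmax hx) (g : G)
      funext w
      by_cases hw : w ∈ CG[Subgroup.zpowers y]
      · exact congrFun (h2.unique hM hmaxH hby) ⟨w, hsub hyz hw⟩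
      · rw [apply_Bk_of_notMem hBk hw, apply_Bk_of_notMem (bel_mem_Bk hM hmax hy) hw]
    refine ⟨g, bel 2 M D e₀ x, below_bel hM hmax hx, ?_, hgxy⟩
    rw [hgxy, hfun]
    exact below_bel hM hmax hy
  · rintro ⟨g, e, h1, h2, h3⟩
    have hgz : g * z * g⁻¹ = z := by
      conv_lhs => rw [← hxz]
      rw [show g * (x * x) * g⁻¹ = g * x * g⁻¹ * (g * x * g⁻¹) by group, h3, hyz]
    have hgH : g ∈ CG[Subgroup.zpowers z] :=
      mem_zpowers_centralizer.2 (mul_inv_eq_iff_eq_mul.1 hgz).symm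
    refine ⟨⟨g, hgH⟩, _, below_res hM hDH hCH h1 (hDH hx) (hsub hxz), ?_, Subtype.ext h3⟩
    have h4 := below_res hM hDH hCH h2 (hDH (h3.symm ▸ hy : g * x * g⁻¹ ∈ D))
      (hsub (by rw [h3, hyz]))
    exact h4

omit [Finite G] in
theorem Shape.centralizer_le (sh : Shape D a s u t) :
    D ≤ CG[Subgroup.zpowers (u ^ 2 ^ (a + 1))] :=
  fun _ hq => mem_zpowers_centralizer.2 (sh.z_comm hq)

/-- The block of the centralizer of the involution has the given maximal pair. -/
theorem maximal_involution (hM : Cfsg.IsPModular 2 M)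
    (hmax : Cfsg.IsMaximalBrauerPair 2 M B D e₀) (sh : Shape D a s u t)
    {b : Set (Cfsg.IrrCharacter CG[Subgroup.zpowers (u ^ 2 ^ (a + 1))])}
    (hb : Cfsg.SubpairLE 2 M (Subgroup.zpowers (u ^ 2 ^ (a + 1))) b D e₀) :
    Cfsg.IsMaximalBrauerPair 2 M b
      (D.subgroupOf CG[Subgroup.zpowers (u ^ 2 ^ (a + 1))])
      (resBlock sh.centralizer_le (centralizer_mono (Subgroup.zpowers_le.2 sh.z_mem)) e₀) := by
  obtain ⟨g, hg, hgle⟩ := exists_normalSubpair_between hM hmax.1.1 hb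
    (Subgroup.zpowers_le.2 sh.z_mem) le_rfl
    fun q hq => sh.zpowers_normal hq (Subgroup.npow_mem_zpowers u _)
  rw [(existsUnique_subpairLE hM hmax.1.1 (le_refl D)).unique hgle
    Relation.ReflTransGen.refl] at hg
  exact BlockChar.Cyclic.maximal_local hM hmax hg _ _

open scoped Classical in
/-- The classes outside the rotations in the centralizer of the involution. -/
theorem count_involution (hM : Cfsg.IsPModular 2 M)
    (hmax : Cfsg.IsMaximalBrauerPair 2 M B D e₀) (sh : Shape D a s u t)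
    {bH : Set (Cfsg.IrrCharacter CG[Subgroup.zpowers (u ^ 2 ^ (a + 1))])}
    (hmaxH : Cfsg.IsMaximalBrauerPair 2 M bH
      (D.subgroupOf CG[Subgroup.zpowers (u ^ 2 ^ (a + 1))])
      (resBlock sh.centralizer_le (centralizer_mono (Subgroup.zpowers_le.2 sh.z_mem)) e₀)) :
    rCount M (D.subgroupOf CG[Subgroup.zpowers (u ^ 2 ^ (a + 1))])
        (resBlock sh.centralizer_le (centralizer_mono (Subgroup.zpowers_le.2 sh.z_mem)) e₀) a
        (⟨u, sh.centralizer_le sh.hu⟩ : CG[Subgroup.zpowers (u ^ 2 ^ (a + 1))])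
        ⟨t, sh.centralizer_le sh.ht⟩ =
      rCount M D e₀ a u t + zCount M D e₀ a u t := by
  set z := u ^ 2 ^ (a + 1) with hzdef
  set H := CG[Subgroup.zpowers z] with hH
  have hDH : D ≤ H := sh.centralizer_le
  set u' : H := ⟨u, hDH sh.hu⟩ with hu'
  set t' : H := ⟨t, hDH sh.ht⟩ with ht'
  have sh' : Shape (D.subgroupOf H) a s u' t' := sh.subgroupOf hDH
  have key : ∀ x (hx : x ∈ D), x ∉ Subgroup.zpowers u →
      ((if InU M (D.subgroupOf H) (resBlock sh.centralizer_le
          (centralizer_mono (Subgroup.zpowers_le.2 sh.z_mem)) e₀) a u' (⟨x, hDH hx⟩ : H)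
        then 1 else 0 : ℕ)) =
      (if InU M D e₀ a u x then 1 else 0) + if Fused 2 M D e₀ x z then 1 else 0 := by
    intro x hx hxu
    have hxu' : (⟨x, hDH hx⟩ : H) ∉ Subgroup.zpowers u' := fun hc => hxu (by
      obtain ⟨i, hi⟩ := hc
      exact ⟨i, by simpa [hu'] using congrArg Subtype.val hi⟩)
    set x' : H := ⟨x, hDH hx⟩ with hx'
    have hnoz : ¬ Fused 2 M (D.subgroupOf H) (resBlock sh.centralizer_le
        (centralizer_mono (Subgroup.zpowers_le.2 sh.z_mem)) e₀) x' (u' ^ 2 ^ (a + 1)) := by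
      rintro ⟨g, e, -, -, hg⟩
      have h1 : (g : G) * x * (g : G)⁻¹ = z := by simpa [hu', hx', hzdef] using congrArg Subtype.val hg
      have h2 : (g : G) * z * (g : G)⁻¹ = z := by
        rw [← mem_zpowers_centralizer.1 g.2, mul_inv_cancel_right]
      exact sh.ne_z_outside hxu ((MulAut.conj (g : G)).injective (h1.trans h2.symm))
    have hiffH : InU M (D.subgroupOf H) (resBlock sh.centralizer_le
        (centralizer_mono (Subgroup.zpowers_le.2 sh.z_mem)) e₀) a u' x' ↔
        ¬ Fused 2 M (D.subgroupOf H) (resBlock sh.centralizer_le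
          (centralizer_mono (Subgroup.zpowers_le.2 sh.z_mem)) e₀) x' (u' ^ 2 ^ a) :=
      ⟨fun h => h.2.2 _ (isRot_v sh'), fun h => by
        by_contra hn
        exact (not_inU hM hmaxH sh' hxu' hn).elim hnoz h⟩
    have hiffG : InU M D e₀ a u x ↔ ¬ Fused 2 M D e₀ x z ∧ ¬ Fused 2 M D e₀ x (u ^ 2 ^ a) :=
      ⟨fun h => ⟨h.2.1, h.2.2 _ (isRot_v sh)⟩, fun h => by
        by_contra hn
        exact (not_inU hM hmax sh hxu hn).elim h.1 h.2⟩
    have hsame : Fused 2 M (D.subgroupOf H) (resBlock sh.centralizer_le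
        (centralizer_mono (Subgroup.zpowers_le.2 sh.z_mem)) e₀) x' (u' ^ 2 ^ a) ↔
        Fused 2 M D e₀ x (u ^ 2 ^ a) := by
      rcases sh.sq_outside hx hxu with hxx | hxx
      · have h2 : orderOf x ∣ 2 := orderOf_dvd_of_pow_eq_one (by rw [pow_two, hxx])
        have hle := Nat.le_of_dvd two_pos h2
        refine ⟨fun h => ?_, fun h => ?_⟩
        · exfalso
          have h3 := h.orderOf_eq
          rw [sh'.orderOf_v, hx', Subgroup.orderOf_mk] at h3
          omega
        · exfalso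
          have h3 := h.orderOf_eq
          rw [sh.orderOf_v] at h3
          omega
      · have e : u' ^ 2 ^ a = (⟨u ^ 2 ^ a, hDH sh.v_mem⟩ : H) := Subtype.ext (by simp [hu'])
        rw [e, hx']
        exact fused_res hM hmax _ _ hmaxH hx sh.v_mem hxx sh.v_sq
    have hexcl : Fused 2 M D e₀ x z → ¬ Fused 2 M D e₀ x (u ^ 2 ^ a) := fun h1 h2 => by
      have h := (h1.symm.trans' hM hmax h2).orderOf_eq
      rw [sh.orderOf_v, hzdef, sh.orderOf_z] at h
      omega
    rw [hiffH, hsame, hiffG]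
    by_cases h1 : Fused 2 M D e₀ x z <;> by_cases h2 : Fused 2 M D e₀ x (u ^ 2 ^ a) <;>
      simp [h1, h2]
    exact hexcl h1 h2
  have k1 := key t sh.ht sh.htn
  have k2 := key (u * t) (D.mul_mem sh.hu sh.ht) (by simpa using sh.not_mem_pow_mul 1)
  rw [rCount, rCount, zCount]
  have e : u' * t' = (⟨u * t, hDH (D.mul_mem sh.hu sh.ht)⟩ : H) := Subtype.ext (by simp [hu', ht'])
  rw [e, ht', k1, k2]
  ring

open scoped Classical in
/-- At most one class outside the rotations is fused to the involution. -/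
theorem zCount_le (sh : Shape D a s u t) : zCount M D e₀ a u t ≤ 1 ∧
    ((s = -1 ∧ t * t = u ^ 2 ^ (a + 1)) → zCount M D e₀ a u t = 0) := by
  have h1 : ¬ Fused 2 M D e₀ (u * t) (u ^ 2 ^ (a + 1)) := fun h => by
    have h2 := sq_of_fused_z sh h
    rw [sh.sq_ut] at h2
    exact sh.z_ne_one h2
  refine ⟨by rw [zCount, if_neg h1]; split_ifs <;> norm_num, fun hQ => ?_⟩
  rw [zCount, if_neg h1, if_neg]
  intro h
  have h2 := sq_of_fused_z sh h
  rw [hQ.2] at h2
  exact sh.z_ne_one h2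

open scoped Classical in
/-- In the semidihedral case the class of involutions is fused to the central involution or to
nothing among the rotations. -/
theorem one_le_count (hM : Cfsg.IsPModular 2 M)
    (hmax : Cfsg.IsMaximalBrauerPair 2 M B D e₀) (sh : Shape D a s u t) (htt : t * t = 1) :
    1 ≤ rCount M D e₀ a u t + zCount M D e₀ a u t := by
  by_cases h : Fused 2 M D e₀ t (u ^ 2 ^ (a + 1))
  · rw [zCount, if_pos h]; omega
  · have hU : InU M D e₀ a u t := by
      by_contra hn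
      rcases not_inU hM hmax sh sh.htn hn with h' | h'
      · exact h h'
      · have h2 := h'.orderOf_eq
        have hle := Nat.le_of_dvd two_pos
          (orderOf_dvd_of_pow_eq_one (x := t) (n := 2) (by rw [pow_two, htt]))
        rw [sh.orderOf_v] at h2
        omega
    rw [rCount, if_pos hU]; omega

attribute [local instance 2000] Dihedral.subFintype

open scoped Classical in
/-- The invariants of a block with quaternion or semidihedral defect group. -/
theorem invariants (hM : Cfsg.IsPModular 2 M) (hmax : Cfsg.IsMaximalBrauerPair 2 M B D e₀)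
    (sh : Shape D a s u t) : ∃ Q r c : ℕ,
    (a ≠ 0 → 1 ≤ Q) ∧ Cfsg.blockRank 2 B = Q + c ∧ 1 ≤ Cfsg.blockRank 2 B ∧ Q + r + c ≤ 3 ∧
    c ≤ 1 ∧ ((s = -1 ∧ t * t = u ^ 2 ^ (a + 1)) → c = 0) ∧ (t * t = 1 → 1 ≤ r + c) ∧
    Nat.card B = 2 ^ (a + 1) + 2 + Q ∧
    Nat.card {χ : Cfsg.IrrCharacter G // χ ∈ B ∧ Cfsg.blockHeight 2 B (χ : G → ℂ) = 0} = 4 ∧
    (∀ χ ∈ B, Cfsg.blockHeight 2 B (χ : G → ℂ) = 0 ∨ Cfsg.blockHeight 2 B (χ : G → ℂ) = 1 ∨
      Cfsg.blockHeight 2 B (χ : G → ℂ) = a + 1) ∧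
    (a ≠ 0 → Nat.card {χ : Cfsg.IrrCharacter G //
      χ ∈ B ∧ Cfsg.blockHeight 2 B (χ : G → ℂ) = 1} = 2 ^ (a + 1) - 1) := by
  haveI : NeZero (2 ^ (a + 2)) := ⟨by positivity⟩
  obtain ⟨Z⟩ := exists_nil hM hmax sh
  obtain ⟨C⟩ := exists_cert Z
  obtain ⟨bz, hbz, hlz⟩ := C.hlz
  have hmaxH := maximal_involution hM hmax sh hbz
  set H := CG[Subgroup.zpowers (u ^ 2 ^ (a + 1))] with hH
  have hDH : D ≤ H := sh.centralizer_le
  have sh' : Shape (D.subgroupOf H) a s (⟨u, hDH sh.hu⟩ : H) ⟨t, hDH sh.ht⟩ := sh.subgroupOf hDH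
  obtain ⟨Z'⟩ := exists_nil hM hmaxH sh'
  obtain ⟨C'⟩ := exists_cert Z'
  have hzc : (⟨u, hDH sh.hu⟩ : H) ^ 2 ^ (a + 1) ∈ Subgroup.center H :=
    Subgroup.mem_center_iff.2 fun g => Subtype.ext (by
      have := mem_zpowers_centralizer.1 g.2
      simpa using this.symm)
  obtain ⟨k, e, he, hk, hcen⟩ := C'.exists_central hzc
  have hcount := count_involution hM hmax sh hmaxH
  obtain ⟨hc1, hcQ⟩ := zCount_le (M := M) (e₀ := e₀) sh
  have hnot' : ¬ C'.d.Bad := by
    intro hbad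
    have hr0 := (C'.d.of_bad hbad).1
    rw [C'.hr, hcount] at hr0
    rcases sh'.hcase with hQ | ⟨-, -, htt⟩
    · exact C'.not_quaternion_of_bad hzc hbad hQ
    · have := one_le_count hM hmax sh (by simpa using congrArg Subtype.val htt)
      omega
  have hlr := hcen.of_normal C'.d hnot'
  rw [C'.hl, C'.hr, hcount, ← hlz] at hlr
  have hnot : ¬ C.d.Bad := fun hbad => by
    obtain ⟨hr0, hlz1, -⟩ := C.d.of_bad hbad
    rw [C.hr] at hr0
    omega
  obtain ⟨Q, hQq, hcard, hQl, hQlz, hsum, h4, hht, hone⟩ := C.d.of_normal hnot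
  rw [C.hl] at hQl hsum
  rw [C.hr] at hsum
  have hl1 := C.d.hl
  rw [C.hl] at hl1
  have hN : C.d.N = 2 ^ (a + 1) := by rw [C.d.hN, C.ha]
  refine ⟨Q, rCount M D e₀ a u t, zCount M D e₀ a u t, fun ha => ?_, by omega, hl1, by omega, hc1,
    hcQ, fun htt => one_le_count hM hmax sh htt, ?_, ?_, fun χ hχ => ?_, fun ha => ?_⟩
  · rcases hQq with ⟨h, -⟩ | ⟨-, h⟩
    · exact absurd (C.ha ▸ h) ha
    · omega
  · rw [hN, ← Nat.card_eq_fintype_card] at hcard
    exact_mod_cast hcard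
  · rw [C.hht] at h4
    rw [← h4, ← Fintype.card_subtype, ← Nat.card_eq_fintype_card]
    exact Nat.card_congr
      { toFun := fun χ => ⟨⟨χ.1, χ.2.1⟩, χ.2.2⟩
        invFun := fun χ => ⟨χ.1.1, χ.1.2, χ.2⟩
        left_inv := fun χ => rfl
        right_inv := fun χ => rfl }
  · have := hht ⟨χ, hχ⟩
    rwa [C.hht, C.ha] at this
  · have h1 := hone (by rw [C.ha]; exact ha)
    rw [C.hht, hN, ← Fintype.card_subtype, ← Nat.card_eq_fintype_card] at h1
    have h2 : Nat.card {χ : Cfsg.IrrCharacter G //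
        χ ∈ B ∧ Cfsg.blockHeight 2 B (χ : G → ℂ) = 1} = Nat.card {χ : B // hgt B χ = 1} :=
      Nat.card_congr
        { toFun := fun χ => ⟨⟨χ.1, χ.2.1⟩, χ.2.2⟩
          invFun := fun χ => ⟨χ.1.1, χ.1.2, χ.2⟩
          left_inv := fun χ => rfl
          right_inv := fun χ => rfl }
    rw [h2]
    have h3 : ((2 ^ (a + 1) : ℕ) : ℤ) = 2 ^ (a + 1) := by push_cast; rfl
    rw [← h3] at h1
    omega

end Cfsg.Agent.Blocks.Tame2
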