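import Cfsg.Agent.Blocks.Tame2.Central
import Cfsg.Agent.Blocks.Dihedral.Main
import Cfsg.Agent.BlockChar.Tame.Quotient

/-!
# The exceptional configuration does not occur with a central involution

Modulo a central involution a generalized quaternion defect group becomes dihedral, and the block of
the quotient would have the wrong number of characters.
-/

set_option autoImplicit false

namespace Cfsg.Agent.Blocks.Tame2

open Cfsg.Agent Cfsg.Agent.Blocks Cfsg.Agent.Blocks.Star Cfsg.Agent.BrauerPairs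

universe u

attribute [local instance] Fintype.ofFinite

variable {G : Type u} [Group G] [Finite G] {M : Ideal Cfsg.AlgInt}
  {B : Set (Cfsg.IrrCharacter G)} {D : Subgroup G}
  {e₀ : Set (Cfsg.IrrCharacter (Subgroup.centralizer (D : Set G)))} {a : ℕ} {s : ℤ} {u t : G}

/-- The image of a generalized quaternion group modulo its involution is dihedral. -/
theorem dihedral_image {K : Type u} [Group K] (φ : G →* K) {e : ℕ} (hse : Shape D (e + 1) s u t)
    (hs : s = -1) (htt : t * t = u ^ 2 ^ (e + 2))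
    (hker : ∀ g : G, φ g = 1 ↔ g = 1 ∨ g = u ^ 2 ^ (e + 2)) :
    Dihedral.Shape (D.map φ) e (φ u) (φ t) := by
  have hzu : u ^ 2 ^ (e + 2) ∈ Subgroup.zpowers u := Subgroup.npow_mem_zpowers u _
  have hmem : ∀ q : G, φ q ∈ Subgroup.zpowers (φ u) → q ∈ Subgroup.zpowers u := by
    rintro q ⟨i, hi⟩
    have h1 : φ ((u ^ i)⁻¹ * q) = 1 := by rw [map_mul, map_inv, map_zpow, inv_mul_eq_one]; exact hi
    rcases (hker _).1 h1 with h2 | h2
    · rw [inv_mul_eq_one] at h2
      exact ⟨i, h2⟩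
    · rw [inv_mul_eq_iff_eq_mul] at h2
      exact h2 ▸ Subgroup.mul_mem _ ⟨i, rfl⟩ hzu
  refine ⟨Subgroup.mem_map_of_mem φ hse.hu, ?_, Subgroup.mem_map_of_mem φ hse.ht,
    fun h => hse.htn (hmem t h), ?_, ?_, ?_⟩
  · refine orderOf_eq_prime_pow (fun e1 => ?_) ?_
    · rw [← map_pow, hker] at e1
      have h2 := hse.v_sq
      rcases e1 with e1 | e1
      · rw [e1, one_mul] at h2
        exact hse.z_ne_one h2.symm
      · rw [e1, show e + 1 + 1 = e + 2 from rfl] at h2
        exact hse.z_ne_one (mul_eq_left.1 h2)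
    · rw [← map_pow, hker]
      exact Or.inr rfl
  · have h1 := (φ.domRestrict D).ker.card_mul_index
    rw [Subgroup.index_ker, MonoidHom.domRestrict_range, hse.hcard] at h1
    have h2 : Nat.card (φ.domRestrict D).ker = 2 := by
      rw [← hse.orderOf_z, ← Nat.card_zpowers]
      refine Nat.card_congr
        { toFun := fun q => ⟨((q : D) : G), ?_⟩
          invFun := fun q => ⟨⟨(q : G), hse.zpowers_le (Subgroup.zpowers_le.2 hzu q.2)⟩, ?_⟩
          left_inv := fun q => rfl
          right_inv := fun q => rfl }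
      · rcases (hker _).1 (show φ ((q : D) : G) = 1 from q.2) with e1 | e1
        · rw [e1]; exact one_mem _
        · rw [e1]; exact Subgroup.mem_zpowers _
      · show φ (q : G) = 1
        obtain ⟨i, hi⟩ := q.2
        rw [← hi]
        show φ ((u ^ 2 ^ (e + 1 + 1)) ^ i) = 1
        rw [map_zpow, (hker _).2 (Or.inr rfl), one_zpow]
    rw [h2, show e + 1 + 3 = e + 3 + 1 by ring, pow_succ' 2 (e + 3)] at h1
    exact Nat.eq_of_mul_eq_mul_left two_pos h1
  · rintro _ ⟨q, hq, rfl⟩ hqn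
    have hqu : q ∉ Subgroup.zpowers u := fun h => hqn (by
      obtain ⟨i, rfl⟩ := h
      exact ⟨i, (map_zpow φ u i).symm⟩)
    obtain ⟨i, rfl⟩ := hse.exists_eq hq hqu
    refine ⟨?_, ?_⟩
    · rw [← map_mul, hker]
      refine Or.inr ?_
      rw [show u ^ i * t * (u ^ i * t) = u ^ i * (t * u ^ i * t⁻¹) * (t * t) by group,
        hse.conj_t, hs, ← zpow_add, htt]
      simp
    · rw [← map_inv, ← map_inv, ← map_mul, ← map_mul]
      congr 1
      rw [show u ^ i * t * u * (u ^ i * t)⁻¹ = u ^ i * (t * u * t⁻¹) * (u ^ i)⁻¹ by group, hse.hrel,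
        hs]
      group
  · rintro _ ⟨q, hq, rfl⟩ _ ⟨q', hq', rfl⟩ h1 h2
    have hh : ∀ r : G, r ∈ Subgroup.zpowers u → φ r ∈ Subgroup.zpowers (φ u) := by
      rintro _ ⟨i, rfl⟩
      exact ⟨i, (map_zpow φ u i).symm⟩
    rw [← map_mul]
    exact hh _ ((hse.mul_mem_iff hq hq').2 ⟨fun h => absurd (hh _ h) h1, fun h => absurd (hh _ h) h2⟩)

open scoped Classical in
/-- The characters with the central involution in the kernel in the quaternion case. -/
theorem card_trivial_of_central {e : ℕ} (hM : Cfsg.IsPModular 2 M)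
    (hmax : Cfsg.IsMaximalBrauerPair 2 M B D e₀) (sh : Shape D (e + 1) s u t) (hs : s = -1)
    (htt : t * t = u ^ 2 ^ (e + 2)) (hz : u ^ 2 ^ (e + 2) ∈ Subgroup.center G) {k : B → ℤ}
    (hk : ∀ χ : B, ∀ y, ((χ : Cfsg.IrrCharacter G) : G → ℂ) (u ^ 2 ^ (e + 2) * y) =
      (k χ : ℂ) * ((χ : Cfsg.IrrCharacter G) : G → ℂ) y) :
    (Finset.univ.filter fun χ : B => k χ = 1).card = 2 ^ (e + 1) + 3 := by
  have := Fact.mk hM.1
  set z := u ^ 2 ^ (e + 2) with hzdef
  set Z := Subgroup.zpowers z with hZdef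
  have hZc : Z ≤ Subgroup.center G := Subgroup.zpowers_le.2 hz
  have : Z.Normal := ⟨fun n hn g => by
    have hn' := Subgroup.mem_center_iff.1 (hZc hn)
    rwa [hn' g, mul_inv_cancel_right]⟩
  have hzord : orderOf z = 2 := sh.orderOf_z
  have hz2 : z ^ (2 : ℤ) = 1 := by
    rw [show (2 : ℤ) = ((2 : ℕ) : ℤ) from rfl, zpow_natCast, ← hzord, pow_orderOf_eq_one]
  have hZmem : ∀ g : G, g ∈ Z ↔ g = 1 ∨ g = z := fun g => by
    constructor
    · rintro ⟨i, rfl⟩
      rcases Int.even_or_odd i with ⟨m, rfl⟩ | ⟨m, rfl⟩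
      · left; show z ^ (m + m) = 1; rw [← two_mul, zpow_mul, hz2, one_zpow]
      · right; show z ^ (2 * m + 1) = z
        rw [zpow_add_one, zpow_mul, hz2, one_zpow, one_mul]
    · rintro (rfl | rfl)
      · exact one_mem _
      · exact Subgroup.mem_zpowers _
  have hZp : IsPGroup 2 Z := IsPGroup.of_card (n := 1) (by rw [Nat.card_zpowers, pow_one, hzord])
  have := Fintype.ofFinite (G ⧸ Z)
  have hB := hmax.1.2.1
  have hD := isDefectGroup_of_maximal hM hmax
  obtain ⟨b', hb', hiff, hex, -⟩ := BlockChar.exists_quotient_block (N := Z) hM hZp hZc hB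
  obtain ⟨Bb, hBb, hsub, P, hP, hPb⟩ := BlockThms.QuotientDefect.exists_dominated Z hM hZp hB
  obtain rfl : Bb = b' := by
    obtain ⟨η, hη⟩ := IsPBlock.nonempty hM hBb
    rw [IsPBlock.eq_blockOf hM hBb hη,
      ← IsPBlock.eq_blockOf hM hb' ((hiff η).2 (hsub η hη (BlockChar.inflIrr Z η) rfl))]
  obtain ⟨g, hg⟩ := DefectThms.exists_defectGroup_conj hM hB hD hP
  set φ := (QuotientGroup.mk' Z).comp (MulAut.conj g).toMonoidHom with hφ
  have hker : ∀ x : G, φ x = 1 ↔ x = 1 ∨ x = z := fun x => by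
    rw [hφ, MonoidHom.comp_apply, QuotientGroup.mk'_apply, QuotientGroup.eq_one_iff, hZmem]
    have hzg : g * z * g⁻¹ = z := by
      rw [Subgroup.mem_center_iff.1 hz g, mul_inv_cancel_right]
    constructor
    · rintro (h | h)
      · exact Or.inl ((MulAut.conj g).injective (h.trans (map_one _).symm))
      · exact Or.inr ((MulAut.conj g).injective (h.trans hzg.symm))
    · rintro (rfl | rfl)
      · exact Or.inl (map_one _)
      · exact Or.inr hzg
  have hPeq : P.map (QuotientGroup.mk' Z) = D.map φ := by rw [hφ, ← Subgroup.map_map, hg]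
  rw [hPeq] at hPb
  obtain ⟨c, hc⟩ := exists_maximal_on hM hBb hPb
  have hcount := (Dihedral.invariants hM hc (dihedral_image φ sh hs htt hker)).1
  rw [← hcount, ← Fintype.card_subtype, ← Nat.card_eq_fintype_card]
  have htriv : ∀ χ : B, k χ = 1 ↔ ((χ : Cfsg.IrrCharacter G) : G → ℂ) z =
      ((χ : Cfsg.IrrCharacter G) : G → ℂ) 1 := fun χ => by
    have h := hk χ 1
    rw [mul_one] at h
    rw [h, mul_eq_right₀ (Char.IsIrr.one_ne_zero (χ : Cfsg.IrrCharacter G).2), Int.cast_eq_one]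
  refine (Nat.card_congr (Equiv.ofBijective (fun η : Bb => (⟨⟨BlockChar.inflIrr Z η,
    (hiff η).1 η.2⟩, (htriv _).2 ?_⟩ : {χ : B // k χ = 1})) ⟨?_, ?_⟩)).symm
  · show ((η : Cfsg.IrrCharacter (G ⧸ Z)) : G ⧸ Z → ℂ) (z : G ⧸ Z) =
      ((η : Cfsg.IrrCharacter (G ⧸ Z)) : G ⧸ Z → ℂ) ((1 : G) : G ⧸ Z)
    rw [(QuotientGroup.eq_one_iff z).2 (Subgroup.mem_zpowers z), QuotientGroup.mk_one]
  · intro η η' h
    exact Subtype.ext (BlockChar.inflIrr_injective Z (congrArg (fun q => ((q.1 : B).1)) h))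
  · rintro ⟨⟨θ, hθ⟩, hθk⟩
    obtain ⟨η, hη, he⟩ := hex θ hθ fun n hn => by
      rcases (hZmem n).1 hn with rfl | rfl
      · rfl
      · exact (htriv ⟨θ, hθ⟩).1 hθk
    exact ⟨⟨η, hη⟩, Subtype.ext (Subtype.ext he)⟩

variable {hM : Cfsg.IsPModular 2 M} {hmax : Cfsg.IsMaximalBrauerPair 2 M B D e₀}
  {sh : Shape D a s u t}

open scoped Classical in
/-- With a central involution the exceptional configuration forces a semidihedral group. -/
theorem Cert.not_quaternion_of_bad [NeZero (2 ^ (a + 2))] {Z : Nil hM hmax sh} (C : Cert Z)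
    (hz : u ^ 2 ^ (a + 1) ∈ Subgroup.center G) (hB : C.d.Bad) :
    ¬ (s = -1 ∧ t * t = u ^ 2 ^ (a + 1)) := by
  rintro ⟨hs, htt⟩
  obtain ⟨k, e, he, hk, hcen⟩ := C.exists_central hz
  obtain ⟨ha, hfive⟩ := hcen.of_bad C.d hB
  obtain ⟨-, -, -, -, h3⟩ := C.d.of_bad hB
  rw [C.ha] at ha
  subst ha
  have hm : C.d.m = 3 := by
    have h := C.d.hκ
    rw [C.ha] at h
    simp only [Data.m]
    omega
  obtain ⟨-, hno, he1, hq⟩ := h3 (by omega)
  have hnine : Fintype.card B = 9 := by
    have h1 := C.d.card_eq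
    rw [he1, C.d.card_o (by omega) hno, hq, hm] at h1
    omega
  have hseven := card_trivial_of_central (e := 1) hM hmax sh hs htt hz hk
  rcases he with rfl | rfl
  · simp only [one_mul] at hfive
    rw [hfive] at hseven
    norm_num at hseven
  · have hneg : (Finset.univ.filter fun χ : B => k χ = 1).card +
        (Finset.univ.filter fun χ : B => (-1 : ℤ) * k χ = 1).card ≤ Fintype.card B := by
      rw [← Finset.card_union_of_disjoint (Finset.disjoint_filter.2 fun χ _ h => by
        rw [h]; norm_num)]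
      exact Finset.card_le_univ _
    rw [hfive, hseven, hnine] at hneg
    norm_num at hneg

end Cfsg.Agent.Blocks.Tame2
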