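import Cfsg.Agent.Blocks.Tame2.Local
import Cfsg.Agent.Blocks.Dihedral.Columns

/-!
# The columns of the rotations

The contribution of the subsection of a rotation is a product of the values of a character of the
defect group; these values satisfy the orthogonality relations of the defect group.
-/

set_option autoImplicit false

namespace Cfsg.Agent.Blocks.Tame2

open Cfsg.Agent Cfsg.Agent.Blocks Cfsg.Agent.Blocks.Star Cfsg.Agent.BrauerPairs
open Cfsg.Agent.Blocks.Dihedral (sect_eq_zero_of_notMem card_fix one_mem_regC apply_one_ne_zero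
  sect_twist subFintype)
open Cfsg.Agent.BlockChar.SignCoherence (rmult)
open scoped ComplexConjugate

universe u

attribute [local instance] Fintype.ofFinite
attribute [local instance 2000] subFintype

variable {G : Type u} [Group G] [Finite G] {M : Ideal Cfsg.AlgInt}
  {B : Set (Cfsg.IrrCharacter G)} {D : Subgroup G}
  {e₀ : Set (Cfsg.IrrCharacter (Subgroup.centralizer (D : Set G)))} {a : ℕ} {s : ℤ} {u t : G}

local notation "CG[" Q "]" => Subgroup.centralizer ((Q : Subgroup G) : Set G)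
local notation "sbc" => Cfsg.subgroupBlockCoeff

/-- In a nilpotent block the normalised norm of the sections of a character of height zero is one. -/
theorem tval_eq_one {K : Type u} [Group K] [Finite K] {p : ℕ} {b : Set (Cfsg.IrrCharacter K)}
    {P : Subgroup K} {f₀ : Set (Cfsg.IrrCharacter (Subgroup.centralizer (P : Set K)))}
    (hM : Cfsg.IsPModular p M) (hmax : Cfsg.IsMaximalBrauerPair p M b P f₀)
    (hnil : Cfsg.IsNilpotentBlock p M b) {χ : Cfsg.IrrCharacter K} (hχ : χ ∈ b)
    (h0 : Cfsg.blockHeight p b (χ : K → ℂ) = 0) (x : P) :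
    tval p P (χ : K → ℂ) x (bel p M P f₀ x) = 1 := by
  haveI := Fact.mk hM.1
  have hp := hM.1
  have hGne : (Nat.card K : ℂ) ≠ 0 := Nat.cast_ne_zero.2 Nat.card_pos.ne'
  have hone : Cfsg.IsGeneralizedCharacter P (fun _ : P => (1 : ℂ)) := by
    have h := Char.isGeneralized_of_isCharacter (Char.isCharacter_hom (1 : P →* ℂˣ))
    simpa using h
  have hself : ∀ g,
      Phi p M (fWeight p M P f₀ fun _ => (1 : ℂ)) (χ : K → ℂ) g = (χ : K → ℂ) g := by
    intro g
    refine Phi_eq_self hM χ g fun e he h => ?_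
    obtain ⟨c, hc, rfl⟩ := mem_Bk.1 he
    obtain ⟨v, -, hv⟩ := fWeight_spec hM hmax hnil (isWeight_of_class hM hmax hnil
      (f := fun _ => (1 : ℂ)) hone).2
      (pair_of_sect_ne_zero hM hmax.1.2.1 hχ (orderOf_pPartOf hp g) hc
        (by simp [regC, not_dvd_orderOf_pPrimePartOf hp, (commute_pPartOf_pPrimePartOf g).eq]) h)
    exact hv
  have hsum : ∑ x : P, tval p P (χ : K → ℂ) x (bel p M P f₀ x) = (Fintype.card P : ℂ) := by
    have h := sum_twist_mul_conj hM hmax hnil hχ (fun x : P => bel p M P f₀ x)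
      (fun x => below_bel hM hmax x.2) (f := fun _ => (1 : ℂ)) (f' := fun _ => (1 : ℂ)) hone hone
    simp only [hself, map_one, one_mul] at h
    have h1 := Char.classInner_irr_self χ.2
    rw [Cfsg.classInner, inv_mul_eq_iff_eq_mul₀ hGne, mul_one] at h1
    rw [h1, mul_comm] at h
    rw [← Nat.card_eq_fintype_card]
    refine Eq.trans (Finset.sum_congr ?_ fun _ _ => rfl) (mul_left_cancel₀ hGne h).symm
    ext; simp
  exact eq_one_of_sum_eq_card
    (fun y => (tval_spec hM hmax hnil hχ h0 (below_bel hM hmax y.2)).1)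
    (fun σ y => (tval_spec hM hmax hnil hχ h0 (below_bel hM hmax y.2)).2 σ) hsum x

/-- A rotation as an element of the local subgroup. -/
abbrev rotL (sh : Shape D a s u t) {x : G} (hx : IsRot a u x) : LL a u := ⟨x, rot_mem_LL sh hx⟩

/-- A rotation as an element of the defect group inside the local subgroup. -/
abbrev rotP (sh : Shape D a s u t) {x : G} (hx : IsRot a u x) : D.subgroupOf (LL a u) :=
  ⟨rotL sh hx, Subgroup.mem_subgroupOf.2 (sh.zpowers_le hx.1)⟩

/-- The nilpotent block of the local subgroup with its twists. -/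
structure Nil (hM : Cfsg.IsPModular 2 M) (hmax : Cfsg.IsMaximalBrauerPair 2 M B D e₀)
    (sh : Shape D a s u t) where
  b : Set (Cfsg.IrrCharacter (LL a u))
  hmaxL : Cfsg.IsMaximalBrauerPair 2 M b (D.subgroupOf (LL a u))
    (resBlock (le_LL sh) (centralizer_le_LL sh) e₀)
  η₀ : Cfsg.IrrCharacter (LL a u)
  mem : η₀ ∈ b
  h0 : Cfsg.blockHeight 2 b (η₀ : LL a u → ℂ) = 0
  Θ : Cfsg.IrrCharacter (D.subgroupOf (LL a u)) ≃ b
  hΘ : ∀ η : Cfsg.IrrCharacter (D.subgroupOf (LL a u)),
    ((Θ η : Cfsg.IrrCharacter (LL a u)) : LL a u → ℂ) =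
      Phi 2 M (fWeight 2 M (D.subgroupOf (LL a u))
        (resBlock (le_LL sh) (centralizer_le_LL sh) e₀)
          (Cfsg.extendByZero (D.subgroupOf (LL a u)) (η : D.subgroupOf (LL a u) → ℂ)))
        (η₀ : LL a u → ℂ)

variable {hM : Cfsg.IsPModular 2 M} {hmax : Cfsg.IsMaximalBrauerPair 2 M B D e₀}
  {sh : Shape D a s u t}

theorem exists_nil (hM : Cfsg.IsPModular 2 M) (hmax : Cfsg.IsMaximalBrauerPair 2 M B D e₀)
    (sh : Shape D a s u t) : Nonempty (Nil hM hmax sh) := by
  obtain ⟨b, hb⟩ := exists_maximal_LL hM hmax sh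
  have hnil := nilpotent_LL hM sh hb
  obtain ⟨η₀, hη₀, h0⟩ := BlockThms.exists_height_zero hM hnil.1
  obtain ⟨Θ, hΘ⟩ := Dihedral.exists_twist_phi hM hb hnil hη₀ h0
  exact ⟨⟨b, hb, η₀, hη₀, h0, Θ, hΘ⟩⟩

namespace Nil

variable (Z : Nil hM hmax sh)
include Z

/-- The character of the defect group attached to a character of `G`. -/
noncomputable def phi (χ : Cfsg.IrrCharacter G) (x : LL a u) : ℂ :=
  ∑ η : Cfsg.IrrCharacter (D.subgroupOf (LL a u)), rmult (LL a u).subtype χ (Z.Θ η) *
    Cfsg.extendByZero (D.subgroupOf (LL a u)) (η : D.subgroupOf (LL a u) → ℂ) x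

theorem phi_eq (χ : Cfsg.IrrCharacter G) : ∃ n : Cfsg.IrrCharacter (D.subgroupOf (LL a u)) → ℕ,
    ∀ x : D.subgroupOf (LL a u), Z.phi χ x =
      ∑ η, (n η : ℂ) * (η : D.subgroupOf (LL a u) → ℂ) x := by
  choose n hn using fun η => BlockChar.SignCoherence.rmult_nat (LL a u).subtype χ
    (Z.Θ η : Cfsg.IrrCharacter (LL a u))
  exact ⟨n, fun x => Finset.sum_congr rfl fun η _ => by
    rw [hn, Char.extendByZero_of_mem _ _ x.2]⟩

/-- The subsection of a rotation inside the local subgroup. -/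
theorem below_rot {x : G} (hx : IsRot a u x) :
    Below 2 M (D.subgroupOf (LL a u)) (resBlock (le_LL sh) (centralizer_le_LL sh) e₀)
      (rotL sh hx) (fun g : LL a u => bel 2 M D e₀ x (g : G)) :=
  below_res hM (le_LL sh) (centralizer_le_LL sh) (below_bel hM hmax (sh.zpowers_le hx.1))
    (rot_mem_LL sh hx) (centralizer_rot_le_LL sh hx)

theorem orderOf_rotL {x : G} (hx : IsRot a u x) : ∃ k, orderOf (rotL sh hx) = 2 ^ k := by
  rw [Subgroup.orderOf_mk]
  exact sh.exists_orderOf (sh.zpowers_le hx.1)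

/-- The sections at a rotation. -/
theorem sect_rot {x : G} (hx : IsRot a u x) (χ : Cfsg.IrrCharacter G) {y : LL a u}
    (hy : y ∈ regC 2 (rotL sh hx)) :
    sect (χ : G → ℂ) x (bel 2 M D e₀ x) (y : G) = Z.phi χ (rotL sh hx) *
      sect (Z.η₀ : LL a u → ℂ) (rotL sh hx) (fun g : LL a u => bel 2 M D e₀ x (g : G)) y := by
  classical
  set x' := rotL sh hx with hx'
  set e' : LL a u → ℂ := fun g => bel 2 M D e₀ x (g : G) with he'
  have hnil := nilpotent_LL hM sh Z.hmaxL
  have hbel := Z.below_rot hx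
  have hxord := Z.orderOf_rotL hx
  have hxP : x' ∈ D.subgroupOf (LL a u) := (rotP sh hx).2
  have hxD := sh.zpowers_le hx.1
  have step1 : sect (χ : G → ℂ) x (bel 2 M D e₀ x) (y : G) =
      ∑ θ : Cfsg.IrrCharacter (LL a u),
        rmult (LL a u).subtype χ θ * sect (θ : LL a u → ℂ) x' e' y := by
    simp only [sect, Finset.mul_sum]
    rw [Finset.sum_comm, ← Finset.sum_subset
      (Finset.subset_univ (Finset.univ.filter fun g : G => g ∈ LL a u)) fun g _ hg => by
        rw [apply_Bk_of_notMem (bel_mem_Bk hM hmax hxD) fun hc => hg (Finset.mem_filter.2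
          ⟨Finset.mem_univ _, centralizer_rot_le_LL sh hx hc⟩), zero_mul],
      Finset.sum_subtype (p := fun g => g ∈ LL a u) _ (by simp)]
    refine Finset.sum_congr rfl fun h _ => ?_
    have hres := BlockChar.SignCoherence.res_expand (LL a u).subtype χ (x' * y * h)
    rw [show (LL a u).subtype (x' * y * h) = x * (y : G) * (h : G) from rfl] at hres
    rw [hres, Finset.mul_sum]
    exact Finset.sum_congr rfl fun θ _ => by rw [he']; ring
  rw [step1, phi, Finset.sum_mul, ← Finset.sum_subset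
    (Finset.subset_univ (Finset.univ.filter fun θ => θ ∈ Z.b)) fun θ _ hθ => by
      rw [sect_eq_zero_of_notMem hM Z.hmaxL
        (fun h => hθ (Finset.mem_filter.2 ⟨Finset.mem_univ _, h⟩)) hxord hbel hy, mul_zero],
    Finset.sum_subtype (p := fun θ => θ ∈ Z.b) _ (by simp), ← Z.Θ.sum_comp]
  refine Finset.sum_congr rfl fun η _ => ?_
  rw [sect_twist hM Z.hmaxL hnil (Z.hΘ η) (x := ⟨x', hxP⟩) hxord hbel
    (Dihedral.Below.mem_Bk hM Z.hmaxL.1.1 hbel) hy, Char.extendByZero_of_mem _ _ hxP]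
  ring

omit Z in
/-- The centralizer of a rotation in the defect group is the cyclic subgroup. -/
theorem card_centralizer_rot (sh : Shape D a s u t) {x : G} (hx : IsRot a u x) :
    Nat.card (Subgroup.centralizer ({rotP sh hx} : Set (D.subgroupOf (LL a u)))) =
      2 ^ (a + 2) := by
  rw [← sh.hord, ← Nat.card_zpowers]
  refine Nat.card_congr
    { toFun := fun q => ⟨((q : D.subgroupOf (LL a u)) : LL a u), ?_⟩
      invFun := fun q => ⟨⟨⟨(q : G), le_LL sh (sh.zpowers_le q.2)⟩,
        Subgroup.mem_subgroupOf.2 (sh.zpowers_le q.2)⟩, ?_⟩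
      left_inv := fun q => rfl
      right_inv := fun q => rfl }
  · by_contra hq
    have hqD : (((q : D.subgroupOf (LL a u)) : LL a u) : G) ∈ D :=
      Subgroup.mem_subgroupOf.1 (q : D.subgroupOf (LL a u)).2
    have hc := congrArg (fun w : D.subgroupOf (LL a u) => ((w : LL a u) : G))
      (Subgroup.mem_centralizer_singleton_iff.1 q.2)
    simp only [Subgroup.coe_mul] at hc
    generalize (((q : D.subgroupOf (LL a u)) : LL a u) : G) = g at hq hqD hc
    obtain ⟨i, hi⟩ := sh.v_mem_zpowers hx.1 hx.2.1 hx.2.2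
    have hv : g * u ^ 2 ^ a * g⁻¹ = u ^ 2 ^ a := by
      rw [← hi]
      show g * x ^ i * g⁻¹ = x ^ i
      rw [← conj_zpow, hc, mul_inv_cancel_right]
    rcases sh.conj_u hqD with ⟨h', -⟩ | ⟨-, e⟩
    · exact hq h'
    · rw [← zpow_natCast, e] at hv
      have hd := zpow_eq_zpow_iff_modEq.1 hv
      rw [sh.hord, Int.modEq_iff_dvd] at hd
      obtain ⟨c, hc⟩ := sh.four_dvd
      obtain ⟨k, hk⟩ := hd
      push_cast at hk
      have h2 : (2 : ℤ) ^ a * (1 - s) = 2 ^ a * (4 * k) := by
        rw [show (2 : ℤ) ^ a * (4 * k) = 2 ^ (a + 2) * k by ring, ← hk]; ring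
      have := mul_left_cancel₀ (pow_ne_zero a two_ne_zero) h2
      omega
  · refine Subgroup.mem_centralizer_singleton_iff.2 (Subtype.ext (Subtype.ext ?_))
    obtain ⟨i, hi⟩ := hx.1
    obtain ⟨⟨_, j, rfl⟩, rfl⟩ : ∃ q' : Subgroup.zpowers u, q' = q := ⟨q, rfl⟩
    show u ^ j * x = x * u ^ j
    rw [← hi]
    exact ((Commute.refl u).zpow_zpow j i).eq

omit Z in
theorem card_centralizer_L (sh : Shape D a s u t) {x : G} (hx : IsRot a u x) :
    Nat.card (Subgroup.centralizer (Subgroup.zpowers (rotL sh hx) : Set (LL a u))) =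
      Nat.card CG[Subgroup.zpowers x] :=
  Nat.card_congr
    { toFun := fun c => ⟨((c : LL a u) : G), mem_zpowers_centralizer.2
        (congrArg Subtype.val (mem_zpowers_centralizer.1 c.2))⟩
      invFun := fun c => ⟨⟨(c : G), centralizer_rot_le_LL sh hx c.2⟩,
        mem_zpowers_centralizer.2 (Subtype.ext (mem_zpowers_centralizer.1 c.2))⟩
      left_inv := fun c => rfl
      right_inv := fun c => rfl }

/-- The contribution of a rotation. -/
theorem cVal_rot {x : G} (hx : IsRot a u x) (χ ψ : Cfsg.IrrCharacter G) :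
    cVal 2 M D e₀ x χ ψ =
      Z.phi χ (rotL sh hx) * conj (Z.phi ψ (rotL sh hx)) / (2 : ℂ) ^ (a + 2) := by
  classical
  set x' := rotL sh hx with hx'
  set e' : LL a u → ℂ := fun g => bel 2 M D e₀ x (g : G) with he'
  have hnil := nilpotent_LL hM sh Z.hmaxL
  have hbel := Z.below_rot hx
  have hone := tval_eq_one hM Z.hmaxL hnil Z.mem Z.h0 (rotP sh hx)
  rw [bel_eq hM Z.hmaxL hbel] at hone
  set S := ∑ y ∈ regC 2 x', sect (Z.η₀ : LL a u → ℂ) x' e' y *
    conj (sect (Z.η₀ : LL a u → ℂ) x' e' y) with hS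
  have hinf : Nat.card (D.subgroupOf (LL a u) ⊓ Subgroup.centralizer
      (Subgroup.zpowers x' : Set (LL a u)) : Subgroup (LL a u)) = 2 ^ (a + 2) := by
    rw [← card_centralizer_rot sh hx]
    refine Nat.card_congr
      { toFun := fun q => ⟨⟨(q : LL a u), q.2.1⟩, Subgroup.mem_centralizer_singleton_iff.2
          (Subtype.ext (mem_zpowers_centralizer.1 q.2.2).symm)⟩
        invFun := fun q => ⟨((q : D.subgroupOf (LL a u)) : LL a u),
          (q : D.subgroupOf (LL a u)).2, mem_zpowers_centralizer.2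
            (congrArg Subtype.val (Subgroup.mem_centralizer_singleton_iff.1 q.2)).symm⟩
        left_inv := fun q => rfl
        right_inv := fun q => rfl }
  have hKS : S = (Nat.card CG[Subgroup.zpowers x] : ℂ) / (2 : ℂ) ^ (a + 2) := by
    have h : (2 : ℂ) ^ (a + 2) / (Nat.card CG[Subgroup.zpowers x] : ℂ) * S = 1 := by
      rw [← hone, tval, pWeight, sectNorm, hinf, card_centralizer_L sh hx, hS]
      push_cast
      rfl
    have hC : (Nat.card CG[Subgroup.zpowers x] : ℂ) ≠ 0 := Nat.cast_ne_zero.2 Nat.card_pos.ne'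
    field_simp at h ⊢
    linear_combination h
  have hsum : ∑ y ∈ regC 2 x, sect (χ : G → ℂ) x (bel 2 M D e₀ x) y *
      conj (sect (ψ : G → ℂ) x (bel 2 M D e₀ x) y) =
      Z.phi χ x' * conj (Z.phi ψ x') * S := by
    rw [hS, Finset.mul_sum]
    refine Finset.sum_bij' (fun y hy => (⟨y, centralizer_rot_le_LL sh hx
      (mem_zpowers_centralizer_of_regC hy).1⟩ : LL a u)) (fun y _ => (y : G)) (fun y hy => ?_)
      (fun y hy => ?_) (fun _ _ => rfl) (fun _ _ => rfl) fun y hy => ?_
    · simp only [regC, Finset.mem_filter, Finset.mem_univ, true_and] at hy ⊢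
      exact ⟨by rw [Subgroup.orderOf_mk]; exact hy.1, Subtype.ext hy.2⟩
    · simp only [regC, Finset.mem_filter, Finset.mem_univ, true_and] at hy ⊢
      exact ⟨by rw [Subgroup.orderOf_coe]; exact hy.1, congrArg Subtype.val hy.2⟩
    · have hy' : (⟨y, centralizer_rot_le_LL sh hx (mem_zpowers_centralizer_of_regC hy).1⟩ :
          LL a u) ∈ regC 2 x' := by
        simp only [regC, Finset.mem_filter, Finset.mem_univ, true_and] at hy ⊢
        exact ⟨by rw [Subgroup.orderOf_mk]; exact hy.1, Subtype.ext hy.2⟩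
      have h1 := Z.sect_rot hx χ hy'
      have h2 := Z.sect_rot hx ψ hy'
      dsimp only at h1 h2
      rw [h1, h2, map_mul]
      ring
  rw [cVal, hsum, hKS]
  have hC : (Nat.card CG[Subgroup.zpowers x] : ℂ) ≠ 0 := Nat.cast_ne_zero.2 Nat.card_pos.ne'
  field_simp

open scoped Classical in
/-- The squared section of the twisted character at the identity. -/
theorem norm_base {x : G} (hx : IsRot a u x) :
    (2 : ℂ) ^ (a + 2) * (sect (Z.η₀ : LL a u → ℂ) (rotL sh hx)
        (fun g : LL a u => bel 2 M D e₀ x (g : G)) 1 *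
      conj (sect (Z.η₀ : LL a u → ℂ) (rotL sh hx)
        (fun g : LL a u => bel 2 M D e₀ x (g : G)) 1)) =
      (Nat.card CG[Subgroup.zpowers x] : ℂ) * bel 2 M D e₀ x 1 := by
  set x' := rotL sh hx with hx'
  set e' : LL a u → ℂ := fun g => bel 2 M D e₀ x (g : G) with he'
  have hnil := nilpotent_LL hM sh Z.hmaxL
  have hbel := Z.below_rot hx
  have hxord := Z.orderOf_rotL hx
  have hxP : x' ∈ D.subgroupOf (LL a u) := (rotP sh hx).2
  have heB := Dihedral.Below.mem_Bk hM Z.hmaxL.1.1 hbel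
  have hcol := BlockChar.SignCoherence.sum_sect_one hM hxord hxord heB heB
  rw [card_fix heB, card_centralizer_L sh hx] at hcol
  refine Eq.trans ?_ hcol
  rw [← Finset.sum_subset (Finset.subset_univ (Finset.univ.filter fun θ => θ ∈ Z.b))
    fun θ _ hθ => by
      rw [sect_eq_zero_of_notMem hM Z.hmaxL
        (fun h => hθ (Finset.mem_filter.2 ⟨Finset.mem_univ _, h⟩)) hxord hbel
        (one_mem_regC hM.1 x'), zero_mul],
    Finset.sum_subtype (p := fun θ => θ ∈ Z.b) _ (by simp), ← Z.Θ.sum_comp]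
  have horth := Char.second_orthogonality (⟨x', hxP⟩ : D.subgroupOf (LL a u)) ⟨x', hxP⟩
  rw [if_pos (IsConj.refl _), show Nat.card (Subgroup.centralizer
    ({(⟨x', hxP⟩ : D.subgroupOf (LL a u))} : Set (D.subgroupOf (LL a u)))) = 2 ^ (a + 2) from
      card_centralizer_rot sh hx, Nat.cast_pow, Nat.cast_ofNat] at horth
  rw [← horth, Finset.sum_mul]
  refine Finset.sum_congr rfl fun η _ => ?_
  rw [sect_twist hM Z.hmaxL hnil (Z.hΘ η) (x := ⟨x', hxP⟩) hxord hbel heB (one_mem_regC hM.1 x'),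
    map_mul]
  ring

/-- The section of the base character at the identity does not vanish. -/
theorem base_ne_zero {x : G} (hx : IsRot a u x) :
    sect (Z.η₀ : LL a u → ℂ) (rotL sh hx) (fun g : LL a u => bel 2 M D e₀ x (g : G)) 1 ≠ 0 := by
  intro h0
  have h := Z.norm_base hx
  rw [h0, zero_mul, mul_zero] at h
  exact mul_ne_zero (Nat.cast_ne_zero.2 Nat.card_pos.ne')
    (apply_one_ne_zero hM (bel_mem_Bk hM hmax (sh.zpowers_le hx.1))) h.symm

open scoped Classical in
/-- The orthogonality relations of the columns of the rotations. -/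
theorem sum_phi {x y : G} (hx : IsRot a u x) (hy : IsRot a u y) :
    ∑ χ ∈ B.toFinite.toFinset, Z.phi χ (rotL sh hx) * conj (Z.phi χ (rotL sh hy)) =
      if y = x ∨ y = t * x * t⁻¹ then (2 : ℂ) ^ (a + 2) else 0 := by
  have hxD := sh.zpowers_le hx.1
  have hyD := sh.zpowers_le hy.1
  have hxord := sh.exists_orderOf hxD
  have hyord := sh.exists_orderOf hyD
  have heB := bel_mem_Bk hM hmax hxD
  have heB' := bel_mem_Bk hM hmax hyD
  have hcx := Z.base_ne_zero hx
  have hcy := Z.base_ne_zero hy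
  have hsect : ∀ {z : G} (hz : IsRot a u z) (χ : Cfsg.IrrCharacter G),
      sect (χ : G → ℂ) z (bel 2 M D e₀ z) 1 = Z.phi χ (rotL sh hz) *
        sect (Z.η₀ : LL a u → ℂ) (rotL sh hz) (fun g : LL a u => bel 2 M D e₀ z (g : G)) 1 :=
    fun hz χ => Z.sect_rot hz χ (y := 1) (one_mem_regC hM.1 _)
  have hcol := BlockChar.SignCoherence.sum_sect_one hM hxord hyord heB heB'
  rw [← Finset.sum_subset (Finset.subset_univ B.toFinite.toFinset) fun χ _ hχ => by
    rw [sect_eq_zero_of_notMem hM hmax (fun h => hχ ((Set.Finite.mem_toFinset _).2 h)) hxord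
      (below_bel hM hmax hxD) (one_mem_regC hM.1 x), zero_mul]] at hcol
  split_ifs with hxy
  · have hphi : ∀ χ, Z.phi χ (rotL sh hy) = Z.phi χ (rotL sh hx) := by
      intro χ
      rcases hxy with h | h
      · exact congrArg (Z.phi χ) (Subtype.ext h)
      · obtain ⟨n, hn⟩ := Z.phi_eq χ
        refine (hn (rotP sh hy)).trans (Eq.trans (Finset.sum_congr rfl fun η _ => congrArg _ ?_)
          (hn (rotP sh hx)).symm)
        set tt : D.subgroupOf (LL a u) := ⟨⟨t, le_LL sh sh.ht⟩, Subgroup.mem_subgroupOf.2 sh.ht⟩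
        rw [show rotP sh hy = tt * rotP sh hx * tt⁻¹ from Subtype.ext (Subtype.ext h)]
        exact Char.isClassFunction_of_isIrr η.2 _ _
    simp only [hphi]
    have h2 := BlockChar.SignCoherence.sum_sect_one hM hxord hxord heB heB
    rw [card_fix heB, ← Finset.sum_subset (Finset.subset_univ B.toFinite.toFinset) fun χ _ hχ => by
      rw [sect_eq_zero_of_notMem hM hmax (fun h => hχ ((Set.Finite.mem_toFinset _).2 h)) hxord
        (below_bel hM hmax hxD) (one_mem_regC hM.1 x), zero_mul], ← Z.norm_base hx] at h2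
    refine mul_right_cancel₀ (mul_ne_zero hcx ((map_ne_zero (starRingEnd ℂ)).2 hcx)) ?_
    rw [← h2, Finset.sum_mul]
    refine Finset.sum_congr rfl fun χ _ => ?_
    rw [hsect hx, map_mul]
    ring
  · have hempty : (Finset.univ.filter fun g : G => g * x * g⁻¹ = y ∧
        conjF g (bel 2 M D e₀ x) = bel 2 M D e₀ y).card = 0 := by
      refine Finset.card_eq_zero.2 (Finset.filter_eq_empty_iff.2 fun g _ hg => ?_)
      exact hxy (fusion_rot hM hmax sh hx.1 hy.1 ⟨g, _, below_bel hM hmax hxD,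
        by rw [hg.1, hg.2]; exact below_bel hM hmax hyD, hg.1⟩)
    rw [hempty, Nat.cast_zero, zero_mul] at hcol
    refine mul_right_cancel₀ (mul_ne_zero hcx ((map_ne_zero (starRingEnd ℂ)).2 hcy)) ?_
    rw [zero_mul, ← hcol, Finset.sum_mul]
    refine Finset.sum_congr rfl fun χ _ => ?_
    rw [hsect hx, hsect hy, map_mul]
    ring

end Nil

end Cfsg.Agent.Blocks.Tame2
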