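import Cfsg.Agent.BlockChar.Tame.Group
import Cfsg.Agent.Blocks.Dihedral.Local
import Cfsg.Prelude.Def_CaseTheorems
import Mathlib.GroupTheory.SpecificGroups.Quaternion

/-!
# Quaternion and semidihedral two-groups inside a group
-/

set_option autoImplicit false

namespace Cfsg.Agent.Blocks.Tame2

universe u

variable {G : Type u} [Group G]

/-- `D` is quaternion (`s = -1`) or semidihedral (`s = 2 ^ (a + 1) - 1`) of order `2 ^ (a + 3)`,
with cyclic subgroup generated by `u` and `t` outside it. -/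
structure Shape (D : Subgroup G) (a : ℕ) (s : ℤ) (u t : G) : Prop where
  hu : u ∈ D
  hord : orderOf u = 2 ^ (a + 2)
  ht : t ∈ D
  htn : t ∉ Subgroup.zpowers u
  hcard : Nat.card D = 2 ^ (a + 3)
  hrel : t * u * t⁻¹ = u ^ s
  hcase : (s = -1 ∧ t * t = u ^ 2 ^ (a + 1)) ∨ (1 ≤ a ∧ s = 2 ^ (a + 1) - 1 ∧ t * t = 1)

theorem exists_shape_quaternion {D : Subgroup G} {a : ℕ}
    (iso : D ≃* QuaternionGroup (2 ^ (a + 1))) : ∃ u t : G, Shape D a (-1) u t := by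
  set n := 2 ^ (a + 1) with hn
  haveI : NeZero n := ⟨by positivity⟩
  let φ : QuaternionGroup n →* G := D.subtype.comp iso.symm.toMonoidHom
  have hφ : Function.Injective φ := D.subtype_injective.comp iso.symm.injective
  have hmem : ∀ x, φ x ∈ D := fun x => (iso.symm x).2
  refine ⟨φ (QuaternionGroup.a 1), φ (QuaternionGroup.xa 0), hmem _, ?_, hmem _, ?_, ?_, ?_,
    Or.inl ⟨rfl, ?_⟩⟩
  · rw [orderOf_injective φ hφ, QuaternionGroup.orderOf_a_one, hn]; ring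
  · rintro ⟨j, hj⟩
    change φ (QuaternionGroup.a 1) ^ j = φ (QuaternionGroup.xa 0) at hj
    rw [← map_zpow] at hj
    have hz : ∀ j : ℤ, ∃ i, (QuaternionGroup.a (n := n) 1) ^ j = QuaternionGroup.a i := by
      intro j
      induction j with
      | zero => exact ⟨0, rfl⟩
      | succ k ih =>
        obtain ⟨i, hi⟩ := ih
        exact ⟨i + 1, by rw [zpow_add_one, hi, QuaternionGroup.a_mul_a]⟩
      | pred k ih =>
        obtain ⟨i, hi⟩ := ih
        refine ⟨i - 1, ?_⟩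
        rw [zpow_sub_one, hi, mul_inv_eq_iff_eq_mul, QuaternionGroup.a_mul_a, sub_add_cancel]
    obtain ⟨i, hi⟩ := hz j
    rw [hi] at hj
    exact absurd (hφ hj) (by simp)
  · rw [Nat.card_congr iso.toEquiv, Nat.card_eq_fintype_card, QuaternionGroup.card, hn]
    ring
  · rw [zpow_neg_one, ← map_inv, ← map_inv, ← map_mul, ← map_mul]
    congr 1
    rw [mul_inv_eq_iff_eq_mul, eq_inv_mul_iff_mul_eq]
    simp
  · rw [← map_mul, ← map_pow, QuaternionGroup.a_one_pow]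
    congr 1
    simp [hn]

theorem exists_shape_quasiDihedral {D : Subgroup G} {a : ℕ} (hD : Cfsg.IsQuasiDihedral D)
    (hcard : Nat.card D = 2 ^ (a + 3)) :
    1 ≤ a ∧ ∃ u t : G, Shape D a (2 ^ (a + 1) - 1) u t := by
  obtain ⟨n, hn, hc, x, y, hx, hy, hrel⟩ := hD
  obtain rfl : n = a + 2 := by
    have := Nat.pow_right_injective le_rfl (hc.symm.trans hcard)
    omega
  refine ⟨by omega, x, y, x.2, by rw [Subgroup.orderOf_coe, hx], y.2, ?_, hcard, ?_,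
    Or.inr ⟨by omega, rfl, ?_⟩⟩
  · rintro ⟨i, hi⟩
    have h1 : x ^ i = y := Subtype.ext (by simpa using hi)
    have h2 : x ^ (2 ^ (a + 2 - 1) - 1) = x := by
      rw [← hrel, ← h1]; group
    have h3 : 2 ≤ 2 ^ (a + 2 - 1) - 1 := by
      have : 2 ^ 2 ≤ 2 ^ (a + 2 - 1) := Nat.pow_le_pow_right two_pos (by omega)
      omega
    have h4 : x ^ (2 ^ (a + 2 - 1) - 1 - 1) = 1 := by
      have h5 : x ^ (2 ^ (a + 2 - 1) - 1 - 1) * x = x := by
        rw [← pow_succ, Nat.sub_add_cancel (by omega)]; exact h2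
      exact mul_right_cancel (h5.trans (one_mul x).symm)
    have h6 := orderOf_le_of_pow_eq_one (by omega) h4
    rw [hx] at h6
    have : (2 : ℕ) ^ (a + 2) = 2 ^ (a + 2 - 1) * 2 := by
      rw [← pow_succ]; congr 1
    omega
  · have h1 := congrArg Subtype.val hrel
    simp only [Subgroup.coe_mul, Subgroup.coe_inv, Subgroup.coe_pow,
      show a + 2 - 1 = a + 1 by omega] at h1
    rw [h1, ← zpow_natCast, Nat.cast_sub Nat.one_le_two_pow]
    push_cast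
    rfl
  · have h1 : y * y = 1 := by rw [← pow_two, ← hy, pow_orderOf_eq_one]
    exact congrArg Subtype.val h1

namespace Shape

variable {D : Subgroup G} {a : ℕ} {s : ℤ} {u t : G} (h : Shape D a s u t)
include h

theorem zpowers_le : Subgroup.zpowers u ≤ D := Subgroup.zpowers_le.2 h.hu

theorem isPGroup : IsPGroup 2 D := IsPGroup.of_card h.hcard

theorem exists_orderOf {x : G} (hx : x ∈ D) : ∃ k, orderOf x = 2 ^ k := by
  obtain ⟨k, hk⟩ := IsPGroup.iff_orderOf.1 h.isPGroup ⟨x, hx⟩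
  exact ⟨k, by rwa [← Subgroup.orderOf_mk x hx] ⟩

theorem index_two : ((Subgroup.zpowers u).subgroupOf D).index = 2 := by
  have h1 := ((Subgroup.zpowers u).subgroupOf D).card_mul_index
  rw [Nat.card_congr (Subgroup.subgroupOfEquivOfLe h.zpowers_le).toEquiv, Nat.card_zpowers, h.hord,
    h.hcard, pow_succ 2 (a + 2)] at h1
  exact Nat.eq_of_mul_eq_mul_left (by positivity) h1

theorem mul_mem_iff {x y : G} (hx : x ∈ D) (hy : y ∈ D) :
    x * y ∈ Subgroup.zpowers u ↔ (x ∈ Subgroup.zpowers u ↔ y ∈ Subgroup.zpowers u) :=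
  Subgroup.mul_mem_iff_of_index_two h.index_two (a := ⟨x, hx⟩) (b := ⟨y, hy⟩)

theorem exists_eq {x : G} (hx : x ∈ D) (hxu : x ∉ Subgroup.zpowers u) :
    ∃ i : ℤ, x = u ^ i * t := by
  obtain ⟨i, hi⟩ := (h.mul_mem_iff hx (D.inv_mem h.ht)).2
    ⟨fun hh => absurd hh hxu, fun hh => absurd (inv_mem_iff.1 hh) h.htn⟩
  exact ⟨i, by rw [show u ^ i = x * t⁻¹ from hi, inv_mul_cancel_right]⟩

theorem s_odd : Odd s := by
  rcases h.hcase with ⟨rfl, -⟩ | ⟨-, rfl, -⟩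
  · decide
  · exact ⟨2 ^ a - 1, by ring⟩

/-- The exponent squares to one. -/
theorem s_sq : ((2 : ℤ) ^ (a + 2)) ∣ s * s - 1 := by
  rcases h.hcase with ⟨rfl, -⟩ | ⟨ha, rfl, -⟩
  · exact ⟨0, by ring⟩
  · refine ⟨2 ^ a - 1, ?_⟩
    ring

theorem four_dvd : (4 : ℤ) ∣ s + 1 := by
  rcases h.hcase with ⟨rfl, -⟩ | ⟨ha, rfl, -⟩
  · exact ⟨0, by ring⟩
  · obtain ⟨b, rfl⟩ : ∃ b, a = b + 1 := ⟨a - 1, by omega⟩
    exact ⟨2 ^ b, by ring⟩

theorem pow_congr {i j : ℤ} (hij : (2 : ℤ) ^ (a + 2) ∣ i - j) : u ^ i = u ^ j := by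
  rw [zpow_eq_zpow_iff_modEq, h.hord]
  exact (Int.modEq_iff_dvd.2 (by push_cast; exact (dvd_sub_comm).1 hij))

theorem conj_u {q : G} (hq : q ∈ D) :
    (q ∈ Subgroup.zpowers u ∧ ∀ i : ℤ, q * u ^ i * q⁻¹ = u ^ i) ∨
      (q ∉ Subgroup.zpowers u ∧ ∀ i : ℤ, q * u ^ i * q⁻¹ = u ^ (s * i)) := by
  by_cases hqu : q ∈ Subgroup.zpowers u
  · obtain ⟨j, rfl⟩ := hqu
    exact Or.inl ⟨⟨j, rfl⟩, fun i => by simp [← zpow_add, ← zpow_neg]⟩
  · obtain ⟨j, rfl⟩ := h.exists_eq hq hqu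
    refine Or.inr ⟨hqu, fun i => ?_⟩
    calc u ^ j * t * u ^ i * (u ^ j * t)⁻¹ = u ^ j * (t * u ^ i * t⁻¹) * (u ^ j)⁻¹ := by group
      _ = u ^ j * (u ^ s) ^ i * (u ^ j)⁻¹ := by rw [← conj_zpow, h.hrel]
      _ = u ^ (s * i) := by rw [← zpow_mul, ← zpow_neg, ← zpow_add, ← zpow_add]; congr 1; ring

/-- A power of `u` conjugates to itself or to its image under `t`. -/
theorem conj_mem_pow {q : G} (hq : q ∈ D) {x : G} (hx : x ∈ Subgroup.zpowers u) :
    q * x * q⁻¹ = x ∨ q * x * q⁻¹ = t * x * t⁻¹ := by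
  obtain ⟨i, rfl⟩ := hx
  rcases h.conj_u hq with ⟨-, e⟩ | ⟨-, e⟩
  · exact Or.inl (e i)
  · rcases h.conj_u h.ht with ⟨e1, -⟩ | ⟨-, e1⟩
    · exact absurd e1 h.htn
    · exact Or.inr ((e i).trans (e1 i).symm)

theorem conj_t (i : ℤ) : t * u ^ i * t⁻¹ = u ^ (s * i) := by
  rcases h.conj_u h.ht with ⟨e, -⟩ | ⟨-, e⟩
  · exact absurd e h.htn
  · exact e i

theorem conj_mem {q : G} (hq : q ∈ D) {x : G} (hx : x ∈ Subgroup.zpowers u) :
    q * x * q⁻¹ ∈ Subgroup.zpowers u := by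
  obtain ⟨i, rfl⟩ := hx
  rcases h.conj_u hq with ⟨-, e⟩ | ⟨-, e⟩ <;>
    (show q * u ^ i * q⁻¹ ∈ _; rw [e]; exact ⟨_, rfl⟩)

theorem zpowers_normal {q x : G} (hq : q ∈ D) (hx : x ∈ Subgroup.zpowers u) :
    q ∈ Subgroup.normalizer (Subgroup.zpowers x : Set G) := by
  have key : ∀ q ∈ D, ∀ y ∈ Subgroup.zpowers x, q * y * q⁻¹ ∈ Subgroup.zpowers x := by
    intro q hq y hy
    obtain ⟨i, rfl⟩ := hx
    obtain ⟨j, rfl⟩ := hy
    show q * (u ^ i) ^ j * q⁻¹ ∈ _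
    rcases h.conj_u hq with ⟨-, e⟩ | ⟨-, e⟩
    · rw [← zpow_mul, e, zpow_mul]; exact ⟨j, rfl⟩
    · rw [← zpow_mul, e, show s * (i * j) = i * (s * j) by ring, zpow_mul]; exact ⟨s * j, rfl⟩
  refine Subgroup.mem_normalizer_iff.2 fun y => ⟨key q hq y, fun hy => ?_⟩
  have := key q⁻¹ (D.inv_mem hq) _ hy
  rwa [show q⁻¹ * (q * y * q⁻¹) * q⁻¹⁻¹ = y by group] at this

/-- The central involution. -/
theorem orderOf_z : orderOf (u ^ 2 ^ (a + 1)) = 2 := by
  rw [orderOf_pow_of_dvd (by positivity), h.hord, pow_succ 2 (a + 1), Nat.mul_div_cancel_left _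
    (by positivity)]
  rw [h.hord]
  exact pow_dvd_pow 2 (by omega)

/-- The element of order four among the rotations. -/
theorem orderOf_v : orderOf (u ^ 2 ^ a) = 4 := by
  rw [orderOf_pow_of_dvd (by positivity), h.hord, pow_add, Nat.mul_div_cancel_left _
    (by positivity)]
  · rfl
  rw [h.hord]
  exact pow_dvd_pow 2 (by omega)

theorem z_ne_one : u ^ 2 ^ (a + 1) ≠ 1 := fun hz => by
  have := h.orderOf_z
  rw [hz, orderOf_one] at this
  omega

theorem z_mul_self : u ^ 2 ^ (a + 1) * u ^ 2 ^ (a + 1) = 1 := by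
  have := pow_orderOf_eq_one (u ^ 2 ^ (a + 1))
  rwa [h.orderOf_z, pow_two] at this

theorem z_inv : (u ^ 2 ^ (a + 1))⁻¹ = u ^ 2 ^ (a + 1) := inv_eq_of_mul_eq_one_right h.z_mul_self

theorem z_mem : u ^ 2 ^ (a + 1) ∈ D := D.pow_mem h.hu _

theorem v_mem : u ^ 2 ^ a ∈ D := D.pow_mem h.hu _

theorem v_sq : u ^ 2 ^ a * u ^ 2 ^ a = u ^ 2 ^ (a + 1) := by
  rw [← pow_add, ← two_mul, ← pow_succ']

theorem z_fix {q : G} (hq : q ∈ D) : q * u ^ 2 ^ (a + 1) * q⁻¹ = u ^ 2 ^ (a + 1) := by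
  rw [← zpow_natCast]
  rcases h.conj_u hq with ⟨-, e⟩ | ⟨-, e⟩
  · exact e _
  · rw [e]
    obtain ⟨c, hc⟩ := h.s_odd
    refine h.pow_congr ⟨c, ?_⟩
    rw [hc]; push_cast; ring

theorem z_comm {q : G} (hq : q ∈ D) : u ^ 2 ^ (a + 1) * q = q * u ^ 2 ^ (a + 1) :=
  (mul_inv_eq_iff_eq_mul.1 (h.z_fix hq)).symm

/-- The element of order four is inverted outside the rotations. -/
theorem v_conj {q : G} (hq : q ∈ D) :
    q * u ^ 2 ^ a * q⁻¹ = u ^ 2 ^ a ∨ q * u ^ 2 ^ a * q⁻¹ = (u ^ 2 ^ a)⁻¹ := by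
  rw [← zpow_natCast, ← zpow_neg]
  rcases h.conj_u hq with ⟨-, e⟩ | ⟨-, e⟩
  · exact Or.inl (e _)
  · rw [e]
    obtain ⟨c, hc⟩ := h.four_dvd
    refine Or.inr (h.pow_congr ⟨c, ?_⟩)
    push_cast
    rw [show s * 2 ^ a - -2 ^ a = (s + 1) * 2 ^ a by ring, hc]
    ring

/-- Outside the rotations the squares are one or the central involution. -/
theorem sq_outside {x : G} (hx : x ∈ D) (hxu : x ∉ Subgroup.zpowers u) :
    x * x = 1 ∨ x * x = u ^ 2 ^ (a + 1) := by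
  obtain ⟨i, rfl⟩ := h.exists_eq hx hxu
  have e : u ^ i * t * (u ^ i * t) = u ^ (i * (1 + s)) * (t * t) := by
    calc u ^ i * t * (u ^ i * t) = u ^ i * (t * u ^ i * t⁻¹) * (t * t) := by group
      _ = _ := by rw [h.conj_t, ← zpow_add]; congr 2; ring
  rw [e]
  rcases h.hcase with ⟨rfl, htt⟩ | ⟨-, rfl, htt⟩
  · exact Or.inr (by rw [htt]; simp)
  · rw [htt, mul_one, ← zpow_natCast u (2 ^ (a + 1))]
    rcases Int.even_or_odd i with ⟨k, rfl⟩ | ⟨k, rfl⟩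
    · left
      rw [← zpow_zero u]
      exact h.pow_congr ⟨k, by ring⟩
    · right
      exact h.pow_congr ⟨k, by push_cast; ring⟩

theorem pow_four_outside {x : G} (hx : x ∈ D) (hxu : x ∉ Subgroup.zpowers u) : x ^ 4 = 1 := by
  rw [show (4 : ℕ) = 2 * 2 by norm_num, pow_mul, pow_two x, pow_two]
  rcases h.sq_outside hx hxu with e | e <;> rw [e]
  · rw [one_mul]
  · exact h.z_mul_self

theorem ne_one_outside {x : G} (hxu : x ∉ Subgroup.zpowers u) : x ≠ 1 :=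
  fun e => hxu (e ▸ one_mem _)

theorem ne_z_outside {x : G} (hxu : x ∉ Subgroup.zpowers u) : x ≠ u ^ 2 ^ (a + 1) :=
  fun e => hxu (e ▸ Subgroup.npow_mem_zpowers u _)

theorem conj_t_outside {x : G} (hxu : x ∉ Subgroup.zpowers u) (hx : x ∈ D) {q : G} (hq : q ∈ D) :
    q * x * q⁻¹ ∉ Subgroup.zpowers u := fun hc => hxu (by
  have := h.conj_mem (D.inv_mem hq) hc
  rwa [show q⁻¹ * (q * x * q⁻¹) * q⁻¹⁻¹ = x by group] at this)

/-- Two elements outside the rotations whose exponents have the same parity are conjugate by a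
rotation. -/
theorem exists_conj_of_parity {i j : ℤ} (hij : Even (i - j)) :
    ∃ k : ℤ, u ^ k * (u ^ j * t) * (u ^ k)⁻¹ = u ^ i * t := by
  obtain ⟨c, hc⟩ := hij
  have key : ∀ k : ℤ, u ^ k * (u ^ j * t) * (u ^ k)⁻¹ = u ^ (k * (1 - s) + j) * t := fun k => by
    calc u ^ k * (u ^ j * t) * (u ^ k)⁻¹ = u ^ k * u ^ j * (t * u ^ (-k) * t⁻¹) * t := by group
      _ = _ := by rw [h.conj_t, ← zpow_add, ← zpow_add]; congr 2; ring
  simp only [key]
  rcases h.hcase with ⟨rfl, -⟩ | ⟨ha, rfl, -⟩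
  · refine ⟨c, ?_⟩
    congr 1
    exact h.pow_congr ⟨0, by linear_combination (-1 : ℤ) * hc⟩
  · refine ⟨c * (1 + 2 ^ a), ?_⟩
    congr 1
    obtain ⟨b, rfl⟩ : ∃ b, a = b + 1 := ⟨a - 1, by omega⟩
    refine h.pow_congr ⟨-(c * 2 ^ b), ?_⟩
    linear_combination (-1 : ℤ) * hc

/-- The exponent is one or minus one modulo two on the classes outside the rotations. -/
theorem parity_conj {i : ℤ} {q : G} (hq : q ∈ D) :
    ∃ j : ℤ, Even (j - i) ∧ q * (u ^ i * t) * q⁻¹ = u ^ j * t := by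
  obtain ⟨c, hc⟩ := h.s_odd
  have hrot : ∀ k j : ℤ, u ^ k * (u ^ j * t) * (u ^ k)⁻¹ = u ^ (k * (1 - s) + j) * t := fun k j => by
    calc u ^ k * (u ^ j * t) * (u ^ k)⁻¹ = u ^ k * u ^ j * (t * u ^ (-k) * t⁻¹) * t := by group
      _ = _ := by rw [h.conj_t, ← zpow_add, ← zpow_add]; congr 2; ring
  by_cases hqu : q ∈ Subgroup.zpowers u
  · obtain ⟨k, rfl⟩ := hqu
    exact ⟨_, ⟨-(k * c), by rw [hc]; ring⟩, hrot k i⟩
  · obtain ⟨k, rfl⟩ := h.exists_eq hq hqu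
    refine ⟨k * (1 - s) + s * i, ⟨-(k * c) + c * i, by rw [hc]; ring⟩, ?_⟩
    calc u ^ k * t * (u ^ i * t) * (u ^ k * t)⁻¹ = u ^ k * ((t * u ^ i * t⁻¹) * t) * (u ^ k)⁻¹ := by
          group
      _ = _ := by rw [h.conj_t, hrot]

theorem mem_zpowers_of_orderOf {x : G} (hx : x ∈ D) (h5 : 5 ≤ orderOf x) :
    x ∈ Subgroup.zpowers u := by
  by_contra hxu
  have := orderOf_le_of_pow_eq_one (x := x) (by norm_num) (h.pow_four_outside hx hxu)
  omega

theorem isOfFinOrder_u : IsOfFinOrder u := orderOf_pos_iff.1 (by rw [h.hord]; positivity)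

theorem mem_zpowers_of_dvd [Finite G] {x y : G} (hx : x ∈ Subgroup.zpowers u)
    (hy : y ∈ Subgroup.zpowers u) (hd : orderOf y ∣ orderOf x) : y ∈ Subgroup.zpowers x := by
  obtain ⟨c, hc⟩ := hd
  have hpos := orderOf_pos x
  have hc0 : c ≠ 0 := fun e => by rw [hc, e, mul_zero] at hpos; exact lt_irrefl 0 hpos
  have hord : orderOf (x ^ c) = orderOf y := by
    rw [orderOf_pow_of_dvd hc0 ⟨orderOf y, by rw [hc, mul_comm]⟩, hc,
      Nat.mul_div_cancel _ (Nat.pos_of_ne_zero hc0)]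
  exact Subgroup.zpowers_le.2 (Subgroup.npow_mem_zpowers x c)
    (Dihedral.mem_zpowers_of_orderOf_eq (Subgroup.pow_mem _ hx c) hy hord.symm)

theorem v_mem_zpowers [Finite G] {x : G} (hx : x ∈ Subgroup.zpowers u) (h1 : x ≠ 1)
    (hz : x ≠ u ^ 2 ^ (a + 1)) : u ^ 2 ^ a ∈ Subgroup.zpowers x := by
  obtain ⟨k, hk⟩ := h.exists_orderOf (h.zpowers_le hx)
  refine h.mem_zpowers_of_dvd hx (Subgroup.npow_mem_zpowers u _) ?_
  rw [h.orderOf_v, hk]
  rcases k with _ | _ | k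
  · exact absurd (orderOf_eq_one_iff.1 (by rw [hk, pow_zero])) h1
  · exfalso
    have hm : u ^ 2 ^ (a + 1) ∈ Subgroup.zpowers x :=
      h.mem_zpowers_of_dvd hx (Subgroup.npow_mem_zpowers u _) (by rw [h.orderOf_z, hk]; rfl)
    obtain ⟨i, hi⟩ := hm
    have h2 : x ^ (2 : ℤ) = 1 := by
      rw [show (2 : ℤ) = ((2 : ℕ) : ℤ) from rfl, zpow_natCast, ← show orderOf x = 2 by rw [hk]; rfl,
        pow_orderOf_eq_one]
    rcases Int.even_or_odd i with ⟨c, rfl⟩ | ⟨c, rfl⟩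
    · exact h.z_ne_one (hi.symm.trans (show x ^ (c + c) = 1 by
        rw [← two_mul, zpow_mul, h2, one_zpow]))
    · exact hz ((show x = x ^ (2 * c + 1) by
        rw [zpow_add_one, zpow_mul, h2, one_zpow, one_mul]).trans hi)
  · exact ⟨2 ^ k, by ring⟩

/-- An element of odd order normalizing a subgroup of `D` and commuting with the element of order
four centralizes it. -/
theorem mem_centralizer_of_odd [Finite G] {Q : Subgroup G} (hQ : Q ≤ D) {g : G}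
    (hg : Odd (orderOf g)) (hgQ : ∀ q ∈ Q, g * q * g⁻¹ ∈ Q)
    (hgv : g * u ^ 2 ^ a * g⁻¹ = u ^ 2 ^ a) : ∀ q ∈ Q, g * q * g⁻¹ = q := by
  have hord : ∀ q, orderOf (g * q * g⁻¹) = orderOf q := fun q =>
    orderOf_injective (MulAut.conj g).toMonoidHom (MulAut.conj g).injective q
  obtain ⟨c, hc⟩ := BlockChar.Tame.IsTame.exists_generator (x := u) Q
  have hcQ : c ∈ Q ⊓ Subgroup.zpowers u := hc ▸ Subgroup.mem_zpowers c
  obtain ⟨k, hk⟩ := h.exists_orderOf (hQ hcQ.1)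
  have hfixc : g * c * g⁻¹ = c := by
    by_cases h5 : 5 ≤ orderOf c
    · have hin : g * c * g⁻¹ ∈ Subgroup.zpowers c := hc ▸
        ⟨hgQ c hcQ.1, h.mem_zpowers_of_orderOf (hQ (hgQ c hcQ.1)) (by rwa [hord])⟩
      exact BlockChar.Tame.commute_of_normalize_cyclic hg hk hin
    · have hd : orderOf c ∣ orderOf (u ^ 2 ^ a) := by
        rw [h.orderOf_v, hk]
        rcases k with _ | _ | _ | k
        · exact one_dvd _
        · exact ⟨2, rfl⟩
        · exact dvd_refl _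
        · exfalso
          have : 1 ≤ 2 ^ k := Nat.one_le_two_pow
          rw [hk, pow_succ, pow_succ, pow_succ] at h5
          omega
      obtain ⟨i, hi⟩ := h.mem_zpowers_of_dvd (Subgroup.npow_mem_zpowers u _) hcQ.2 hd
      rw [← hi]
      show g * (u ^ 2 ^ a) ^ i * g⁻¹ = _
      rw [← conj_zpow, hgv]
  have hfix : ∀ q ∈ Q, q ∈ Subgroup.zpowers u → g * q * g⁻¹ = q := by
    intro q hq hqu
    obtain ⟨i, rfl⟩ : q ∈ Subgroup.zpowers c := hc ▸ ⟨hq, hqu⟩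
    show g * c ^ i * g⁻¹ = c ^ i
    rw [← conj_zpow, hfixc]
  intro q hq
  by_cases hqu : q ∈ Subgroup.zpowers u
  · exact hfix q hq hqu
  have hgq := hgQ q hq
  have hout : g * q * g⁻¹ ∉ Subgroup.zpowers u := fun hin => hqu (by
    have h1 : g * q * g⁻¹ = q := mul_left_cancel (mul_right_cancel (hfix _ hgq hin))
    rwa [h1] at hin)
  have hdu : q⁻¹ * (g * q * g⁻¹) ∈ Subgroup.zpowers u :=
    (h.mul_mem_iff (D.inv_mem (hQ hq)) (hQ hgq)).2
      ⟨fun hh => absurd (inv_mem_iff.1 hh) hqu, fun hh => absurd hh hout⟩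
  set d := q⁻¹ * (g * q * g⁻¹) with hd
  have hdQ : d ∈ Q := Q.mul_mem (Q.inv_mem hq) hgq
  have hgd : g * d * g⁻¹ = d := hfix d hdQ hdu
  have hpow : ∀ i : ℕ, g ^ i * q * (g ^ i)⁻¹ = q * d ^ i := by
    intro i
    induction i with
    | zero => simp
    | succ i ih =>
      calc g ^ (i + 1) * q * (g ^ (i + 1))⁻¹ = g * (g ^ i * q * (g ^ i)⁻¹) * g⁻¹ := by
            rw [pow_succ' g, mul_inv_rev]; group
        _ = (g * q * g⁻¹) * (g * d * g⁻¹) ^ i := by rw [ih, conj_pow]; group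
        _ = q * d ^ (i + 1) := by rw [hgd, pow_succ' d, ← mul_assoc q, hd, mul_inv_cancel_left]
  have h1 := hpow (orderOf g)
  rw [pow_orderOf_eq_one, one_mul, inv_one, mul_one, left_eq_mul] at h1
  obtain ⟨j, hj⟩ := h.exists_orderOf (hQ hdQ)
  have hdv := orderOf_dvd_of_pow_eq_one h1
  rw [hj] at hdv
  have hco : Nat.Coprime (2 ^ j) (orderOf g) := (Nat.coprime_two_left.2 hg).pow_left _
  have hd1 : d = 1 := orderOf_eq_one_iff.1 (hj.trans (Nat.eq_one_of_dvd_coprimes hco dvd_rfl hdv))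
  rw [hd, inv_mul_eq_one] at hd1
  exact hd1.symm

end Shape

end Cfsg.Agent.Blocks.Tame2
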